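import Cfsg.Agent.OddHalf.D9.M22.Lift

/-!
# D9: `K = 4.M22` (helper322)

`EData X E a b`: the facts on `X = M22`; `π : K → X` a perfect central extension, `Z(K) = ⟨r⟩` of order 4.

* `Four.sq_cases` : `k² ∈ Z(K)` implies `k² ∈ {1, r²}`;
* `Four.nonab` : the inverse image of `E` is not abelian;
* `Four.outSq` : `OutSq r²`.
-/

set_option autoImplicit false

namespace Cfsg.Agent.OddHalf.D9.M22.CovFour

open Subgroup
open scoped Pointwise
open Cfsg.Agent.OddHalf.D9.CovTwo Cfsg.Agent.OddHalf.D9.M22.Lift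

universe u v

/-- The facts on `M22`. -/
structure EData (X : Type v) [Group X] (E : Subgroup X) (a b : X) : Prop where
  sq : ∀ x ∈ E, x * x = 1
  aE : ∀ x ∈ E, a * x * a⁻¹ ∈ E
  bE : ∀ x ∈ E, b * x * b⁻¹ ∈ E
  aa : a * a = 1
  bb : b * b = 1
  ab : (a * b) ^ 4 = 1
  rot : ∀ i : ℕ, (a * b) ^ i ∈ E → 4 ∣ i
  refl : ∀ i : ℕ, (a * b) ^ i * a ∉ E
  odd : ∀ S : Subgroup X, E ≤ S → a ∈ S → b ∈ S → IsPGroup 2 ↥S → Odd S.index
  four : ∃ x ∈ E, ∃ y ∈ E, x ≠ 1 ∧ y ≠ 1 ∧ x ≠ y
  one : ∀ x y : X, x * x = 1 → x ≠ 1 → y * y = 1 → y ≠ 1 → IsConj x y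
  outer : ∀ β : MulAut X, β * β = 1 → (∀ x, β ≠ MulAut.conj x) →
    ∃ g : X, ∀ x ∈ E, β (g * x * g⁻¹) = g * x * g⁻¹
  ord3 : OrdThreeX X
  out2 : OutTwo X

/-- the transfer argument -/
theorem transfer_false {K : Type u} [Group K] [Finite K] (hperf : commutator K = ⊤) {P L : Subgroup K} {r : K}
    (hr : r ∈ center K) (hodd : Odd P.index) (hrP : r ∈ P) (hrL : r ∉ L) (hrr : r * r ∈ L)
    (hcov : ∀ p ∈ P, p ∈ L ∨ p * r ∈ L) : False := by
  classical
  have hc : ∀ k, r * k = k * r := fun k => (mem_center_iff.1 hr k).symm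
  have key : ∀ p ∈ P, p ∉ L → ∀ q ∈ P, (p * q ∈ L ↔ q ∉ L) := by
    intro p hp hpL q hq
    have hpr : p * r ∈ L := (hcov p hp).resolve_left hpL
    constructor
    · intro h1 h2
      exact hpL ((L.mul_mem_cancel_right h2).1 h1)
    · intro h1
      have hqr : q * r ∈ L := (hcov q hq).resolve_left h1
      have h2 := L.mul_mem hpr hqr
      have h3 : p * r * (q * r) = p * q * (r * r) := by
        calc p * r * (q * r) = p * (r * q) * r := by group
          _ = p * (q * r) * r := by rw [hc]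
          _ = p * q * (r * r) := by group
      rw [h3] at h2
      exact (L.mul_mem_cancel_right hrr).1 h2
  obtain ⟨φ, hφ⟩ : ∃ φ : ↥P →* ℤˣ, ∀ p, φ p = if (p : K) ∈ L then 1 else -1 := by
    refine ⟨MonoidHom.mk' (fun p => if (p : K) ∈ L then 1 else -1) ?_, fun _ => rfl⟩
    intro p q
    rw [Subgroup.coe_mul]
    by_cases hp : (p : K) ∈ L
    · by_cases hq : (q : K) ∈ L
      · rw [if_pos hp, if_pos hq, if_pos (L.mul_mem hp hq), mul_one]
      · rw [if_pos hp, if_neg hq, if_neg (fun h => hq ((L.mul_mem_cancel_left hp).1 h)), one_mul]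
    · by_cases hq : (q : K) ∈ L
      · rw [if_neg hp, if_pos hq, if_neg (fun h => hp ((L.mul_mem_cancel_right hq).1 h)), mul_one]
      · rw [if_neg hp, if_neg hq, if_pos ((key p p.2 hp q q.2).2 hq)]
        rfl
  have h1 : commutator K ≤ φ.transfer.ker := Abelianization.commutator_subset_ker _
  rw [hperf] at h1
  have h2 : φ.transfer r = 1 := h1 (mem_top r)
  have hkey : ∀ (k : ℕ) (g₀ : K), g₀⁻¹ * r ^ k * g₀ ∈ P → g₀⁻¹ * r ^ k * g₀ = r ^ k := by
    intro k g₀ _
    have h3 : r ^ k * g₀ = g₀ * r ^ k := (mem_center_iff.1 (pow_mem hr k) g₀).symm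
    rw [mul_assoc, h3, inv_mul_cancel_left]
  rw [MonoidHom.transfer_eq_pow φ r hkey] at h2
  have h3 : φ ⟨r ^ P.index, MonoidHom.transfer_eq_pow_aux r hkey⟩ = φ ⟨r, hrP⟩ ^ P.index := by
    rw [← map_pow]
    rfl
  rw [h3, hφ, if_neg hrL, hodd.neg_one_pow] at h2
  exact absurd h2 (by decide)

/-- `Z(K) = ⟨r⟩` of order 4 -/
structure Four {K : Type u} [Group K] (r : K) : Prop where
  mem : r ∈ center K
  cases : ∀ c ∈ center K, c = 1 ∨ c = r ∨ c = r * r ∨ c = r * r * r
  r4 : r * r * (r * r) = 1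
  r2 : r * r ≠ 1

/-- elements of a group generated by two involutions -/
theorem mem_dihedral {G : Type*} [Group G] {a b : G} (ha : a * a = 1) (hb : b * b = 1)
    {n : ℕ} (hn : 0 < n) (hab : (a * b) ^ n = 1) {x : G} (hx : x ∈ closure ({a, b} : Set G)) :
    ∃ i : ℕ, x = (a * b) ^ i ∨ x = (a * b) ^ i * a := by
  have hai : a⁻¹ = a := inv_eq_of_mul_eq_one_left ha
  have hbi : b⁻¹ = b := inv_eq_of_mul_eq_one_left hb
  -- `a (ab)^i = (ab)^{(n-1) i} a`
  have h1 : ∀ i : ℕ, (a * b) ^ i * a = a * (b * a) ^ i := by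
    intro i
    induction i with
    | zero => simp
    | succ i ih =>
      calc (a * b) ^ (i + 1) * a = (a * b) * ((a * b) ^ i * a) := by rw [pow_succ']; group
        _ = (a * b) * (a * (b * a) ^ i) := by rw [ih]
        _ = a * (b * a) ^ (i + 1) := by rw [pow_succ' (b * a)]; simp only [mul_assoc]
  have h2 : b * a = (a * b) ^ (n - 1) := by
    have h3 : (a * b) * (a * b) ^ (n - 1) = 1 := by
      rw [← pow_succ', Nat.sub_add_cancel hn, hab]
    have h4 : (a * b)⁻¹ = b * a := by rw [mul_inv_rev, hai, hbi]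
    rw [← h4]
    exact inv_eq_of_mul_eq_one_right h3
  induction hx using closure_induction'' with
  | one => exact ⟨0, Or.inl (pow_zero _).symm⟩
  | mem x hx =>
    rcases hx with rfl | rfl
    · exact ⟨0, Or.inr (by simp)⟩
    · refine ⟨n - 1, Or.inr ?_⟩
      rw [← h2, mul_assoc, ha, mul_one]
  | inv_mem x hx =>
    rcases hx with rfl | rfl
    · exact ⟨0, Or.inr (by rw [hai]; simp)⟩
    · refine ⟨n - 1, Or.inr ?_⟩
      rw [hbi, ← h2, mul_assoc, ha, mul_one]
  | mul x y _ _ hx hy =>
    obtain ⟨i, hi⟩ := hx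
    obtain ⟨j, hj⟩ := hy
    have h5 : ∀ j : ℕ, a * (a * b) ^ j = ((a * b) ^ (n - 1)) ^ j * a := by
      intro j
      rw [← h2]
      induction j with
      | zero => simp
      | succ j ih =>
        calc a * (a * b) ^ (j + 1) = a * (a * b) ^ j * (a * b) := by rw [pow_succ]; group
          _ = (b * a) ^ j * a * (a * b) := by rw [ih]
          _ = (b * a) ^ j * (a * a) * b := by group
          _ = (b * a) ^ j * b := by rw [ha, mul_one]
          _ = (b * a) ^ j * b * (a * a) := by rw [ha, mul_one]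
          _ = (b * a) ^ (j + 1) * a := by rw [pow_succ (b * a)]; simp only [mul_assoc]
    rcases hi with rfl | rfl
    · rcases hj with rfl | rfl
      · exact ⟨i + j, Or.inl (pow_add _ _ _).symm⟩
      · exact ⟨i + j, Or.inr (by rw [pow_add, mul_assoc])⟩
    · rcases hj with rfl | rfl
      · refine ⟨i + (n - 1) * j, Or.inr ?_⟩
        rw [mul_assoc, h5, ← pow_mul, pow_add, mul_assoc]
      · refine ⟨i + (n - 1) * j, Or.inl ?_⟩
        calc (a * b) ^ i * a * ((a * b) ^ j * a) = (a * b) ^ i * (a * (a * b) ^ j) * a := by group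
          _ = (a * b) ^ i * (((a * b) ^ (n - 1)) ^ j * a) * a := by rw [h5]
          _ = (a * b) ^ i * ((a * b) ^ (n - 1)) ^ j * (a * a) := by group
          _ = (a * b) ^ (i + (n - 1) * j) := by rw [ha, mul_one, ← pow_mul, pow_add]

namespace Four

variable {K : Type u} [Group K] {X : Type v} [Group X] {π : K →* X} {E : Subgroup X} {a b : X} {r : K}

theorem rc (R : Four r) (k : K) : r * k = k * r := Cov.cen R.mem k

theorem cen4 (R : Four r) {c : K} (hc : c ∈ center K) : c * c * (c * c) = 1 := by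
  have h4 := R.r4
  rcases R.cases c hc with rfl | rfl | rfl | rfl
  · simp
  · exact h4
  · rw [h4, one_mul]
  · calc r * r * r * (r * r * r) * (r * r * r * (r * r * r))
        = (r * r * (r * r)) * (r * r * (r * r)) * (r * r * (r * r)) := by group
      _ = 1 := by rw [h4]; group

theorem cen2 (R : Four r) {c : K} (hc : c ∈ center K) (h : c * c = 1) : c = 1 ∨ c = r * r := by
  rcases R.cases c hc with rfl | rfl | rfl | rfl
  · exact Or.inl rfl
  · exact absurd h R.r2
  · exact Or.inr rfl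
  · exfalso
    apply R.r2
    have h4 := R.r4
    have h5 : r * r * (r * r) * (r * r) = r * r * r * (r * r * r) := by simp only [mul_assoc]
    rwa [h4, h, one_mul] at h5

/-- an element of the centre whose square is not 1 has square `r²` -/
theorem cen_sq (R : Four r) {c : K} (hc : c ∈ center K) : c * c = 1 ∨ c * c = r * r := by
  apply R.cen2 (mul_mem hc hc) (R.cen4 hc)

/-- lifts of commuting elements of `X` -/
theorem comm_lift (C : Cov π) {x y : K} (h : π x * π y = π y * π x) : ∃ c ∈ center K, x * y = y * x * c :=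
  C.eq_mul (by rw [map_mul, map_mul, h])

/-- no element has square `r` or `r⁻¹` -/
theorem sq_cases (C : Cov π) (D : EData X E a b) (R : Four r) {k : K} (h : k * k ∈ center K) :
    k * k = 1 ∨ k * k = r * r := by
  apply R.cen2 h
  by_contra hne
  have hP0 : k * k * (k * k) = r * r := (R.cen_sq h).resolve_left hne
  have hk : k ∉ center K := fun hk => hne (R.cen4 hk)
  have hk1 : π k ≠ 1 := fun h1 => hk ((C.ker _).1 h1)
  have hk2 : π k * π k = 1 := by rw [← map_mul]; exact (C.ker _).2 h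
  -- every lift of an involution has the same property
  have hP : ∀ l : K, π l * π l = 1 → π l ≠ 1 → l * l * (l * l) = r * r := by
    intro l h1 h2
    obtain ⟨x, hx⟩ := isConj_iff.1 (D.one _ _ hk2 hk1 h1 h2)
    obtain ⟨g, rfl⟩ := C.surj x
    obtain ⟨c, hc, hl⟩ := C.eq_mul (k := l) (l := g * k * g⁻¹) (by
      rw [map_mul, map_mul, map_inv, hx])
    have hkk : ∀ y, k * k * y = y * (k * k) := Cov.cen h
    have h3 : l * l = k * k * (c * c) := by
      rw [hl]
      calc g * k * g⁻¹ * c * (g * k * g⁻¹ * c) = g * k * g⁻¹ * (c * (g * k * g⁻¹)) * c := by group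
        _ = g * k * g⁻¹ * ((g * k * g⁻¹) * c) * c := by rw [Cov.cen hc]
        _ = g * (k * k * g⁻¹) * (c * c) := by group
        _ = g * (g⁻¹ * (k * k)) * (c * c) := by rw [hkk]
        _ = k * k * (c * c) := by group
    have hcc := R.cen4 hc
    rw [h3]
    have h4 : ∀ y, c * c * y = y * (c * c) := Cov.cen (mul_mem hc hc)
    calc k * k * (c * c) * (k * k * (c * c)) = k * k * (c * c * (k * k)) * (c * c) := by group
      _ = k * k * (k * k * (c * c)) * (c * c) := by rw [h4]
      _ = k * k * (k * k) * (c * c * (c * c)) := by group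
      _ = r * r := by rw [hP0, hcc, mul_one]
  obtain ⟨x, hx, y, hy, hx1, hy1, hxy⟩ := D.four
  have hxy' : x * y = y * x := by
    have h1 := D.sq _ (mul_mem hx hy)
    have h2 := D.sq _ hx
    have h3 := D.sq _ hy
    calc x * y = x * (x * y * (x * y)) * y := by rw [h1, mul_one]
      _ = (x * x) * y * x * (y * y) := by group
      _ = y * x := by rw [h2, h3]; group
  obtain ⟨x', rfl⟩ := C.surj x
  obtain ⟨y', rfl⟩ := C.surj y
  obtain ⟨c, hc, hcxy⟩ := comm_lift C hxy'
  have hPx := hP x' (D.sq _ hx) hx1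
  have hPy := hP y' (D.sq _ hy) hy1
  have hPw := hP (x' * y') (by rw [map_mul]; exact D.sq _ (mul_mem hx hy)) (by
    rw [map_mul]
    intro h1
    apply hxy
    have h2 := D.sq _ hy
    exact mul_right_cancel (h1.trans h2.symm))
  have hx2 : x' * x' ∈ center K := (C.ker _).1 (by rw [map_mul]; exact D.sq _ hx)
  have hy2 : y' * y' ∈ center K := (C.ker _).1 (by rw [map_mul]; exact D.sq _ hy)
  have hcc : ∀ k, c * k = k * c := Cov.cen hc
  -- `c² = 1`
  have hc2 : c * c = 1 := by
    have h1 : x' * x' * y' = y' * (x' * x') * (c * c) := by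
      calc x' * x' * y' = x' * (x' * y') := by group
        _ = x' * (y' * x' * c) := by rw [hcxy]
        _ = (x' * y') * x' * c := by group
        _ = (y' * x' * c) * x' * c := by rw [hcxy]
        _ = y' * x' * (c * x') * c := by group
        _ = y' * x' * (x' * c) * c := by rw [hcc]
        _ = y' * (x' * x') * (c * c) := by group
    rw [Cov.cen hx2 y'] at h1
    exact (mul_eq_left.1 h1.symm)
  have hyx : y' * x' = x' * y' * c := by
    rw [hcxy, mul_assoc (y' * x'), hc2, mul_one]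
  have h1 : x' * y' * (x' * y') = x' * x' * (y' * y') * c := by
    calc x' * y' * (x' * y') = x' * (y' * x') * y' := by group
      _ = x' * (x' * y' * c) * y' := by rw [hyx]
      _ = x' * x' * y' * (c * y') := by group
      _ = x' * x' * y' * (y' * c) := by rw [hcc]
      _ = x' * x' * (y' * y') * c := by group
  have h2 : x' * y' * (x' * y') * (x' * y' * (x' * y')) = 1 := by
    rw [h1]
    have e1 : ∀ k, x' * x' * k = k * (x' * x') := Cov.cen hx2
    have e2 : ∀ k, y' * y' * k = k * (y' * y') := Cov.cen hy2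
    calc x' * x' * (y' * y') * c * (x' * x' * (y' * y') * c)
        = x' * x' * (y' * y') * (c * (x' * x' * (y' * y'))) * c := by group
      _ = x' * x' * (y' * y') * ((x' * x' * (y' * y')) * c) * c := by rw [hcc]
      _ = x' * x' * ((y' * y') * (x' * x')) * (y' * y') * (c * c) := by group
      _ = x' * x' * ((x' * x') * (y' * y')) * (y' * y') * (c * c) := by rw [e2]
      _ = (x' * x' * (x' * x')) * ((y' * y') * (y' * y')) * (c * c) := by group
      _ = r * r * (r * r) := by rw [hPx, hPy, hc2, mul_one]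
      _ = 1 := R.r4
  rw [hPw] at h2
  exact R.r2 h2

/-- involutions lift to involutions -/
theorem exists_inv (C : Cov π) (D : EData X E a b) (R : Four r) {x : X} (hx : x * x = 1) :
    ∃ f, π f = x ∧ f * f = 1 := by
  obtain ⟨k, rfl⟩ := C.surj x
  rcases R.sq_cases C D (k := k) ((C.ker _).1 (by rw [map_mul, hx])) with h | h
  · exact ⟨k, rfl, h⟩
  · refine ⟨k * r, ?_, ?_⟩
    · rw [map_mul, (C.ker r).2 R.mem, mul_one]
    · calc k * r * (k * r) = k * (r * k) * r := by group
        _ = k * (k * r) * r := by rw [R.rc]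
        _ = k * k * (r * r) := by group
        _ = 1 := by rw [h, R.r4]

/-- the inverse image of `E` is not abelian -/
theorem nonab [Finite K] (C : Cov π) (D : EData X E a b) (R : Four r) :
    ∃ x y : K, π x ∈ E ∧ π y ∈ E ∧ x * y ≠ y * x := by
  by_contra hcon
  push Not at hcon
  -- `F₀`
  let F : Subgroup K :=
    { carrier := {f | π f ∈ E ∧ f * f = 1}
      one_mem' := ⟨by rw [map_one]; exact E.one_mem, one_mul 1⟩
      mul_mem' := by
        rintro f g ⟨hf, hf2⟩ ⟨hg, hg2⟩
        refine ⟨by rw [map_mul]; exact mul_mem hf hg, ?_⟩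
        calc f * g * (f * g) = f * (g * f) * g := by group
          _ = f * (f * g) * g := by rw [hcon g f hg hf]
          _ = f * f * (g * g) := by group
          _ = 1 := by rw [hf2, hg2, one_mul]
      inv_mem' := by
        rintro f ⟨hf, hf2⟩
        refine ⟨by rw [map_inv]; exact inv_mem hf, ?_⟩
        rw [← mul_inv_rev, hf2, inv_one] }
  have hF : ∀ f, f ∈ F ↔ π f ∈ E ∧ f * f = 1 := fun f => Iff.rfl
  obtain ⟨â, hâ, hâ2⟩ := R.exists_inv C D D.aa
  obtain ⟨c, hc, hc2⟩ := R.exists_inv C D D.bb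
  have hai : a⁻¹ = a := inv_eq_of_mul_eq_one_left D.aa
  have hbi : b⁻¹ = b := inv_eq_of_mul_eq_one_left D.bb
  have hz := R.r4
  -- `(âĉ)⁴`
  have hac4 : (â * c) ^ 4 = 1 ∨ (â * c) ^ 4 = r * r := by
    have h1 : (â * c) ^ 4 = (â * c) ^ 2 * (â * c) ^ 2 := by rw [← pow_add]
    rw [h1]
    apply R.sq_cases C D
    apply (C.ker _).1
    rw [← h1, map_pow, map_mul, hâ, hc, D.ab]
  have hac8 : (â * c) ^ 8 = 1 := by
    have h1 : (â * c) ^ 8 = (â * c) ^ 4 * (â * c) ^ 4 := by rw [← pow_add]
    rw [h1]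
    rcases hac4 with h | h <;> rw [h]
    · rw [one_mul]
    · exact hz
  let W : Subgroup K := closure {â, c}
  have hWel : ∀ w ∈ W, ∃ i : ℕ, w = (â * c) ^ i ∨ w = (â * c) ^ i * â := fun w hw =>
    mem_dihedral hâ2 hc2 (by norm_num) hac8 hw
  -- `W` normalizes `F₀`
  have hn1 : ∀ (g : K) (x : X), π g = x → (∀ y ∈ E, x * y * x⁻¹ ∈ E) → ∀ f ∈ F, g * f * g⁻¹ ∈ F := by
    rintro g x rfl hx f ⟨hf, hf2⟩
    refine ⟨by rw [map_mul, map_mul, map_inv]; exact hx _ hf, ?_⟩
    calc g * f * g⁻¹ * (g * f * g⁻¹) = g * (f * f) * g⁻¹ := by group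
      _ = 1 := by rw [hf2]; group
  have hâi : â⁻¹ = â := inv_eq_of_mul_eq_one_left hâ2
  have hci : c⁻¹ = c := inv_eq_of_mul_eq_one_left hc2
  have hWN : W ≤ normalizer (F : Set K) := by
    rw [le_normalizer_iff]
    intro w hw
    induction hw using closure_induction'' with
    | one => intro f hf; simpa using hf
    | mem x hx =>
      rcases hx with rfl | rfl
      · exact hn1 _ a hâ D.aE
      · exact hn1 _ b hc D.bE
    | inv_mem x hx =>
      rcases hx with rfl | rfl
      · rw [hâi]; exact hn1 _ a hâ D.aE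
      · rw [hci]; exact hn1 _ b hc D.bE
    | mul x y _ _ hx hy =>
      intro f hf
      have h1 := hx _ (hy f hf)
      have h2 : x * y * f * (x * y)⁻¹ = x * (y * f * y⁻¹) * x⁻¹ := by group
      rwa [h2]
  let L : Subgroup K := W ⊔ F
  have hL : ∀ x, x ∈ L ↔ ∃ w ∈ W, ∃ f ∈ F, w * f = x := by
    intro x
    have h1 := coe_mul_of_left_le_normalizer_right W F hWN
    change x ∈ ((W ⊔ F : Subgroup K) : Set K) ↔ _
    rw [h1]
    exact Set.mem_mul
  have hzF : r * r ∈ F := by
    refine ⟨?_, hz⟩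
    rw [(C.ker _).2 (mul_mem R.mem R.mem)]
    exact E.one_mem
  have hzL : r * r ∈ L := (le_sup_right : F ≤ L) hzF
  -- `r ∉ L`
  have hrL : r ∉ L := by
    rw [hL]
    rintro ⟨w, hw, f, ⟨hf, hf2⟩, hwf⟩
    have h1 : π w * π f = 1 := by rw [← map_mul, hwf]; exact (C.ker _).2 R.mem
    have h2 : π w ∈ E := by
      rw [mul_eq_one_iff_eq_inv.1 h1]
      exact inv_mem hf
    obtain ⟨i, hi⟩ := hWel w hw
    have hfr : ∀ s : K, s * s = 1 → w = s → s ∈ center K → False := by
      rintro s hs rfl hsc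
      apply R.r2
      have h3 : w * f = f * w := Cov.cen hsc f
      rw [← hwf]
      calc w * f * (w * f) = w * (f * w) * f := by group
        _ = w * (w * f) * f := by rw [h3]
        _ = w * w * (f * f) := by group
        _ = 1 := by rw [hs, hf2, one_mul]
    rcases hi with hi | hi
    · have h3 : (a * b) ^ i ∈ E := by
        rw [hi, map_pow, map_mul, hâ, hc] at h2
        exact h2
      obtain ⟨j, rfl⟩ := D.rot i h3
      rw [pow_mul] at hi
      rcases hac4 with h | h
      · rw [h, one_pow] at hi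
        exact hfr 1 (one_mul 1) hi (one_mem _)
      · rw [h] at hi
        apply hfr ((r * r) ^ j) ?_ hi (pow_mem (mul_mem R.mem R.mem) _)
        rw [← (show Commute (r * r) (r * r) from rfl).mul_pow, hz, one_pow]
    · apply D.refl i
      rw [hi, map_mul, map_pow, map_mul, hâ, hc] at h2
      exact h2
  -- `L` is a 2-group
  have hF2 : IsPGroup 2 ↥F := by
    intro f
    refine ⟨1, ?_⟩
    apply Subtype.ext
    rw [pow_one, pow_two]
    exact f.2.2
  have hW2 : IsPGroup 2 ↥W := by
    rintro ⟨w, hw⟩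
    refine ⟨3, ?_⟩
    apply Subtype.ext
    change w ^ 2 ^ 3 = 1
    obtain ⟨i, hi⟩ := hWel w hw
    rcases hi with rfl | rfl
    · rw [← pow_mul, mul_comm, pow_mul, show (2 : ℕ) ^ 3 = 8 by norm_num, hac8, one_pow]
    · have h1 : (â * c) ^ i * â * ((â * c) ^ i * â) = 1 := by
        have h2 : ∀ i : ℕ, (â * c) ^ i * â = â * (c * â) ^ i := by
          intro i
          induction i with
          | zero => simp
          | succ i ih =>
            calc (â * c) ^ (i + 1) * â = (â * c) * ((â * c) ^ i * â) := by rw [pow_succ']; group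
              _ = (â * c) * (â * (c * â) ^ i) := by rw [ih]
              _ = â * (c * â) ^ (i + 1) := by rw [pow_succ' (c * â)]; simp only [mul_assoc]
        have h3 : (c * â) ^ i = ((â * c) ^ i)⁻¹ := by
          rw [← inv_pow, mul_inv_rev, hâi, hci]
        calc (â * c) ^ i * â * ((â * c) ^ i * â) = (â * c) ^ i * â * (â * (c * â) ^ i) := by rw [h2]
          _ = (â * c) ^ i * (â * â) * (c * â) ^ i := by group
          _ = 1 := by rw [hâ2, h3]; group
      rw [show (2 : ℕ) ^ 3 = 2 * 4 by norm_num, pow_mul, pow_two, h1, one_pow]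
  have hL2 : IsPGroup 2 ↥L := IsPGroup.to_sup_of_normal_right' hW2 hF2 hWN
  -- the image of `L` has odd index
  have hS2 : IsPGroup 2 ↥(L.map π) := hL2.map π
  have hES : E ≤ L.map π := by
    intro x hx
    obtain ⟨f, hf, hf2⟩ := R.exists_inv C D (D.sq x hx)
    refine ⟨f, (le_sup_right : F ≤ L) ⟨by rwa [hf], hf2⟩, hf⟩
  have haS : a ∈ L.map π := ⟨â, (le_sup_left : W ≤ L) (subset_closure (Or.inl rfl)), hâ⟩
  have hbS : b ∈ L.map π := ⟨c, (le_sup_left : W ≤ L) (subset_closure (Or.inr rfl)), hc⟩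
  have hodd := D.odd _ hES haS hbS hS2
  rw [← index_comap_of_surjective (L.map π) C.surj] at hodd
  refine transfer_false C.perf R.mem hodd ?_ hrL hzL ?_
  · change π r ∈ L.map π
    rw [(C.ker _).2 R.mem]
    exact one_mem _
  · intro p hp
    obtain ⟨l, hl, hlp⟩ := hp
    obtain ⟨s, hs, hps⟩ := C.eq_mul (k := p) (l := l) hlp.symm
    rw [hps]
    have hl' : l ∈ L := hl
    rcases R.cases s hs with rfl | rfl | rfl | rfl
    · left; rwa [mul_one]
    · right; rw [mul_assoc]; exact mul_mem hl' hzL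
    · left; exact mul_mem hl' hzL
    · right
      have h1 : l * (r * r * r) * r = l * (r * r * (r * r)) := by group
      rw [h1, hz, mul_one]
      exact hl'

/-- **`OutSq`**: `z = r²` is the square of a fixed point of every outer involution inverting `r`. -/
theorem outSq [Finite K] (C : Cov π) (D : EData X E a b) (R : Four r) : OutSq (r * r) := by
  intro α hα hout hinv
  have hz := R.r4
  have hαr : α r = r⁻¹ := hinv r R.mem rfl
  have hαz : α (r * r) = r * r := by
    rw [map_mul, hαr]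
    have h1 : r⁻¹ * r⁻¹ = (r * r)⁻¹ := (mul_inv_rev r r).symm
    rw [h1]
    exact inv_eq_of_mul_eq_one_left hz
  -- it is enough to find a fixed point with square `r²`
  suffices h : ∃ y, α y = y ∧ y * y = r * r by
    obtain ⟨y, hy, hyy⟩ := h
    exact ⟨r * r, Subgroup.subset_closure ⟨y, hy, hyy.symm⟩, Or.inl rfl⟩
  obtain ⟨β, hβ⟩ := C.exists_ind α
  have hβ2 : β * β = 1 := by
    ext x
    obtain ⟨k, rfl⟩ := C.surj x
    rw [MulAut.mul_apply, ← hβ, ← hβ, ← MulAut.mul_apply, hα]
    rfl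
  obtain ⟨g, hg⟩ := D.outer β hβ2 (C.outer_ind hβ hout)
  obtain ⟨g', rfl⟩ := C.surj g
  obtain ⟨x₀, y₀, hx₀, hy₀, hxy₀⟩ := R.nonab C D
  -- lifts with square 1
  obtain ⟨x, hx, hx2⟩ := R.exists_inv C D (D.sq _ hx₀)
  obtain ⟨y, hy, hy2⟩ := R.exists_inv C D (D.sq _ hy₀)
  have hxy : x * y ≠ y * x := by
    intro h
    apply hxy₀
    obtain ⟨c, hc, rfl⟩ := C.eq_mul hx.symm
    obtain ⟨d, hd, rfl⟩ := C.eq_mul hy.symm
    calc x * c * (y * d) = x * (c * y) * d := by group
      _ = x * (y * c) * d := by rw [Cov.cen hc]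
      _ = (x * y) * (c * d) := by group
      _ = (y * x) * (d * c) := by rw [h, Cov.cen hc]
      _ = y * (x * d) * c := by group
      _ = y * (d * x) * c := by rw [Cov.cen hd]
      _ = y * d * (x * c) := by group
  rw [← hx] at hx₀
  rw [← hy] at hy₀
  -- an involution over a fixed point is fixed up to `z`
  have key : ∀ f : K, π f ∈ E → f * f = 1 → α (g' * f * g'⁻¹) = g' * f * g'⁻¹ ∨
      ∃ y, α y = y ∧ y * y = r * r := by
    intro f hf hf2
    have h1 : π (α (g' * f * g'⁻¹)) = π (g' * f * g'⁻¹) := by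
      rw [hβ, map_mul π, map_mul π, map_inv π]
      exact hg _ hf
    obtain ⟨c, hc, hcf⟩ := C.eq_mul h1
    have h2 : g' * f * g'⁻¹ * (g' * f * g'⁻¹) = 1 := by
      calc g' * f * g'⁻¹ * (g' * f * g'⁻¹) = g' * (f * f) * g'⁻¹ := by group
        _ = 1 := by rw [hf2]; group
    set f' := g' * f * g'⁻¹ with hf'
    have h3 : c * c = 1 := by
      have h4 : α f' * α f' = 1 := by rw [← map_mul, h2, map_one]
      rw [hcf] at h4
      calc c * c = (f' * f') * (c * c) := by rw [h2, one_mul]
        _ = f' * (f' * c) * c := by group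
        _ = f' * (c * f') * c := by rw [Cov.cen hc]
        _ = f' * c * (f' * c) := by group
        _ = 1 := h4
    rcases R.cen2 hc h3 with rfl | rfl
    · left; rw [hcf, mul_one]
    · right
      refine ⟨f' * r, ?_, ?_⟩
      · rw [map_mul, hcf, hαr]
        group
      · calc f' * r * (f' * r) = f' * (r * f') * r := by group
          _ = f' * (f' * r) * r := by rw [R.rc]
          _ = (f' * f') * (r * r) := by group
          _ = r * r := by rw [h2, one_mul]
  rcases key x hx₀ hx2 with hfx | h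
  · rcases key y hy₀ hy2 with hfy | h
    · -- `w = x y`
      refine ⟨g' * x * g'⁻¹ * (g' * y * g'⁻¹), by rw [map_mul, hfx, hfy], ?_⟩
      have h1 : x * y * (x * y) ∈ center K := (C.ker _).1 (by
        rw [map_mul, map_mul]
        exact D.sq _ (mul_mem hx₀ hy₀))
      rcases R.sq_cases C D h1 with h2 | h2
      · exfalso
        apply hxy
        have h3 : (x * y)⁻¹ = x * y := inv_eq_of_mul_eq_one_left h2
        rw [← h3, mul_inv_rev, inv_eq_of_mul_eq_one_left hx2, inv_eq_of_mul_eq_one_left hy2]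
      · calc g' * x * g'⁻¹ * (g' * y * g'⁻¹) * (g' * x * g'⁻¹ * (g' * y * g'⁻¹))
            = g' * (x * y * (x * y)) * g'⁻¹ := by group
          _ = g' * (r * r) * g'⁻¹ := by rw [h2]
          _ = (r * r) * g' * g'⁻¹ := by rw [Cov.cen (mul_mem R.mem R.mem) g']
          _ = r * r := by group
    · exact h
  · exact h

end Four

end Cfsg.Agent.OddHalf.D9.M22.CovFour
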