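import Cfsg.Agent.OddHalf.D9.M22.Perm
import Cfsg.Agent.OddHalf.D9.M22.CovFour

/-!
# The facts `EData` for `M22`

`edata : EData Spor.M22 E22 a22 b22`.
-/

set_option autoImplicit false
set_option Elab.async false

namespace Cfsg.Agent.OddHalf.D9.M22.EDataM22

open Cfsg Cfsg.Agent.SporadicA.GolayBase Cfsg.Agent.SporadicA.GolayPerm
open Cfsg.Agent.SporadicStructure.M24El Cfsg.Agent.KFacts.MM
open Cfsg.Agent.KFacts.MM.El (pm pr weq okl)
open Cfsg.Agent.KFacts.MM.Data (WL zP)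
open Cfsg.Agent.OddHalf.D9.M22.Data (uP vP)
open Cfsg.Agent.J4Type.Aut22 (D22)
open Cfsg.Agent.OddHalf.D9.M22 Cfsg.Agent.OddHalf.D9.M22.CovFour Cfsg.Agent.OddHalf.D9.M22.Lift
open Cfsg.Agent.OddHalf.D9.CovTwo (OutTwo)

/-- the subgroup `E` of `M22` -/
def E22 : Subgroup Spor.M22 := E.subgroupOf Spor.M22

theorem mem_E22 {x : Spor.M22} : x ∈ E22 ↔ (x : Equiv.Perm GolayPt) ∈ E := Iff.rfl

noncomputable def a22 : Spor.M22 := ⟨pm uP, pm_M22 (ok22_of_nrm uP_nrm)⟩
noncomputable def b22 : Spor.M22 := ⟨pm vP, pm_M22 (ok22_of_nrm vP_nrm)⟩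

theorem isPerm_u : isPerm uP = true := Cfsg.Agent.KFacts.MM.InvM22.isPerm_of_ok (ok_of_ok22 (ok22_of_nrm uP_nrm))
theorem isPerm_v : isPerm vP = true := Cfsg.Agent.KFacts.MM.InvM22.isPerm_of_ok (ok_of_ok22 (ok22_of_nrm vP_nrm))

/-- words not in `E` -/
theorem not_mem_E {l : List ℕ} (hl : okl l = true) (h : (WL.all fun P => !(weq [P] l)) = true) : pr l ∉ E := by
  rintro ⟨P, hP, h1⟩
  have h2 := List.all_eq_true.1 h P hP
  rw [Bool.not_eq_true'] at h2
  refine El.pr_ne (okl_one (perm_of_WL hP)) hl h2 ?_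
  rw [El.pr_one]
  exact h1

theorem ab_four : (a22 * b22) ^ 4 = 1 := by
  apply Subtype.ext
  rw [show (4 : ℕ) = 2 + 2 from rfl, pow_add, pow_two]
  exact uv_four

theorem ab_pow_mod (i : ℕ) : (a22 * b22) ^ i = (a22 * b22) ^ (i % 4) := by
  conv_lhs => rw [← Nat.div_add_mod i 4, pow_add, pow_mul, ab_four, one_pow, one_mul]

theorem n1 : pr [uP, vP] ∉ E := not_mem_E (by decide +kernel) (by decide +kernel)
theorem n2 : pr [uP, vP, uP, vP] ∉ E := not_mem_E (by decide +kernel) (by decide +kernel)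
theorem n3 : pr [uP, vP, uP, vP, uP, vP] ∉ E := not_mem_E (by decide +kernel) (by decide +kernel)
theorem r0 : pr [uP] ∉ E := not_mem_E (by decide +kernel) (by decide +kernel)
theorem r1 : pr [uP, vP, uP] ∉ E := not_mem_E (by decide +kernel) (by decide +kernel)
theorem r2 : pr [uP, vP, uP, vP, uP] ∉ E := not_mem_E (by decide +kernel) (by decide +kernel)
theorem r3 : pr [uP, vP, uP, vP, uP, vP, uP] ∉ E := not_mem_E (by decide +kernel) (by decide +kernel)

theorem rot (i : ℕ) (h : (a22 * b22) ^ i ∈ E22) : 4 ∣ i := by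
  rw [ab_pow_mod] at h
  rw [mem_E22] at h
  have h4 : i % 4 < 4 := Nat.mod_lt _ (by norm_num)
  rcases hi : i % 4 with _ | _ | _ | _ | n
  · exact Nat.dvd_of_mod_eq_zero hi
  · exfalso
    rw [hi] at h
    apply n1
    have e : pr [uP, vP] = (((a22 * b22) ^ (0 + 1) : Spor.M22) : Equiv.Perm GolayPt) := by
      simp only [El.pr_cons, El.pr_nil, mul_one, zero_add, pow_one]
      rfl
    rw [e]; exact h
  · exfalso
    rw [hi] at h
    apply n2
    have e : pr [uP, vP, uP, vP] = (((a22 * b22) ^ (0 + 1 + 1) : Spor.M22) : Equiv.Perm GolayPt) := by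
      simp only [El.pr_cons, El.pr_nil, mul_one, zero_add, pow_succ, pow_zero, one_mul, Subgroup.coe_mul]
      simp only [a22, b22, mul_assoc]
    rw [e]; exact h
  · exfalso
    rw [hi] at h
    apply n3
    have e : pr [uP, vP, uP, vP, uP, vP] = (((a22 * b22) ^ (0 + 1 + 1 + 1) : Spor.M22) : Equiv.Perm GolayPt) := by
      simp only [El.pr_cons, El.pr_nil, mul_one, zero_add, pow_succ, pow_zero, one_mul, Subgroup.coe_mul]
      simp only [a22, b22, mul_assoc]
    rw [e]; exact h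
  · omega

theorem refl (i : ℕ) : (a22 * b22) ^ i * a22 ∉ E22 := by
  intro h
  rw [ab_pow_mod, mem_E22] at h
  have h4 : i % 4 < 4 := Nat.mod_lt _ (by norm_num)
  rcases hi : i % 4 with _ | _ | _ | _ | n
  · rw [hi] at h
    apply r0
    have e : pr [uP] = (((a22 * b22) ^ 0 * a22 : Spor.M22) : Equiv.Perm GolayPt) := by
      simp only [El.pr_cons, El.pr_nil, mul_one, pow_zero, one_mul]
      rfl
    rw [e]; exact h
  · rw [hi] at h
    apply r1
    have e : pr [uP, vP, uP] = (((a22 * b22) ^ (0 + 1) * a22 : Spor.M22) : Equiv.Perm GolayPt) := by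
      simp only [El.pr_cons, El.pr_nil, mul_one, zero_add, pow_one, Subgroup.coe_mul]
      simp only [a22, b22, mul_assoc]
    rw [e]; exact h
  · rw [hi] at h
    apply r2
    have e : pr [uP, vP, uP, vP, uP] = (((a22 * b22) ^ (0 + 1 + 1) * a22 : Spor.M22) : Equiv.Perm GolayPt) := by
      simp only [El.pr_cons, El.pr_nil, mul_one, zero_add, pow_succ, pow_zero, one_mul, Subgroup.coe_mul]
      simp only [a22, b22, mul_assoc]
    rw [e]; exact h
  · rw [hi] at h
    apply r3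
    have e : pr [uP, vP, uP, vP, uP, vP, uP] =
        (((a22 * b22) ^ (0 + 1 + 1 + 1) * a22 : Spor.M22) : Equiv.Perm GolayPt) := by
      simp only [El.pr_cons, El.pr_nil, mul_one, zero_add, pow_succ, pow_zero, one_mul, Subgroup.coe_mul]
      simp only [a22, b22, mul_assoc]
    rw [e]; exact h
  · omega

theorem odd (S : Subgroup Spor.M22) (hE : E22 ≤ S) (ha : a22 ∈ S) (hb : b22 ∈ S) (h2 : IsPGroup 2 ↥S) :
    Odd S.index := by
  have hfin : Finite Spor.M22 := inferInstance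
  have h1 : P22 ≤ S.map Spor.M22.subtype := by
    unfold P22
    rw [Subgroup.closure_le]
    rintro x (hx | rfl | rfl)
    · exact ⟨⟨x, E_le hx⟩, hE hx, rfl⟩
    · exact ⟨a22, ha, rfl⟩
    · exact ⟨b22, hb, rfl⟩
  have h3 : 128 ≤ Nat.card S := by
    have h4 := Subgroup.card_le_of_le h1
    rw [Nat.card_congr (S.equivMapOfInjective Spor.M22.subtype Spor.M22.subtype_injective).toEquiv]
    exact le_trans syl_card h4
  obtain ⟨n, hn⟩ := IsPGroup.iff_card.1 h2
  have h5 : 7 ≤ n := by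
    by_contra h
    have h6 : 2 ^ n ≤ 2 ^ 6 := Nat.pow_le_pow_right (by norm_num) (by omega)
    rw [← hn] at h6
    omega
  have h6 := S.card_mul_index
  rw [Cfsg.Agent.SporadicA.MathieuRecog.card_M22, hn] at h6
  obtain ⟨m, rfl⟩ := Nat.exists_eq_add_of_le h5
  by_contra hodd
  rw [Nat.not_odd_iff_even] at hodd
  obtain ⟨k, hk⟩ := hodd
  rw [hk, pow_add] at h6
  have h7 : 256 ∣ 443520 := ⟨2 ^ m * k, by rw [← h6]; ring⟩
  exact absurd h7 (by decide)

theorem one (x y : Spor.M22) (hx : x * x = 1) (hx1 : x ≠ 1) (hy : y * y = 1) (hy1 : y ≠ 1) : IsConj x y := by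
  have key : ∀ u : Spor.M22, u * u = 1 → u ≠ 1 → IsConj (⟨pm zP, E_le zP_mem⟩ : Spor.M22) u := by
    intro u hu hu1
    obtain ⟨g, hg, e⟩ := InvM22.inv22 u u.2 (congrArg Subtype.val hu) (fun h => hu1 (Subtype.ext h))
    rw [isConj_iff]
    exact ⟨⟨g, hg⟩, Subtype.ext e.symm⟩
  exact (key x hx hx1).symm.trans (key y hy hy1)

/-- an automorphism of `M22` as an element of `D22` -/
theorem exists_D (β : MulAut Spor.M22) : ∃ h ∈ D22, ∀ x : Spor.M22,
    (β x : Equiv.Perm GolayPt) = h * x * h⁻¹ := Cfsg.Agent.J4Type.Aut22.exists_conj β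

theorem not_mem_of_outer {β : MulAut Spor.M22} {h : Equiv.Perm GolayPt}
    (hβ : ∀ x : Spor.M22, (β x : Equiv.Perm GolayPt) = h * x * h⁻¹) (hout : ∀ x, β ≠ MulAut.conj x) :
    h ∉ Spor.M22 := by
  intro hm
  apply hout ⟨h, hm⟩
  ext x
  rw [hβ]
  rfl

theorem eq_of_conj {g h : Equiv.Perm GolayPt} (hg : g ∈ D22) (hh : h ∈ D22)
    (e : ∀ x : Spor.M22, g * x * g⁻¹ = h * x * h⁻¹) : g = h := by
  have h1 : h⁻¹ * g = 1 := by
    refine Cfsg.Agent.J4Type.Aut22.eq_one_of_centralizes (D22.mul_mem (D22.inv_mem hh) hg) fun x => ?_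
    calc h⁻¹ * g * (x : Equiv.Perm GolayPt) * (h⁻¹ * g)⁻¹ = h⁻¹ * (g * x * g⁻¹) * h := by group
      _ = h⁻¹ * (h * x * h⁻¹) * h := by rw [e]
      _ = x := by group
  rw [eq_comm, ← inv_mul_eq_one]; exact h1

theorem outer (β : MulAut Spor.M22) (h2 : β * β = 1) (hout : ∀ x, β ≠ MulAut.conj x) :
    ∃ g : Spor.M22, ∀ x ∈ E22, β (g * x * g⁻¹) = g * x * g⁻¹ := by
  obtain ⟨h, hh, hβ⟩ := exists_D β
  have hn := not_mem_of_outer hβ hout
  have hsq : h * h = 1 := by
    refine eq_of_conj (D22.mul_mem hh hh) D22.one_mem fun x => ?_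
    have h3 : ((β * β) x : Equiv.Perm GolayPt) = x := by rw [h2]; rfl
    rw [MulAut.mul_apply, hβ, hβ] at h3
    calc h * h * (x : Equiv.Perm GolayPt) * (h * h)⁻¹ = h * (h * x * h⁻¹) * h⁻¹ := by group
      _ = x := h3
      _ = 1 * x * 1⁻¹ := by group
  obtain ⟨g, hg, hc⟩ := exists_outer hh hn hsq
  refine ⟨⟨g, hg⟩, fun x hx => ?_⟩
  apply Subtype.ext
  rw [hβ]
  have h3 := hc x hx
  show h * (g * x * g⁻¹) * h⁻¹ = g * (x : Equiv.Perm GolayPt) * g⁻¹
  calc h * (g * (x : Equiv.Perm GolayPt) * g⁻¹) * h⁻¹ = g * ((g⁻¹ * h * g) * x) * (g⁻¹ * h⁻¹) := by group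
    _ = g * (x * (g⁻¹ * h * g)) * (g⁻¹ * h⁻¹) := by rw [h3]
    _ = g * (x : Equiv.Perm GolayPt) * g⁻¹ := by group

theorem ord3 : OrdThreeX Spor.M22 := by
  intro t ht ht1 β hβ3 hβ2
  obtain ⟨h, hh, hβ⟩ := exists_D β
  obtain ⟨g, hg, e⟩ := InvM22.inv22 t t.2 (congrArg Subtype.val ht) (fun h => ht1 (Subtype.ext h))
  have hht : h * h = t := by
    refine eq_of_conj (D22.mul_mem hh hh) (Cfsg.Agent.J4Type.Aut22.M22_le_D22 t.2) fun x => ?_
    have h3 := congrArg Subtype.val (hβ2 x)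
    rw [hβ, hβ] at h3
    calc h * h * (x : Equiv.Perm GolayPt) * (h * h)⁻¹ = h * (h * x * h⁻¹) * h⁻¹ := by group
      _ = t * x * (t : Equiv.Perm GolayPt)⁻¹ := h3
  have hsq : (g⁻¹ * h * g) * (g⁻¹ * h * g) = 1 := by
    apply sq_of_comm
    · exact D22.mul_mem (D22.mul_mem (D22.inv_mem (Cfsg.Agent.J4Type.Aut22.M22_le_D22 hg)) hh)
        (Cfsg.Agent.J4Type.Aut22.M22_le_D22 hg)
    · intro d hd hd3 hdz
      have hy : g * d * g⁻¹ ∈ Spor.M22 := Spor.M22.mul_mem (Spor.M22.mul_mem hg hd) (Spor.M22.inv_mem hg)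
      have h3 := hβ3 ⟨g * d * g⁻¹, hy⟩ (by
        apply Subtype.ext
        show (g * d * g⁻¹) ^ 3 = 1
        calc (g * d * g⁻¹) ^ 3 = g * (d * d * d) * g⁻¹ := by rw [pow_succ, pow_two]; group
          _ = 1 := by rw [hd3]; group) (by
        apply Subtype.ext
        show g * d * g⁻¹ * t = t * (g * d * g⁻¹)
        rw [e]
        calc g * d * g⁻¹ * (g * pm zP * g⁻¹) = g * (d * pm zP) * g⁻¹ := by group
          _ = g * (pm zP * d) * g⁻¹ := by rw [hdz]
          _ = g * pm zP * g⁻¹ * (g * d * g⁻¹) := by group)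
      have h4 := congrArg Subtype.val h3
      rw [hβ] at h4
      have h5 : h * (g * d * g⁻¹) * h⁻¹ = g * d * g⁻¹ := h4
      have h6 : h * (g * d * g⁻¹) = g * d * g⁻¹ * h := by
        calc h * (g * d * g⁻¹) = h * (g * d * g⁻¹) * h⁻¹ * h := by group
          _ = g * d * g⁻¹ * h := by rw [h5]
      calc g⁻¹ * h * g * d = g⁻¹ * (h * (g * d * g⁻¹)) * g := by group
        _ = g⁻¹ * (g * d * g⁻¹ * h) * g := by rw [h6]
        _ = d * (g⁻¹ * h * g) := by group
  apply ht1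
  apply Subtype.ext
  rw [← hht]
  show h * h = 1
  calc h * h = g * ((g⁻¹ * h * g) * (g⁻¹ * h * g)) * g⁻¹ := by group
    _ = 1 := by rw [hsq]; group

theorem out2 : OutTwo (K := Spor.M22) := by
  intro α β hα hβ
  obtain ⟨g, hg, eg⟩ := exists_D α
  obtain ⟨h, hh, eh⟩ := exists_D β
  have hgn := not_mem_of_outer eg hα
  have hhn := not_mem_of_outer eh hβ
  rw [Cfsg.Agent.J4Type.Aut22.mem_M22_iff_D22] at hgn hhn
  have hm : g * h ∈ Spor.M22 := by
    rw [Cfsg.Agent.J4Type.Aut22.mem_M22_iff_D22]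
    refine ⟨D22.mul_mem hg hh, ?_⟩
    rcases ((Cfsg.Agent.J4Type.Aut22.mem_D22_iff g).1 hg).2 with h1 | h1
    · exact absurd ⟨hg, h1.1⟩ hgn
    rcases ((Cfsg.Agent.J4Type.Aut22.mem_D22_iff h).1 hh).2 with h2 | h2
    · exact absurd ⟨hh, h2.1⟩ hhn
    rw [Equiv.Perm.mul_apply, h2.1, h1.2]
  refine ⟨⟨g * h, hm⟩, ?_⟩
  apply MulEquiv.ext
  intro x
  apply Subtype.ext
  rw [MulAut.mul_apply, eg, eh]
  show g * (h * x * h⁻¹) * g⁻¹ = g * h * (x : Equiv.Perm GolayPt) * (g * h)⁻¹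
  group

theorem edata : EData Spor.M22 E22 a22 b22 where
  sq := fun x hx => Subtype.ext (E_sq (mem_E22.1 hx))
  aE := fun x hx => (nrm_pm uP_nrm).2 x hx
  bE := fun x hx => (nrm_pm vP_nrm).2 x hx
  aa := Subtype.ext uP_sq
  bb := Subtype.ext vP_sq
  ab := ab_four
  rot := rot
  refl := refl
  odd := odd
  four := by
    have m1 : pm 961365507626256404119956257276790816 ∈ E := pm_mem_E (by decide +kernel)
    have m2 : pm 972512676110088067912772961567868960 ∈ E := pm_mem_E (by decide +kernel)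
    refine ⟨⟨_, E_le m1⟩, m1, ⟨_, E_le m2⟩, m2, ?_, ?_, ?_⟩
    · intro h
      have h1 : pr [961365507626256404119956257276790816] = pr [] := by
        rw [El.pr_one, El.pr_nil]; exact congrArg Subtype.val h
      exact El.pr_ne (by decide +kernel) (by decide +kernel) (by decide +kernel) h1
    · intro h
      have h1 : pr [972512676110088067912772961567868960] = pr [] := by
        rw [El.pr_one, El.pr_nil]; exact congrArg Subtype.val h
      exact El.pr_ne (by decide +kernel) (by decide +kernel) (by decide +kernel) h1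
    · intro h
      have h1 : pr [961365507626256404119956257276790816] = pr [972512676110088067912772961567868960] := by
        rw [El.pr_one, El.pr_one]; exact congrArg Subtype.val h
      exact El.pr_ne (by decide +kernel) (by decide +kernel) (by decide +kernel) h1
  one := one
  outer := outer
  ord3 := ord3
  out2 := out2

theorem exists_edata : ∃ (E : Subgroup Spor.M22) (a b : Spor.M22), EData Spor.M22 E a b := ⟨_, _, _, edata⟩

end Cfsg.Agent.OddHalf.D9.M22.EDataM22
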