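import Cfsg.Agent.OddHalf.D9.M22.CovFour
import Cfsg.Agent.OddHalf.D9.Cut

/-!
# D9: the row `4.M22` (helper322)

`row` : the row `m22four` of `D9/Cut.lean` from the facts `EData` on `M22`.
`Cov` and the facts `OutTwo`, `OrdThree` for any perfect central extension of a group `X` with `EData`.
-/

set_option autoImplicit false

namespace Cfsg.Agent.OddHalf.D9.M22.RowFour

open Subgroup Cfsg Cfsg.Agent.OddHalf.Iface
open Cfsg.Agent.OddHalf.D9.CovTwo Cfsg.Agent.OddHalf.D9.M22.Lift Cfsg.Agent.OddHalf.D9.M22.CovFour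

universe u v

/-- the projection `K → X` -/
theorem cov_of {G : Type u} [Group G] {K : Subgroup G} (S : Std0 G K) {X : Type v} [Group X]
    (e : ↥K ⧸ center ↥K ≃* X) :
    Cov (e.toMonoidHom.comp (QuotientGroup.mk' (center ↥K))) := by
  refine ⟨?_, ?_, S.std.1.1.commutator_eq_top, ?_⟩
  · intro x
    obtain ⟨k, hk⟩ := QuotientGroup.mk_surjective (e.symm x)
    refine ⟨k, ?_⟩
    change e (QuotientGroup.mk k) = x
    rw [hk, MulEquiv.apply_symm_apply]
  · intro k
    change e (QuotientGroup.mk k) = 1 ↔ _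
    rw [map_eq_one_iff e e.injective, QuotientGroup.eq_one_iff]
  · intro c hc
    obtain ⟨n, hn⟩ := S.z2 ⟨c, hc⟩
    exact ⟨n, congrArg Subtype.val hn⟩

/-- a generator of a cyclic centre of order 4 -/
theorem exists_four {K : Type u} [Group K] (hc : IsCyclic ↥(center K)) (h4 : Nat.card ↥(center K) = 4) :
    ∃ r : K, Four r := by
  obtain ⟨r, hr⟩ := hc.exists_generator
  have hor : orderOf r = 4 := by rw [orderOf_eq_card_of_forall_mem_zpowers hr, h4]
  have h1 : r ^ 4 = 1 := by rw [← hor, pow_orderOf_eq_one]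
  refine ⟨r, r.2, ?_, ?_, ?_⟩
  · intro c hc'
    have : Finite ↥(center K) := Nat.finite_of_card_ne_zero (by rw [h4]; norm_num)
    obtain ⟨n, hn⟩ := (mem_powers_iff_mem_zpowers.2 (hr ⟨c, hc'⟩) : (⟨c, hc'⟩ : ↥(center K)) ∈ Submonoid.powers r)
    have hn' : r ^ (n % 4) = ⟨c, hc'⟩ := by
      rw [← hn]
      change r ^ (n % 4) = r ^ n
      conv_rhs => rw [← Nat.div_add_mod n 4, pow_add, pow_mul, h1, one_pow, one_mul]
    have h2 : (r : K) ^ (n % 4) = c := congrArg Subtype.val hn'
    have h3 : n % 4 < 4 := Nat.mod_lt _ (by norm_num)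
    interval_cases h : n % 4
    · left; rw [← h2, pow_zero]
    · right; left; rw [← h2, pow_one]
    · right; right; left; rw [← h2, pow_two]
    · right; right; right; rw [← h2, pow_succ, pow_two]
  · have h2 := congrArg Subtype.val h1
    calc (r : K) * r * (r * r) = (r : K) ^ 4 := by
          rw [show (4 : ℕ) = 2 + 2 from rfl, pow_add, pow_two]
      _ = 1 := h2
  · intro h
    have h2 : r ^ 2 = 1 := by rw [pow_two]; exact Subtype.ext h
    have h3 := orderOf_dvd_of_pow_eq_one h2
    rw [hor] at h3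
    exact absurd h3 (by norm_num)

/-- **The row `4.X`** -/
theorem false_four {G : Type u} [Group G] (C : Ctx G) {K : Subgroup G} (S : Std0 G K) (hc : Cyc K)
    (h4 : Nat.card ↥(center ↥K) = 4) {X : Type v} [Group X] {E : Subgroup X} {a b : X} (D : EData X E a b)
    (e : ↥K ⧸ center ↥K ≃* X) : False := by
  have := C.fin
  have := C.simple
  have hcov := cov_of S e
  set π := e.toMonoidHom.comp (QuotientGroup.mk' (center ↥K)) with hπ
  obtain ⟨r, R⟩ := exists_four (Cut.center_isCyclic S.z2 hc) h4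
  have hne : center ↥K ≠ ⊥ := by
    intro h
    rw [h, Subgroup.card_bot] at h4
    exact absurd h4 (by norm_num)
  obtain ⟨z, q, F⟩ := exists_fr C S hc hne
  have hrq : (r : G) ∈ zpowers q := F.cK r (F.Kt r r.2) fun x hx =>
    congrArg Subtype.val (mem_center_iff.1 R.mem ⟨x, hx⟩)
  have hrz : (r : G) * r = z := by
    apply F.uniq (mul_mem hrq hrq)
    · exact congrArg Subtype.val R.r4
    · intro h
      exact R.r2 (Subtype.ext h)
  subst hrz
  have hord : orderOf ((r : G) * r) = 2 := by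
    have : Fact (Nat.Prime 2) := ⟨Nat.prime_two⟩
    exact orderOf_eq_prime (by rw [pow_two]; exact F.tt) F.t1
  obtain hconj := Cfsg.Agent.StandardComponent.AltFinal.exists_conj C.na hord
  exact F.false_big (hcov.outTwo D.out2) (hcov.ordThree D.ord3) (R.outSq hcov D) hrq rfl hconj

/-- **D9, row `4.M22`**, from the facts on `M22`. -/
theorem row (D : ∃ (E : Subgroup ↥Spor.M22) (a b : ↥Spor.M22), EData ↥Spor.M22 E a b) :
    Cut.Row.{u} (fun K _ => Nat.card ↥(center K) = 4 ∧ Spor.IsoM22 (K ⧸ center K)) := by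
  intro G _ C K S hc ⟨h4, ⟨e⟩⟩
  obtain ⟨E, a, b, D⟩ := D
  exact false_four C S hc h4 D e

end Cfsg.Agent.OddHalf.D9.M22.RowFour
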