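import Cfsg.Agent.OddHalf.D9.M22.CovPair
import Cfsg.Agent.OddHalf.D9.M22.RowFour
import Cfsg.Agent.OddHalf.D9.CovTwoSmall

/-!
# D9: the row `2.M22` (helper322)

`row` : the row `m22` of `D9/Cut.lean` from the facts `PData` on `M22`.
-/

set_option autoImplicit false

namespace Cfsg.Agent.OddHalf.D9.M22.RowTwo

open Subgroup Cfsg Cfsg.Agent.OddHalf.Iface
open Cfsg.Agent.OddHalf.D9.CovTwo Cfsg.Agent.OddHalf.D9.M22.Lift Cfsg.Agent.OddHalf.D9.M22.CovPair
open Cfsg.Agent.OddHalf.D9.M22.RowFour (cov_of)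

universe u v

/-- the facts for `SquareKill` -/
theorem inFacts {K : Type u} [Group K] {X : Type v} [Group X] {π : K →* X} {E : Subgroup X} {a b : X} {z : K}
    [Finite K] (C : Cov π) (D : PData X E a b) (R : Pair z) : SquareKill.InFacts z where
  zz := R.zz
  z1 := R.z1
  zc y := (R.zc y).symm
  zu c hc _ := R.cases c (mem_center_iff.2 fun y => (hc y).symm)
  inv k hk := by
    have h1 : k * k ∈ center K := mem_center_iff.2 fun y => (hk y).symm
    have h2 : π k * π k = 1 := by rw [← map_mul]; exact (C.ker _).2 h1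
    exact ⟨1, fun y => by rw [one_mul, mul_one], by rw [mul_one]; exact R.sq_one C D h2⟩
  fix e he hec α hα hx := R.fix C D he (fun h => hec fun y => (mem_center_iff.1 h y).symm) hα hx
  nosq _ := R.nosq C D
  root _ e he hec := R.root C D he fun h => hec fun y => (mem_center_iff.1 h y).symm
  lift _ α hα hout e he hec := R.lift C D hα hout he fun h => hec fun y => (mem_center_iff.1 h y).symm
  exp2 := Pair.exp2 C D

/-- the centre of order 2 -/
theorem exists_pair {K : Type u} [Group K] (h2 : Nat.card ↥(center K) = 2) : ∃ z : K, Pair z := by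
  have : Finite ↥(center K) := Nat.finite_of_card_ne_zero (by rw [h2]; norm_num)
  obtain ⟨x, y, hxy, hall⟩ := Nat.card_eq_two_iff.1 h2
  have hcase : ∀ c : ↥(center K), c = x ∨ c = y := by
    intro c
    have h := Set.mem_univ c
    rw [← hall] at h
    simpa using h
  obtain ⟨z, hz1, hz⟩ : ∃ z : ↥(center K), z ≠ 1 ∧ ∀ c : ↥(center K), c = 1 ∨ c = z := by
    rcases hcase 1 with h | h
    · exact ⟨y, fun h' => hxy (by rw [← h, h']), fun c => by rw [h]; exact hcase c⟩
    · exact ⟨x, fun h' => hxy (by rw [← h, h']), fun c => by rw [h]; exact (hcase c).symm⟩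
  refine ⟨z, z.2, fun c hc => ?_, ?_, fun h => hz1 (Subtype.ext h)⟩
  · rcases hz ⟨c, hc⟩ with h | h
    · left; exact congrArg Subtype.val h
    · right; exact congrArg Subtype.val h
  · rcases hz (z * z) with h | h
    · exact congrArg Subtype.val h
    · exact absurd (mul_eq_left.1 h) hz1

/-- **The row `2.X`** -/
theorem false_two {G : Type u} [Group G] (C : Ctx G) {K : Subgroup G} (S : Std0 G K) (hc : Cyc K)
    (h2 : Nat.card ↥(center ↥K) = 2) {X : Type v} [Group X] {E : Subgroup X} {a b : X} (D : PData X E a b)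
    (e : ↥K ⧸ center ↥K ≃* X) : False := by
  have := C.fin
  have := C.simple
  have hcov := cov_of S e
  set π := e.toMonoidHom.comp (QuotientGroup.mk' (center ↥K)) with hπ
  obtain ⟨r, R⟩ := exists_pair h2
  have hne : center ↥K ≠ ⊥ := by
    intro h
    rw [h, Subgroup.card_bot] at h2
    exact absurd h2 (by norm_num)
  obtain ⟨z, q, F⟩ := exists_fr C S hc hne
  have hrq : (r : G) ∈ zpowers q := F.cK r (F.Kt r r.2) fun x hx =>
    congrArg Subtype.val (mem_center_iff.1 R.mem ⟨x, hx⟩)
  have hrz : (r : G) = z := by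
    apply F.uniq hrq
    · exact congrArg Subtype.val R.zz
    · intro h
      exact R.z1 (Subtype.ext h)
  subst hrz
  have hord : orderOf (r : G) = 2 := by
    have : Fact (Nat.Prime 2) := ⟨Nat.prime_two⟩
    exact orderOf_eq_prime (by rw [pow_two]; exact F.tt) F.t1
  obtain hconj := Cfsg.Agent.StandardComponent.AltFinal.exists_conj C.na hord
  exact CovTwoSmall.false_of F (hcov.outTwo D.out2) (inFacts hcov D R) (R.outSq hcov D) hconj

/-- **D9, row `2.M22`**, from the facts on `M22`. -/
theorem row (D : ∃ (E : Subgroup ↥Spor.M22) (a b : ↥Spor.M22), PData ↥Spor.M22 E a b) :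
    Cut.Row.{u} (fun K _ => Cut.Two (fun X _ => Spor.IsoM22 X) K) := by
  intro G _ C K S hc ⟨h2, ⟨e⟩⟩
  obtain ⟨E, a, b, D⟩ := D
  exact false_two C S hc h2 D e

end Cfsg.Agent.OddHalf.D9.M22.RowTwo
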