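import Cfsg.Agent.OddHalf.D9.M22.CovFour

/-!
# D9: `K = 2.M22` (helper322)

`PData X E a b`: facts on `X = M22`; `π : K → X` a perfect central extension, `Z(K) = {1, z}`.

* `Pair.sq_one` : all the lifts of involutions are involutions;
* `Pair.root` : every noncentral involution of `K` is a square;
* `Pair.fixF` : an automorphism `α` such that `ᾱ` centralizes `E` centralizes the inverse image of `E`;
* `Pair.same` : if `α` is outer and `α² = (conj k · α)² = 1`, then `k α(k) = 1`;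
* `Pair.lift` : the outer involution attached to an involution of `K`;
* `Pair.outSq` : `OutSq z`.
-/

set_option autoImplicit false

namespace Cfsg.Agent.OddHalf.D9.M22.CovPair

open Subgroup
open scoped Pointwise commutatorElement
open Cfsg.Agent.OddHalf.D9.CovTwo Cfsg.Agent.OddHalf.D9.M22.Lift Cfsg.Agent.OddHalf.D9.M22.CovFour
open Cfsg.Agent.OddHalf.D9.Kill (Ce Fx mem_Ce mem_Fx)

universe u v

/-- `n` normalizes `E` -/
def Nm {X : Type v} [Group X] (E : Subgroup X) (n : X) : Prop :=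
  (∀ w ∈ E, n * w * n⁻¹ ∈ E) ∧ ∀ w ∈ E, n⁻¹ * w * n ∈ E

/-- Configuration of the class `2B`. -/
def ConfB {X : Type v} [Group X] (E : Subgroup X) (β : MulAut X) : Prop :=
  ∃ (x n : Fin 5 → Fin 5 → X) (m d : X), (∀ y ∈ E, β y = y) ∧
    (∀ i j, i ≠ j → x i j ∈ E ∧ x i j = x j i ∧ Nm E (n i j) ∧ (n i j)⁻¹ * β (n i j) = x i j) ∧
    (Nm E m ∧ ∀ i j, i ≠ j → m⁻¹ * x i j * m * (m⁻¹ * β m) = x (i + 1) (j + 1)) ∧
    x 0 1 = 1 ∧ x 0 2 ≠ 1 ∧ x 0 2 * x 0 3 * x 0 4 = 1 ∧
    Nm E d ∧ d ^ 3 = 1 ∧ β d = d ∧ d⁻¹ * x 0 2 * d = x 0 3 ∧ d⁻¹ * x 0 3 * d = x 0 4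

/-- Configuration of the class `2C`. -/
def ConfC {X : Type v} [Group X] (E : Subgroup X) (β : MulAut X) : Prop :=
  ∃ (x n : Fin 5 → X) (m d : X), (∀ y ∈ E, β y = y) ∧
    (∀ i, x i ∈ E ∧ Nm E (n i) ∧ (n i)⁻¹ * β (n i) = x i) ∧
    x 0 ≠ 1 ∧ x 0 * x 1 * x 2 * x 3 * x 4 = 1 ∧
    (Nm E d ∧ d ^ 5 = 1 ∧ β d = d ∧ ∀ i, d⁻¹ * x i * d = x (i + 1)) ∧
    Nm E m ∧ m * m = 1 ∧ m⁻¹ * β m = x 0 ∧ m⁻¹ * x 1 * m * x 0 = x 2 ∧ m⁻¹ * x 3 * m * x 0 = x 4

/-- The facts on `M22` for the double cover. -/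
structure PData (X : Type v) [Group X] (E : Subgroup X) (a b : X) : Prop extends EData X E a b where
  cent : ∀ x : X, (∀ y ∈ E, x * y = y * x) → x ∈ E
  tran : ∀ x ∈ E, ∀ y ∈ E, x ≠ 1 → y ≠ 1 → ∃ n : X, Nm E n ∧ n * x * n⁻¹ = y
  eight : ∃ x ∈ E, ∃ y ∈ E, ∃ w ∈ E, x ≠ 1 ∧ y ≠ 1 ∧ w ≠ 1 ∧ x ≠ y ∧ x ≠ w ∧ y ≠ w ∧ w ≠ x * y
  line : ∀ x ∈ E, ∀ y ∈ E, x ≠ 1 → y ≠ 1 → x ≠ y → ∃ n : X, n * n = 1 ∧ Nm E n ∧
    (n * x * n⁻¹ = y ∨ n * x * n⁻¹ = x * y ∨ n * y * n⁻¹ = x * y)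
  fixv : ∀ v : X, v * v = 1 → v ≠ 1 → ∃ β : MulAut X, β * β = 1 ∧ (∀ x, β ≠ MulAut.conj x) ∧ β v = v ∧
    ∀ x, Odd (orderOf x) → x * v = v * x → β x = x
  fix2 : ∀ v : X, v * v = 1 → v ≠ 1 → ∀ β : MulAut X, β v = v →
    (∀ x, Odd (orderOf x) → x * v = v * x → β x = x) → β * β = 1
  conf : ∀ β : MulAut X, β * β = 1 → (∀ x, β ≠ MulAut.conj x) →
    ∃ g : X, ConfB E (MulAut.conj g * β * (MulAut.conj g)⁻¹) ∨ ConfC E (MulAut.conj g * β * (MulAut.conj g)⁻¹)

/-- `Z(K) = {1, z}` -/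
structure Pair {K : Type u} [Group K] (z : K) : Prop where
  mem : z ∈ center K
  cases : ∀ c ∈ center K, c = 1 ∨ c = z
  zz : z * z = 1
  z1 : z ≠ 1

/-- the splitting argument -/
theorem split_false {K : Type u} [Group K] {X : Type v} [Group X] {π : K →* X} {E : Subgroup X} {a b : X}
    [Finite K] (C : Cov π) (D : EData X E a b) {r : K} (hr : r ∈ center K) (F : Subgroup K)
    (hE : ∀ f ∈ F, π f ∈ E) (hsurj : ∀ x ∈ E, ∃ f ∈ F, π f = x)
    (hnorm : ∀ g : K, (∀ y ∈ E, π g * y * (π g)⁻¹ ∈ E) → ∀ f ∈ F, g * f * g⁻¹ ∈ F)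
    (hrr : r * r ∈ F) (hrF : r ∉ F) (hcen : ∀ c ∈ center K, c ∈ F ∨ c * r ∈ F) (hF2 : ∀ f ∈ F, f * f = 1)
    {p c : K} (hp : π p = a) (hc : π c = b) (hp2 : p * p = 1) (hc2 : c * c = 1) (h4 : (p * c) ^ 4 ∈ F) :
    False := by
  have hpi : p⁻¹ = p := inv_eq_of_mul_eq_one_left hp2
  have hci : c⁻¹ = c := inv_eq_of_mul_eq_one_left hc2
  have hac8 : (p * c) ^ 8 = 1 := by
    have h1 : (p * c) ^ 8 = (p * c) ^ 4 * (p * c) ^ 4 := by rw [← pow_add]
    rw [h1, hF2 _ h4]
  let W : Subgroup K := closure {p, c}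
  have hWel : ∀ w ∈ W, ∃ i : ℕ, w = (p * c) ^ i ∨ w = (p * c) ^ i * p := fun w hw =>
    mem_dihedral hp2 hc2 (by norm_num) hac8 hw
  have hpn : ∀ f ∈ F, p * f * p⁻¹ ∈ F := hnorm p (by rw [hp]; exact D.aE)
  have hcn : ∀ f ∈ F, c * f * c⁻¹ ∈ F := hnorm c (by rw [hc]; exact D.bE)
  have hWN : W ≤ normalizer (F : Set K) := by
    rw [le_normalizer_iff]
    intro w hw
    induction hw using closure_induction'' with
    | one => intro f hf; simpa using hf
    | mem x hx =>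
      rcases hx with rfl | rfl
      · exact hpn
      · exact hcn
    | inv_mem x hx =>
      rcases hx with rfl | rfl
      · rw [hpi]; exact hpn
      · rw [hci]; exact hcn
    | mul x y _ _ hx hy =>
      intro f hf
      have h1 := hx _ (hy f hf)
      have h2 : x * y * f * (x * y)⁻¹ = x * (y * f * y⁻¹) * x⁻¹ := by group
      rwa [h2]
  let L : Subgroup K := W ⊔ F
  have hL : ∀ x, x ∈ L ↔ ∃ w ∈ W, ∃ f ∈ F, w * f = x := by
    intro x
    have h1 := coe_mul_of_left_le_normalizer_right W F hWN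
    change x ∈ ((W ⊔ F : Subgroup K) : Set K) ↔ _
    rw [h1]
    exact Set.mem_mul
  have hFL : F ≤ L := le_sup_right
  have hrL : r ∉ L := by
    rw [hL]
    rintro ⟨w, hw, f, hf, hwf⟩
    have h1 : π w * π f = 1 := by rw [← map_mul, hwf]; exact (C.ker _).2 hr
    have h2 : π w ∈ E := by
      rw [mul_eq_one_iff_eq_inv.1 h1]
      exact inv_mem (hE f hf)
    obtain ⟨i, hi⟩ := hWel w hw
    rcases hi with hi | hi
    · have h3 : (a * b) ^ i ∈ E := by
        rw [hi, map_pow, map_mul, hp, hc] at h2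
        exact h2
      obtain ⟨j, rfl⟩ := D.rot i h3
      rw [pow_mul] at hi
      apply hrF
      rw [← hwf, hi]
      exact mul_mem (pow_mem h4 j) hf
    · apply D.refl i
      rw [hi, map_mul, map_pow, map_mul, hp, hc] at h2
      exact h2
  have hF2' : IsPGroup 2 ↥F := by
    intro f
    refine ⟨1, ?_⟩
    apply Subtype.ext
    rw [pow_one, pow_two]
    exact hF2 f f.2
  have hW2 : IsPGroup 2 ↥W := by
    rintro ⟨w, hw⟩
    refine ⟨3, ?_⟩
    apply Subtype.ext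
    change w ^ 2 ^ 3 = 1
    obtain ⟨i, hi⟩ := hWel w hw
    rcases hi with rfl | rfl
    · rw [← pow_mul, mul_comm, pow_mul, show (2 : ℕ) ^ 3 = 8 by norm_num, hac8, one_pow]
    · have h1 : (p * c) ^ i * p * ((p * c) ^ i * p) = 1 := by
        have h2 : ∀ i : ℕ, (p * c) ^ i * p = p * (c * p) ^ i := by
          intro i
          induction i with
          | zero => simp
          | succ i ih =>
            calc (p * c) ^ (i + 1) * p = (p * c) * ((p * c) ^ i * p) := by rw [pow_succ']; group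
              _ = (p * c) * (p * (c * p) ^ i) := by rw [ih]
              _ = p * (c * p) ^ (i + 1) := by rw [pow_succ' (c * p)]; simp only [mul_assoc]
        have h3 : (c * p) ^ i = ((p * c) ^ i)⁻¹ := by
          rw [← inv_pow, mul_inv_rev, hpi, hci]
        calc (p * c) ^ i * p * ((p * c) ^ i * p) = (p * c) ^ i * p * (p * (c * p) ^ i) := by rw [h2]
          _ = (p * c) ^ i * (p * p) * (c * p) ^ i := by group
          _ = 1 := by rw [hp2, h3]; group
      rw [show (2 : ℕ) ^ 3 = 2 * 4 by norm_num, pow_mul, pow_two, h1, one_pow]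
  have hL2 : IsPGroup 2 ↥L := IsPGroup.to_sup_of_normal_right' hW2 hF2' hWN
  have hS2 : IsPGroup 2 ↥(L.map π) := hL2.map π
  have hES : E ≤ L.map π := by
    intro x hx
    obtain ⟨f, hf, rfl⟩ := hsurj x hx
    exact ⟨f, hFL hf, rfl⟩
  have haS : a ∈ L.map π := ⟨p, (le_sup_left : W ≤ L) (subset_closure (Or.inl rfl)), hp⟩
  have hbS : b ∈ L.map π := ⟨c, (le_sup_left : W ≤ L) (subset_closure (Or.inr rfl)), hc⟩
  have hodd := D.odd _ hES haS hbS hS2
  rw [← index_comap_of_surjective (L.map π) C.surj] at hodd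
  refine transfer_false C.perf hr hodd ?_ hrL (hFL hrr) ?_
  · change π r ∈ L.map π
    rw [(C.ker _).2 hr]
    exact one_mem _
  · intro p hp
    obtain ⟨l, hl, hlp⟩ := hp
    obtain ⟨s, hs, hps⟩ := C.eq_mul (k := p) (l := l) hlp.symm
    rw [hps]
    rcases hcen s hs with h | h
    · left; exact mul_mem hl (hFL h)
    · right; rw [mul_assoc]; exact mul_mem hl (hFL h)

namespace Pair

variable {K : Type u} [Group K] {X : Type v} [Group X] {π : K →* X} {E : Subgroup X} {a b : X} {z : K}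

theorem zc (R : Pair z) (k : K) : z * k = k * z := Cov.cen R.mem k

theorem pz (C : Cov π) (R : Pair z) : π z = 1 := (C.ker _).2 R.mem

theorem cc (R : Pair z) {c : K} (hc : c ∈ center K) : c * c = 1 := by
  rcases R.cases c hc with rfl | rfl
  · exact one_mul 1
  · exact R.zz

/-- elements with the same image -/
theorem eq_or (C : Cov π) (R : Pair z) {k l : K} (h : π k = π l) : k = l ∨ k = l * z := by
  obtain ⟨c, hc, rfl⟩ := C.eq_mul h
  rcases R.cases c hc with rfl | rfl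
  · left; rw [mul_one]
  · right; rfl

/-- elements with commuting images -/
theorem comm_or (C : Cov π) (R : Pair z) {k l : K} (h : π k * π l = π l * π k) :
    k * l = l * k ∨ k * l = l * k * z :=
  R.eq_or C (by rw [map_mul, map_mul, h])

theorem comm_of_mem (D : EData X E a b) {x y : X} (hx : x ∈ E) (hy : y ∈ E) : x * y = y * x := by
  have h1 := D.sq _ (mul_mem hx hy)
  have h2 := D.sq _ hx
  have h3 := D.sq _ hy
  calc x * y = x * (x * y * (x * y)) * y := by rw [h1, mul_one]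
    _ = (x * x) * y * x * (y * y) := by group
    _ = y * x := by rw [h2, h3]; group

/-- the lifts of involutions are involutions -/
theorem sq_one (C : Cov π) (D : PData X E a b) (R : Pair z) {k : K} (hk : π k * π k = 1) : k * k = 1 := by
  have hkk : k * k ∈ center K := (C.ker _).1 (by rw [map_mul, hk])
  refine (R.cases _ hkk).resolve_right fun hkz => ?_
  have hk1 : π k ≠ 1 := by
    intro h1
    have h2 := R.cc ((C.ker _).1 h1)
    rw [h2] at hkz
    exact R.z1 hkz.symm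
  -- all the lifts of involutions have square `z`
  have hall : ∀ l : K, π l * π l = 1 → π l ≠ 1 → l * l = z := by
    intro l h1 h2
    obtain ⟨x, hx⟩ := isConj_iff.1 (D.one _ _ hk hk1 h1 h2)
    obtain ⟨g, rfl⟩ := C.surj x
    have h3 : l * l = g * (k * k) * g⁻¹ := by
      rcases R.eq_or C (k := l) (l := g * k * g⁻¹) (by rw [map_mul, map_mul, map_inv, hx]) with h | h
      · rw [h]; group
      · rw [h]
        calc g * k * g⁻¹ * z * (g * k * g⁻¹ * z) = g * k * g⁻¹ * (z * (g * k * g⁻¹)) * z := by group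
          _ = g * k * g⁻¹ * ((g * k * g⁻¹) * z) * z := by rw [R.zc]
          _ = g * (k * k) * g⁻¹ * (z * z) := by group
          _ = g * (k * k) * g⁻¹ := by rw [R.zz, mul_one]
    rw [h3, hkz, ← R.zc g]
    group
  -- lifts of different elements of `E#` do not commute
  have hanti : ∀ f g : K, π f ∈ E → π g ∈ E → π f ≠ 1 → π g ≠ 1 → π f ≠ π g → f * g = g * f * z := by
    intro f g hf hg hf1 hg1 hfg
    rcases R.comm_or C (comm_of_mem D.toEData hf hg) with h | h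
    · exfalso
      have h1 := hall (f * g) (by rw [map_mul]; exact D.sq _ (mul_mem hf hg)) (by
        rw [map_mul]
        intro h1
        apply hfg
        have h2 := D.sq _ hg
        exact mul_right_cancel (h1.trans h2.symm))
      have h2 := hall f (D.sq _ hf) hf1
      have h3 := hall g (D.sq _ hg) hg1
      apply R.z1
      calc z = f * g * (f * g) := h1.symm
        _ = f * (g * f) * g := by group
        _ = f * (f * g) * g := by rw [h]
        _ = (f * f) * (g * g) := by group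
        _ = 1 := by rw [h2, h3, R.zz]
    · exact h
  obtain ⟨x, hx, y, hy, w, hw, hx1, hy1, hw1, hxy, hxw, hyw, hwxy⟩ := D.eight
  obtain ⟨f, rfl⟩ := C.surj x
  obtain ⟨g, rfl⟩ := C.surj y
  obtain ⟨h, rfl⟩ := C.surj w
  have e1 := hanti f g hx hy hx1 hy1 hxy
  have e2 := hanti f h hx hw hx1 hw1 hxw
  have e3 := hanti f (g * h) hx (by rw [map_mul]; exact mul_mem hy hw) hx1 (by
    rw [map_mul]
    intro h1
    apply hyw
    have h2 := D.sq _ hw
    exact mul_right_cancel (h1.trans h2.symm)) (by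
    rw [map_mul]
    intro h1
    apply hwxy
    have h2 := D.sq _ hy
    rw [h1, comm_of_mem D.toEData (mul_mem hy hw) hy, ← mul_assoc, h2, one_mul])
  apply R.z1
  have e4 : f * (g * h) = g * h * f := by
    calc f * (g * h) = (f * g) * h := by group
      _ = g * f * (z * h) := by rw [e1]; group
      _ = g * (f * h) * z := by rw [R.zc]; group
      _ = g * (h * f * z) * z := by rw [e2]
      _ = g * h * f * (z * z) := by group
      _ = g * h * f := by rw [R.zz, mul_one]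
  rw [e4] at e3
  exact (mul_eq_left.1 e3.symm)

/-- `z` is not a square -/
theorem nosq (C : Cov π) (D : PData X E a b) (R : Pair z) (k : K) : k * k ≠ z := by
  intro h
  have h1 : π k * π k = 1 := by rw [← map_mul, h]; exact R.pz C
  rw [R.sq_one C D h1] at h
  exact R.z1 h.symm

/-- commuting involutions lift to commuting involutions -/
theorem comm_inv (C : Cov π) (D : PData X E a b) (R : Pair z) {f g : K} (hf : π f * π f = 1)
    (hg : π g * π g = 1) (hfg : π f * π g = π g * π f) : f * g = g * f := by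
  have h1 := R.sq_one C D hf
  have h2 := R.sq_one C D hg
  have h3 := R.sq_one C D (k := f * g) (by
    rw [map_mul]
    calc π f * π g * (π f * π g) = π f * (π g * π f) * π g := by group
      _ = π f * (π f * π g) * π g := by rw [hfg]
      _ = (π f * π f) * (π g * π g) := by group
      _ = 1 := by rw [hf, hg, one_mul])
  calc f * g = f * (f * g * (f * g)) * g := by rw [h3, mul_one]
    _ = (f * f) * (g * f) * (g * g) := by group
    _ = g * f := by rw [h1, h2, one_mul, mul_one]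

theorem comm_F (C : Cov π) (D : PData X E a b) (R : Pair z) {f g : K} (hf : π f ∈ E) (hg : π g ∈ E) :
    f * g = g * f := R.comm_inv C D (D.sq _ hf) (D.sq _ hg) (comm_of_mem D.toEData hf hg)

/-- **(N3)** every noncentral involution is a square -/
theorem root [Finite K] (C : Cov π) (D : PData X E a b) (R : Pair z) {e : K} (he : e * e = 1)
    (hec : e ∉ center K) : ∃ y, y * y = e := by
  by_contra hcon
  push Not at hcon
  have he1 : π e ≠ 1 := fun h => hec ((C.ker _).1 h)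
  have he2 : π e * π e = 1 := by rw [← map_mul, he, map_one]
  -- an involution of `X` which is a square
  have hv1 : (a * b) * (a * b) ≠ 1 := by
    intro h
    have h1 := D.rot 2 (by rw [pow_two, h]; exact E.one_mem)
    exact absurd h1 (by norm_num)
  have hv2 : (a * b) * (a * b) * ((a * b) * (a * b)) = 1 := by
    have h := D.ab
    rwa [show (4 : ℕ) = 2 + 2 from rfl, pow_add, pow_two] at h
  -- every involution has a lift which is a square
  have hex : ∀ x : X, x * x = 1 → x ≠ 1 → ∃ y : K, π (y * y) = x := by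
    intro x h1 h2
    obtain ⟨g, hg⟩ := isConj_iff.1 (D.one _ _ hv2 hv1 h1 h2)
    obtain ⟨y, hy⟩ := C.surj (g * (a * b) * g⁻¹)
    refine ⟨y, ?_⟩
    rw [map_mul, hy, ← hg]
    group
  -- only one
  have huniq : ∀ y y' : K, π (y * y) = π (y' * y') → π (y * y) ≠ 1 → π (y * y) * π (y * y) = 1 →
      y * y = y' * y' := by
    intro y y' h1 h2 h3
    by_contra hne
    have h4 : y * y = y' * y' * z := (R.eq_or C h1).resolve_left hne
    obtain ⟨x, hx⟩ := isConj_iff.1 (D.one _ _ h3 h2 he2 he1)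
    obtain ⟨g, rfl⟩ := C.surj x
    rcases R.eq_or C (k := e) (l := g * (y * y) * g⁻¹) (by
      rw [map_mul, map_mul, map_inv, hx]) with h5 | h5
    · apply hcon (g * y * g⁻¹)
      rw [h5]; group
    · apply hcon (g * y' * g⁻¹)
      rw [h5, h4]
      calc g * y' * g⁻¹ * (g * y' * g⁻¹) = g * (y' * y') * g⁻¹ * 1 := by group
        _ = g * (y' * y') * g⁻¹ * (z * z) := by rw [R.zz]
        _ = g * (y' * y') * (g⁻¹ * z) * z := by group
        _ = g * (y' * y') * (z * g⁻¹) * z := by rw [R.zc]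
        _ = g * (y' * y' * z) * g⁻¹ * z := by group
  -- the product of square lifts
  have hmul : ∀ y y' : K, π (y * y) ∈ E → π (y' * y') ∈ E → π (y * y) ≠ 1 → π (y' * y') ≠ 1 →
      π (y * y) ≠ π (y' * y') → ∃ w, w * w = y * y * (y' * y') := by
    intro y y' hy hy' h1 h1' hne
    obtain ⟨n, hn2, hn, hc⟩ := D.line _ hy _ hy' h1 h1' hne
    obtain ⟨m, rfl⟩ := C.surj n
    have hm : m * m = 1 := R.sq_one C D hn2
    have hmi : m⁻¹ = m := inv_eq_of_mul_eq_one_left hm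
    have hyy : y * y * (y * y) = 1 := R.sq_one C D (D.sq _ hy)
    have hyy' : y' * y' * (y' * y') = 1 := R.sq_one C D (D.sq _ hy')
    have hcomm := R.comm_F C D hy hy'
    have key : ∀ t : K, (t * t * m) * (t * t * m) = t * t * (m * t * m⁻¹ * (m * t * m⁻¹)) := by
      intro t
      rw [hmi]
      calc (t * t * m) * (t * t * m) = t * t * (m * t * t * m) := by group
        _ = t * t * (m * t * (m * m) * t * m) := by rw [hm]; group
        _ = t * t * (m * t * m * (m * t * m)) := by group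
    rcases hc with hc | hc | hc
    · -- `n x n⁻¹ = y`
      have h2 : m * y * m⁻¹ * (m * y * m⁻¹) = y' * y' := by
        apply huniq
        · rw [← hc]
          simp only [map_mul, map_inv]; group
        · have h3 : π (m * y * m⁻¹ * (m * y * m⁻¹)) = π (y' * y') := by
            rw [← hc]; simp only [map_mul, map_inv]; group
          rw [h3]; exact h1'
        · have h3 : π (m * y * m⁻¹ * (m * y * m⁻¹)) = π (y' * y') := by
            rw [← hc]; simp only [map_mul, map_inv]; group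
          rw [h3]; exact D.sq _ hy'
      exact ⟨y * y * m, by rw [key, h2]⟩
    · -- `n x n⁻¹ = x y`
      have h3 : π (m * y * m⁻¹ * (m * y * m⁻¹)) = π (y * y) * π (y' * y') := by
        rw [← hc]; simp only [map_mul, map_inv]; group
      have h2 : (y * y * m) * (y * y * m) = y' * y' := by
        have h4 : π ((y * y * m) * (y * y * m)) = π (y' * y') := by
          rw [key, map_mul π (y * y), h3, ← mul_assoc, D.sq _ hy, one_mul]
        apply huniq _ _ h4
        · rw [h4]; exact h1'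
        · rw [h4]; exact D.sq _ hy'
      refine ⟨m * y * m⁻¹, ?_⟩
      rw [← h2, key, ← mul_assoc (y * y) (y * y), hyy, one_mul]
    · -- `n y n⁻¹ = x y`
      have h3 : π (m * y' * m⁻¹ * (m * y' * m⁻¹)) = π (y * y) * π (y' * y') := by
        rw [← hc]; simp only [map_mul, map_inv]; group
      have h2 : (y' * y' * m) * (y' * y' * m) = y * y := by
        have h4 : π ((y' * y' * m) * (y' * y' * m)) = π (y * y) := by
          rw [key, map_mul π (y' * y'), h3, comm_of_mem D.toEData hy hy', ← mul_assoc, D.sq _ hy', one_mul]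
        apply huniq _ _ h4
        · rw [h4]; exact h1
        · rw [h4]; exact D.sq _ hy
      refine ⟨m * y' * m⁻¹, ?_⟩
      have hcm : y' * y' * (m * y' * m⁻¹ * (m * y' * m⁻¹)) = m * y' * m⁻¹ * (m * y' * m⁻¹) * (y' * y') :=
        R.comm_F C D hy' (by rw [h3]; exact mul_mem hy hy')
      rw [← h2, key, hcm, mul_assoc (m * y' * m⁻¹ * (m * y' * m⁻¹)), hyy', mul_one]
  -- `F₀`
  have hEl : ∀ x ∈ E, ∃ f : K, π f = x ∧ (f = 1 ∨ π f ≠ 1 ∧ ∃ y, y * y = f) := by
    intro x hx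
    by_cases h1 : x = 1
    · exact ⟨1, by rw [map_one, h1], Or.inl rfl⟩
    · obtain ⟨y, hy⟩ := hex x (D.sq x hx) h1
      exact ⟨y * y, hy, Or.inr ⟨by rw [hy]; exact h1, y, rfl⟩⟩
  let F : Subgroup K :=
    { carrier := {f | π f ∈ E ∧ (f = 1 ∨ π f ≠ 1 ∧ ∃ y, y * y = f)}
      one_mem' := ⟨by rw [map_one]; exact E.one_mem, Or.inl rfl⟩
      mul_mem' := by
        rintro f g ⟨hf, hf'⟩ ⟨hg, hg'⟩
        refine ⟨by rw [map_mul]; exact mul_mem hf hg, ?_⟩
        rcases hf' with rfl | ⟨hf1, y, rfl⟩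
        · rw [one_mul]; exact hg'
        rcases hg' with rfl | ⟨hg1, y', rfl⟩
        · rw [mul_one]; exact Or.inr ⟨hf1, y, rfl⟩
        by_cases hne : π (y * y) = π (y' * y')
        · left
          rw [huniq y y' hne hf1 (D.sq _ hf)]
          exact R.sq_one C D (D.sq _ hg)
        · right
          refine ⟨?_, hmul y y' hf hg hf1 hg1 hne⟩
          rw [map_mul]
          intro h1
          apply hne
          have h2 := D.sq _ hg
          exact mul_right_cancel (h1.trans h2.symm)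
      inv_mem' := by
        rintro f ⟨hf, hf'⟩
        rcases hf' with rfl | ⟨hf1, y, rfl⟩
        · rw [inv_one]
          exact ⟨by rw [map_one]; exact E.one_mem, Or.inl rfl⟩
        · refine ⟨by rw [map_inv]; exact inv_mem hf, Or.inr ⟨?_, y⁻¹, by group⟩⟩
          rw [map_inv]
          exact fun h => hf1 (inv_eq_one.1 h) }
  obtain ⟨p, hp⟩ := C.surj a
  obtain ⟨c, hc⟩ := C.surj b
  have hp2 : p * p = 1 := R.sq_one C D (by rw [hp]; exact D.aa)
  have hc2 : c * c = 1 := R.sq_one C D (by rw [hc]; exact D.bb)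
  have h4 : (p * c) ^ 4 = 1 := by
    have h1 : (p * c) ^ 4 = (p * c) ^ 2 * (p * c) ^ 2 := by rw [← pow_add]
    rw [h1]
    apply R.sq_one C D
    rw [← map_mul, ← h1, map_pow, map_mul, hp, hc, D.ab]
  refine split_false C D.toEData R.mem F (fun f hf => hf.1) ?_ ?_ ?_ ?_ ?_ ?_ hp hc hp2 hc2 ?_
  · intro x hx
    obtain ⟨f, hf, hf'⟩ := hEl x hx
    exact ⟨f, ⟨by rw [hf]; exact hx, hf'⟩, hf⟩
  · rintro g hg f ⟨hf, hf'⟩
    refine ⟨by rw [map_mul, map_mul, map_inv]; exact hg _ hf, ?_⟩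
    rcases hf' with rfl | ⟨hf1, y, rfl⟩
    · left; group
    · right
      refine ⟨?_, g * y * g⁻¹, by group⟩
      rw [map_mul, map_mul, map_inv]
      intro h1
      apply hf1
      rw [mul_inv_eq_one] at h1
      exact mul_eq_left.1 h1
  · rw [R.zz]; exact F.one_mem
  · rintro ⟨-, h | ⟨h, -⟩⟩
    · exact R.z1 h
    · exact h (R.pz C)
  · intro s hs
    rcases R.cases s hs with rfl | rfl
    · left; exact F.one_mem
    · right; rw [R.zz]; exact F.one_mem
  · rintro f ⟨hf, -⟩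
    exact R.sq_one C D (D.sq _ hf)
  · rw [h4]; exact F.one_mem

/-! ### Automorphisms -/

theorem map_z (R : Pair z) (α : MulAut K) : α z = z := by
  rcases R.cases _ (Cov.map_center R.mem α) with h | h
  · exact absurd ((map_eq_one_iff α α.injective).1 h) R.z1
  · exact h

theorem delta_mem (D : PData X E a b) {β : MulAut X} (hE : ∀ y ∈ E, β y = y) {n : X} (hn : Nm E n) :
    n⁻¹ * β n ∈ E := by
  apply D.cent
  intro y hy
  have h1 := hE _ (hn.1 y hy)
  rw [map_mul, map_mul, map_inv, hE y hy] at h1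
  calc n⁻¹ * β n * y = n⁻¹ * (β n * y * (β n)⁻¹) * β n := by group
    _ = n⁻¹ * (n * y * n⁻¹) * β n := by rw [h1]
    _ = y * (n⁻¹ * β n) := by group

/-- an automorphism centralizing `E` centralizes its inverse image -/
theorem fixF (C : Cov π) (D : PData X E a b) (R : Pair z) {α : MulAut K} {β : MulAut X}
    (hβ : ∀ k, π (α k) = β (π k)) (hE : ∀ y ∈ E, β y = y) {f : K} (hf : π f ∈ E) : α f = f := by
  by_contra hne
  have hz := R.map_z α
  have h1 : ∀ g, π g ∈ E → α g = g ∨ α g = g * z := fun g hg => R.eq_or C (by rw [hβ, hE _ hg])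
  have hfz : α f = f * z := (h1 f hf).resolve_left hne
  have hf1 : π f ≠ 1 := by
    intro h2
    rcases R.cases f ((C.ker _).1 h2) with rfl | rfl
    · exact hne (map_one _)
    · exact hne hz
  have hall : ∀ g, π g ∈ E → π g ≠ 1 → α g = g * z := by
    intro g hg hg1
    obtain ⟨n, hn, hng⟩ := D.tran _ hf _ hg hf1 hg1
    obtain ⟨m, rfl⟩ := C.surj n
    have hd : π (m⁻¹ * α m) ∈ E := by
      rw [map_mul, map_inv, hβ]
      exact delta_mem D hE hn
    have hc : (m⁻¹ * α m) * f = f * (m⁻¹ * α m) := R.comm_F C D hd hf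
    have h3 : α (m * f * m⁻¹) = m * f * m⁻¹ * z := by
      rw [map_mul, map_mul, map_inv, hfz]
      calc α m * (f * z) * (α m)⁻¹ = m * ((m⁻¹ * α m) * f) * z * (α m)⁻¹ := by group
        _ = m * (f * (m⁻¹ * α m)) * z * (α m)⁻¹ := by rw [hc]
        _ = m * f * m⁻¹ * (α m * z) * (α m)⁻¹ := by group
        _ = m * f * m⁻¹ * (z * α m) * (α m)⁻¹ := by rw [R.zc]
        _ = m * f * m⁻¹ * z := by group
    rcases R.eq_or C (k := g) (l := m * f * m⁻¹) (by rw [map_mul, map_mul, map_inv, hng]) with h4 | h4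
    · rw [h4, h3]
    · rw [h4, map_mul, h3, hz]
  obtain ⟨x, hx, y, hy, hx1, hy1, hxy⟩ := D.four
  obtain ⟨f, rfl⟩ := C.surj x
  obtain ⟨g, rfl⟩ := C.surj y
  have h2 := hall (f * g) (by rw [map_mul]; exact mul_mem hx hy) (by
    rw [map_mul]
    intro h1
    apply hxy
    have h2 := D.sq _ hy
    exact mul_right_cancel (h1.trans h2.symm))
  rw [map_mul, hall f hx hx1, hall g hy hy1] at h2
  apply R.z1
  have h3 : f * z * (g * z) = f * g := by
    calc f * z * (g * z) = f * (z * g) * z := by group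
      _ = f * (g * z) * z := by rw [R.zc]
      _ = f * g * (z * z) := by group
      _ = f * g := by rw [R.zz, mul_one]
  rw [h3] at h2
  exact (mul_eq_left.1 h2.symm)

theorem ind_sq (C : Cov π) {α : MulAut K} {β : MulAut X} (hβ : ∀ k, π (α k) = β (π k)) (h : α * α = 1) :
    β * β = 1 := by
  ext x
  obtain ⟨k, rfl⟩ := C.surj x
  rw [MulAut.mul_apply, ← hβ, ← hβ, ← MulAut.mul_apply, h]
  rfl

theorem sq_ind (C : Cov π) {α : MulAut K} {β : MulAut X} (hβ : ∀ k, π (α k) = β (π k)) (h : β * β = 1) :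
    α * α = 1 := by
  apply C.aut_eq_one
  intro k
  rw [MulAut.mul_apply, hβ, hβ, ← MulAut.mul_apply, h]
  rfl

theorem not_inner_mul {G : Type*} [Group G] {α : MulAut G} (h : ∀ k, α ≠ MulAut.conj k) (g k : G) :
    MulAut.conj g * α ≠ MulAut.conj k := by
  intro h1
  apply h (g⁻¹ * k)
  rw [map_mul, map_inv, ← h1, inv_mul_cancel_left]

/-- same square, `ᾱ` centralizing `E` -/
theorem same0 (C : Cov π) (D : PData X E a b) (R : Pair z) {α : MulAut K} {β : MulAut X}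
    (hβ : ∀ k, π (α k) = β (π k)) (hE : ∀ y ∈ E, β y = y) (hα : α * α = 1) (hout : ∀ k, α ≠ MulAut.conj k) {k : K}
    (hk : MulAut.conj k * α * (MulAut.conj k * α) = 1) : k * α k = 1 := by
  have h1 : ∀ l, π ((MulAut.conj k * α) l) = (MulAut.conj (π k) * β) (π l) := by
    intro l
    rw [MulAut.mul_apply, MulAut.conj_apply, MulAut.mul_apply, MulAut.conj_apply, map_mul, map_mul, map_inv, hβ]
  have h2 := ind_sq C h1 hk
  obtain ⟨h, hh⟩ := D.outer _ h2 (not_inner_mul (C.outer_ind hβ hout) _)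
  obtain ⟨h, rfl⟩ := C.surj h
  have hw : π (h⁻¹ * k * α h) ∈ E := by
    apply D.cent
    intro y hy
    have h3 := hh y hy
    rw [MulAut.mul_apply, MulAut.conj_apply, map_mul β, map_mul β, map_inv β, hE y hy] at h3
    -- `k β(h) y β(h)⁻¹ k⁻¹ = h y h⁻¹`
    rw [map_mul, map_mul, map_inv, hβ]
    calc (π h)⁻¹ * π k * β (π h) * y
        = (π h)⁻¹ * (π k * (β (π h) * y * (β (π h))⁻¹) * (π k)⁻¹) * π k * β (π h) := by group
      _ = (π h)⁻¹ * (π h * y * (π h)⁻¹) * π k * β (π h) := by rw [h3]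
      _ = y * ((π h)⁻¹ * π k * β (π h)) := by group
  set f := h⁻¹ * k * α h with hf
  have hff : f * f = 1 := R.sq_one C D (D.sq _ hw)
  have hαf : α f = f := R.fixF C D hβ hE hw
  have hkf : k = h * f * (α h)⁻¹ := by rw [hf]; group
  have hαα : α (α h) = h := by rw [← MulAut.mul_apply, hα]; rfl
  rw [hkf, map_mul, map_mul, map_inv, hαf, hαα]
  calc h * f * (α h)⁻¹ * (α h * f * h⁻¹) = h * (f * f) * h⁻¹ := by group
    _ = 1 := by rw [hff]; group

/-- **same square**: if `α` and `conj k · α` are outer involutory automorphisms, `k α(k) = 1` -/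
theorem same (C : Cov π) (D : PData X E a b) (R : Pair z) {α : MulAut K} (hα : α * α = 1)
    (hout : ∀ k, α ≠ MulAut.conj k) {k : K}
    (hk : MulAut.conj k * α * (MulAut.conj k * α) = 1) : k * α k = 1 := by
  obtain ⟨β, hβ⟩ := C.exists_ind α
  obtain ⟨g, hg⟩ := D.outer β (ind_sq C hβ hα) (C.outer_ind hβ hout)
  obtain ⟨g, rfl⟩ := C.surj g
  have h0 : (MulAut.conj g)⁻¹ * α * MulAut.conj g * ((MulAut.conj g)⁻¹ * α * MulAut.conj g) = 1 := by
    calc (MulAut.conj g)⁻¹ * α * MulAut.conj g * ((MulAut.conj g)⁻¹ * α * MulAut.conj g)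
        = (MulAut.conj g)⁻¹ * (α * α) * MulAut.conj g := by group
      _ = 1 := by rw [hα]; group
  have h1 : ∀ l, π (((MulAut.conj g)⁻¹ * α * MulAut.conj g) l) =
      ((MulAut.conj (π g))⁻¹ * β * MulAut.conj (π g)) (π l) := by
    intro l
    have e1 : (MulAut.conj g)⁻¹ = MulAut.conj g⁻¹ := (map_inv _ _).symm
    have e2 : (MulAut.conj (π g))⁻¹ = MulAut.conj (π g)⁻¹ := (map_inv _ _).symm
    rw [e1, e2]
    change π (g⁻¹ * α (g * l * g⁻¹) * (g⁻¹)⁻¹) = (π g)⁻¹ * β (π g * π l * (π g)⁻¹) * ((π g)⁻¹)⁻¹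
    rw [inv_inv, inv_inv, map_mul π, map_mul π, hβ, map_mul π, map_mul π, map_inv π]
  have h2 : ∀ y ∈ E, ((MulAut.conj (π g))⁻¹ * β * MulAut.conj (π g)) y = y := by
    intro y hy
    have h3 := hg y hy
    rw [← map_inv]
    simp only [MulAut.mul_apply, MulAut.conj_apply] at h3 ⊢
    rw [h3]
    group
  have h3 := R.same0 C D (k := g⁻¹ * k * g) h1 h2 h0 (by
    intro k' hk'
    apply hout (g * k' * g⁻¹)
    have h4 : α = MulAut.conj g * ((MulAut.conj g)⁻¹ * α * MulAut.conj g) * (MulAut.conj g)⁻¹ := by group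
    rw [h4, hk', map_mul, map_mul, map_inv]) (by
    have h4 : MulAut.conj (g⁻¹ * k * g) * ((MulAut.conj g)⁻¹ * α * MulAut.conj g) =
        (MulAut.conj g)⁻¹ * (MulAut.conj k * α) * MulAut.conj g := by
      rw [map_mul, map_mul, map_inv]; group
    rw [h4]
    calc (MulAut.conj g)⁻¹ * (MulAut.conj k * α) * MulAut.conj g *
          ((MulAut.conj g)⁻¹ * (MulAut.conj k * α) * MulAut.conj g)
        = (MulAut.conj g)⁻¹ * (MulAut.conj k * α * (MulAut.conj k * α)) * MulAut.conj g := by group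
      _ = 1 := by rw [hk]; group)
  have h5 : ((MulAut.conj g)⁻¹ * α * MulAut.conj g) (g⁻¹ * k * g) = g⁻¹ * α k * g := by
    rw [← map_inv, MulAut.mul_apply, MulAut.mul_apply, MulAut.conj_apply, MulAut.conj_apply]
    have h6 : g * (g⁻¹ * k * g) * g⁻¹ = k := by group
    rw [h6, inv_inv]
  rw [h5] at h3
  calc k * α k = g * (g⁻¹ * k * g * (g⁻¹ * α k * g)) * g⁻¹ := by group
    _ = 1 := by rw [h3]; group

/-- an automorphism acting trivially on an involution of `X` fixes its lifts, if it is outer and of order 2 -/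
theorem fix_inv (C : Cov π) (D : PData X E a b) (R : Pair z) {α : MulAut K} (hα : α * α = 1)
    (hout : ∀ k, α ≠ MulAut.conj k) {e : K} (he : π e * π e = 1) (hα' : π (α e) = π e) : α e = e := by
  have hee := R.sq_one C D he
  have h1 : e * α e ∈ center K := (C.ker _).1 (by rw [map_mul, hα', he])
  have h2 := R.same C D hα hout (k := e) (by
    have h3 : MulAut.conj e * α * (MulAut.conj e * α) = MulAut.conj (e * α e) * (α * α) := by
      ext x
      simp only [MulAut.mul_apply, MulAut.conj_apply, map_mul, map_inv, mul_inv_rev, mul_assoc]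
    rw [h3, hα, mul_one]
    ext x
    rw [MulAut.conj_apply, Cov.cen h1 x, mul_inv_cancel_right]
    rfl)
  calc α e = e⁻¹ * (e * α e) := by group
    _ = e⁻¹ := by rw [h2, mul_one]
    _ = e := inv_eq_of_mul_eq_one_left hee

/-- odd powers -/
theorem z_pow (R : Pair z) {n : ℕ} (hn : Odd n) : z ^ n = z := by
  obtain ⟨m, rfl⟩ := hn
  rw [pow_succ, pow_mul, pow_two, R.zz, one_pow, one_mul]

theorem mulz_pow (R : Pair z) (x : K) {n : ℕ} (hn : Odd n) : (x * z) ^ n = x ^ n * z := by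
  rw [(show Commute x z from (R.zc x).symm).mul_pow, R.z_pow hn]

/-- an automorphism acting trivially on `πx`, `x` of odd order, fixes `x` -/
theorem fix_odd (C : Cov π) (R : Pair z) {α : MulAut K} {x : K} {n : ℕ} (hn : Odd n) (hx : x ^ n = 1)
    (h : π (α x) = π x) : α x = x := by
  refine (R.eq_or C h).resolve_right fun h1 => ?_
  have h2 : α x ^ n = 1 := by rw [← map_pow, hx, map_one]
  rw [h1, R.mulz_pow _ hn, hx, one_mul] at h2
  exact R.z1 h2

theorem comm_odd (C : Cov π) (R : Pair z) {x e : K} {n : ℕ} (hn : Odd n) (hx : x ^ n = 1)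
    (h : π x * π e = π e * π x) : x * e = e * x := by
  have h1 := R.fix_odd C (α := MulAut.conj e) hn hx (by
    rw [MulAut.conj_apply, map_mul, map_mul, map_inv, ← h]; group)
  rw [MulAut.conj_apply, mul_inv_eq_iff_eq_mul] at h1
  exact h1.symm

theorem lift_odd (C : Cov π) (R : Pair z) {x : X} {n : ℕ} (hn : Odd n) (hx : x ^ n = 1) :
    ∃ y : K, π y = x ∧ y ^ n = 1 := by
  obtain ⟨y, rfl⟩ := C.surj x
  have h1 : y ^ n ∈ center K := (C.ker _).1 (by rw [map_pow, hx])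
  refine ⟨y ^ (n + 1), by rw [map_pow, pow_succ, hx, one_mul], ?_⟩
  obtain ⟨m, hm⟩ := hn.add_one
  rw [← pow_mul, hm, ← two_mul, mul_assoc, mul_comm m n, ← mul_assoc, mul_comm 2 n, pow_mul, pow_mul, pow_two,
    R.cc h1, one_pow]

/-- **(N4)** -/
theorem lift (C : Cov π) (D : PData X E a b) (R : Pair z) {α : MulAut K} (hα : α * α = 1)
    (hout : ∀ k, α ≠ MulAut.conj k) {e : K} (he : e * e = 1) (hec : e ∉ center K) :
    ∃ k : K, k * α k = 1 ∧ k * α e * k⁻¹ = e ∧ ∀ x, Odd (orderOf x) → x * e = e * x → k * α x * k⁻¹ = x := by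
  have he1 : π e ≠ 1 := fun h => hec ((C.ker _).1 h)
  have he2 : π e * π e = 1 := by rw [← map_mul, he, map_one]
  obtain ⟨β, hβ⟩ := C.exists_ind α
  obtain ⟨γ, hγ2, hγo, hγv, hγx⟩ := D.fixv _ he2 he1
  obtain ⟨x, hx⟩ := D.out2 γ β hγo (C.outer_ind hβ hout)
  have hββ := ind_sq C hβ hα
  have hγ : γ = MulAut.conj x * β := by
    rw [← hx, mul_assoc, hββ, mul_one]
  obtain ⟨k, rfl⟩ := C.surj x
  have h1 : ∀ l, π ((MulAut.conj k * α) l) = γ (π l) := by
    intro l
    rw [hγ, MulAut.mul_apply, MulAut.conj_apply, MulAut.mul_apply, MulAut.conj_apply, map_mul, map_mul, map_inv,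
      hβ]
  have h2 := sq_ind C h1 hγ2
  refine ⟨k, R.same C D hα hout h2, ?_, ?_⟩
  · have h3 := R.fix_inv C D h2 (fun l => not_inner_mul hout k l) he2 (by rw [h1, hγv])
    rw [MulAut.mul_apply, MulAut.conj_apply] at h3
    exact h3
  · intro y hy hye
    have h3 : Odd (orderOf (π y)) := Odd.of_dvd_nat hy (orderOf_map_dvd π y)
    have h4 := R.fix_odd C (α := MulAut.conj k * α) hy (pow_orderOf_eq_one y) (by
      rw [h1]
      exact hγx _ h3 (by rw [← map_mul, hye, map_mul]))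
    rw [MulAut.mul_apply, MulAut.conj_apply] at h4
    exact h4

/-- **(N2)** -/
theorem fix (C : Cov π) (D : PData X E a b) (R : Pair z) {e : K} (he : e * e = 1) (hec : e ∉ center K)
    {α : MulAut K} (hαe : α e = e) (hαx : ∀ x, Odd (orderOf x) → x * e = e * x → α x = x) : α * α = 1 := by
  have he1 : π e ≠ 1 := fun h => hec ((C.ker _).1 h)
  have he2 : π e * π e = 1 := by rw [← map_mul, he, map_one]
  obtain ⟨β, hβ⟩ := C.exists_ind α
  apply sq_ind C hβ
  apply D.fix2 _ he2 he1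
  · rw [← hβ, hαe]
  · intro x hx hxe
    obtain ⟨y, rfl, hy⟩ := R.lift_odd C hx (pow_orderOf_eq_one x)
    have h1 : Odd (orderOf y) := Odd.of_dvd_nat hx (orderOf_dvd_of_pow_eq_one hy)
    rw [← hβ, hαx y h1 (R.comm_odd C hx hy hxe)]

/-- **(N5)** -/
theorem exp2 (C : Cov π) (D : PData X E a b) (α : MulAut K) : ∃ k, α * α = MulAut.conj k := by
  by_cases h : ∃ k, α = MulAut.conj k
  · obtain ⟨k, rfl⟩ := h
    exact ⟨k * k, by rw [map_mul]⟩
  · push Not at h
    exact C.outTwo D.out2 α α h h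

/-! ### `OutSq` -/

theorem Nm.mul {n m : X} (hn : Nm E n) (hm : Nm E m) : Nm E (n * m) := by
  constructor
  · intro w hw
    have h1 := hn.1 _ (hm.1 w hw)
    have h2 : n * m * w * (n * m)⁻¹ = n * (m * w * m⁻¹) * n⁻¹ := by group
    rwa [h2]
  · intro w hw
    have h1 := hm.2 _ (hn.2 w hw)
    have h2 : (n * m)⁻¹ * w * (n * m) = m⁻¹ * (n⁻¹ * w * n) * m := by group
    rwa [h2]

theorem Nm.inv {n : X} (hn : Nm E n) : Nm E n⁻¹ := ⟨by simpa using hn.2, by simpa using hn.1⟩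

theorem Nm.one : Nm E (1 : X) := ⟨by simp, by simp⟩

/-- `g = n⁻¹ α(n)` for some `n` normalizing the inverse image of `E` -/
def Dl (π : K →* X) (E : Subgroup X) (α : MulAut K) (g : K) : Prop := ∃ n : K, Nm E (π n) ∧ n⁻¹ * α n = g

theorem Dl.mem (D : PData X E a b) {α : MulAut K} {β : MulAut X} (hβ : ∀ k, π (α k) = β (π k))
    (hE : ∀ y ∈ E, β y = y) {g : K} (h : Dl π E α g) : π g ∈ E := by
  obtain ⟨n, hn, rfl⟩ := h
  rw [map_mul, map_inv, hβ]
  exact delta_mem D hE hn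

theorem Dl.one (α : MulAut K) : Dl π E α 1 := ⟨1, by rw [map_one]; exact Nm.one, by simp⟩

theorem Dl.mul {α : MulAut K} {g m : K} (h : Dl π E α g) (hm : Nm E (π m)) :
    Dl π E α (m⁻¹ * g * m * (m⁻¹ * α m)) := by
  obtain ⟨n, hn, rfl⟩ := h
  refine ⟨n * m, by rw [map_mul]; exact Nm.mul hn hm, ?_⟩
  rw [map_mul]
  group

theorem Dl.mulz (R : Pair z) {α : MulAut K} {g : K} (h0 : Dl π E α z) (h : Dl π E α g) : Dl π E α (g * z) := by
  obtain ⟨n₀, hn₀, h₀⟩ := h0
  obtain ⟨n, hn, rfl⟩ := h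
  refine ⟨n₀ * n, by rw [map_mul]; exact Nm.mul hn₀ hn, ?_⟩
  rw [map_mul]
  calc (n₀ * n)⁻¹ * (α n₀ * α n) = n⁻¹ * ((n₀⁻¹ * α n₀) * α n) := by group
    _ = n⁻¹ * (α n * z) := by rw [h₀, R.zc]
    _ = n⁻¹ * α n * z := by group

theorem Dl.uniq (C : Cov π) (R : Pair z) {α : MulAut K} {g g' : K} (h0 : ¬ Dl π E α z) (h : Dl π E α g)
    (h' : Dl π E α g') (hp : π g = π g') : g = g' := by
  refine (R.eq_or C hp).resolve_right fun hgz => h0 ?_
  obtain ⟨n, hn, hng⟩ := h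
  obtain ⟨n', hn', hng'⟩ := h'
  refine ⟨n * n'⁻¹, by rw [map_mul, map_inv]; exact Nm.mul hn (Nm.inv hn'), ?_⟩
  have h1 : α n = n * g := by rw [← hng]; group
  have h2 : α n' = n' * g' := by rw [← hng']; group
  rw [map_mul, map_inv, h1, h2, hgz]
  calc (n * n'⁻¹)⁻¹ * (n * (g' * z) * (n' * g')⁻¹) = n' * g' * (z * g'⁻¹) * n'⁻¹ := by group
    _ = n' * g' * (g'⁻¹ * z) * n'⁻¹ := by rw [R.zc]
    _ = n' * (z * n'⁻¹) := by group
    _ = n' * (n'⁻¹ * z) := by rw [R.zc]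
    _ = z := by group

/-- `f (d⁻¹ f d)` is a commutator of fixed points -/
theorem comm_mem {α : MulAut K} {f d : K} (hf : α f = f) (hd : α d = d) (hff : f * f = 1) :
    f * (d⁻¹ * f * d) ∈ SqFx α := by
  apply commutator_le_SqFx α
  have h1 : ⁅f, d⁻¹⁆ ∈ ⁅Fx α, Fx α⁆ := commutator_mem_commutator (show f ∈ Fx α from hf)
    ((Fx α).inv_mem (show d ∈ Fx α from hd))
  have h2 : ⁅f, d⁻¹⁆ = f * (d⁻¹ * f * d) := by
    rw [commutatorElement_def, inv_inv, inv_eq_of_mul_eq_one_left hff]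
    group
  rwa [h2] at h1

/-- the end -/
theorem out_end {α : MulAut K} {g : K} (hg : Dl π E α g) (hg1 : g ≠ 1) (hs : g ∈ SqFx α) :
    ∃ x ∈ SqFx α, x ≠ 1 ∧ ∃ q, α q = q * x := by
  obtain ⟨n, -, hn⟩ := hg
  exact ⟨g, hs, hg1, n, by rw [← hn]; group⟩

section Comm

variable {A : Type*} [CommGroup A]

theorem prod_ten (h : ∀ x : A, x * x = 1) (a1 a2 a3 a4 a5 a6 a7 a8 a9 a10 : A) :
    (a1 * a2 * a3 * a4) * (a5 * a6 * a7 * a1) * (a8 * a9 * a2 * a5) * (a10 * a3 * a6 * a8) *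
      (a4 * a7 * a9 * a10) = 1 := by
  have e : (a1 * a2 * a3 * a4) * (a5 * a6 * a7 * a1) * (a8 * a9 * a2 * a5) * (a10 * a3 * a6 * a8) *
      (a4 * a7 * a9 * a10) = (a1 * a1) * (a2 * a2) * (a3 * a3) * (a4 * a4) * (a5 * a5) * (a6 * a6) *
      (a7 * a7) * (a8 * a8) * (a9 * a9) * (a10 * a10) := by
    ac_rfl
  rw [e]
  simp only [h]

end Comm

/-- `SqFx` under conjugation -/
theorem sqFx_conj {α : MulAut K} {g x : K} (h : x ∈ SqFx (MulAut.conj g * α * (MulAut.conj g)⁻¹)) :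
    g⁻¹ * x * g ∈ SqFx α := by
  have h1 : SqFx (MulAut.conj g * α * (MulAut.conj g)⁻¹) ≤ (SqFx α).comap (MulAut.conj g⁻¹).toMonoidHom := by
    rw [SqFx, closure_le]
    rintro _ ⟨y, hy, rfl⟩
    change g⁻¹ * (y * y) * g⁻¹⁻¹ ∈ SqFx α
    have e1 : (MulAut.conj g)⁻¹ = MulAut.conj g⁻¹ := (map_inv _ _).symm
    rw [e1] at hy
    have hy' : g * α (g⁻¹ * y * g⁻¹⁻¹) * g⁻¹ = y := hy
    rw [inv_inv] at hy' ⊢
    refine subset_closure ⟨g⁻¹ * y * g, ?_, by group⟩
    calc α (g⁻¹ * y * g) = g⁻¹ * (g * α (g⁻¹ * y * g) * g⁻¹) * g := by group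
      _ = g⁻¹ * y * g := by rw [hy']
  have h2 := h1 h
  change g⁻¹ * x * g⁻¹⁻¹ ∈ SqFx α at h2
  rwa [inv_inv] at h2

section Ab

variable {F : Subgroup K}

theorem ten_one (hF : ∀ f ∈ F, ∀ g ∈ F, f * g = g * f) (h2 : ∀ f ∈ F, f * f = 1)
    {a1 a2 a3 a4 a5 a6 a7 a8 a9 a10 : K} (h1 : a1 ∈ F) (h2' : a2 ∈ F) (h3 : a3 ∈ F) (h4 : a4 ∈ F) (h5 : a5 ∈ F)
    (h6 : a6 ∈ F) (h7 : a7 ∈ F) (h8 : a8 ∈ F) (h9 : a9 ∈ F) (h10 : a10 ∈ F) :
    (a1 * a2 * a3 * a4) * (a5 * a6 * a7 * a1) * (a8 * a9 * a2 * a5) * (a10 * a3 * a6 * a8) *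
      (a4 * a7 * a9 * a10) = 1 := by
  let _ : CommGroup ↥F := { (inferInstance : Group ↥F) with
    mul_comm := fun f g => Subtype.ext (hF f f.2 g g.2) }
  exact congrArg Subtype.val (prod_ten (A := ↥F) (fun x => Subtype.ext (h2 x x.2)) ⟨a1, h1⟩ ⟨a2, h2'⟩ ⟨a3, h3⟩
    ⟨a4, h4⟩ ⟨a5, h5⟩ ⟨a6, h6⟩ ⟨a7, h7⟩ ⟨a8, h8⟩ ⟨a9, h9⟩ ⟨a10, h10⟩)

theorem star4 (hF : ∀ f ∈ F, ∀ g ∈ F, f * g = g * f) (h2 : ∀ f ∈ F, f * f = 1) {m s a b c d : K}
    (hs : s ∈ F) (ha : m⁻¹ * a * m ∈ F) (hb : m⁻¹ * b * m ∈ F) (hc : m⁻¹ * c * m ∈ F) (hd : m⁻¹ * d * m ∈ F) :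
    (m⁻¹ * a * m * s) * (m⁻¹ * b * m * s) * (m⁻¹ * c * m * s) * (m⁻¹ * d * m * s) =
      m⁻¹ * (a * b * c * d) * m := by
  have e : ∀ p ∈ F, ∀ q ∈ F, p * s * (q * s) = p * q := by
    intro p hp q hq
    calc p * s * (q * s) = p * (s * q) * s := by group
      _ = p * (q * s) * s := by rw [hF s hs q hq]
      _ = p * q * (s * s) := by group
      _ = p * q := by rw [h2 s hs, mul_one]
  calc (m⁻¹ * a * m * s) * (m⁻¹ * b * m * s) * (m⁻¹ * c * m * s) * (m⁻¹ * d * m * s)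
      = ((m⁻¹ * a * m * s) * (m⁻¹ * b * m * s)) * ((m⁻¹ * c * m * s) * (m⁻¹ * d * m * s)) := by
        rw [mul_assoc ((m⁻¹ * a * m * s) * (m⁻¹ * b * m * s))]
    _ = ((m⁻¹ * a * m) * (m⁻¹ * b * m)) * ((m⁻¹ * c * m) * (m⁻¹ * d * m)) := by
        rw [e _ ha _ hb, e _ hc _ hd]
    _ = m⁻¹ * (a * b * c * d) * m := by group

end Ab

/-- the case `2B` -/
theorem outB (C : Cov π) (D : PData X E a b) (R : Pair z) {α : MulAut K} {β : MulAut X}
    (hβ : ∀ k, π (α k) = β (π k)) (hB : ConfB E β) :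
    ∃ x ∈ SqFx α, x = z ∨ (x ≠ 1 ∧ ∃ q, α q = q * x) := by
  obtain ⟨x, n, m, d, hE, hn, ⟨hm, hmx⟩, h01, h02, h234, hd, hd3, hβd, hd2, hd3'⟩ := hB
  obtain ⟨d, rfl, hdd⟩ := R.lift_odd C (n := 3) (by decide) hd3
  have hαd : α d = d := R.fix_odd C (n := 3) (by decide) hdd (by rw [hβ, hβd])
  obtain ⟨m, rfl⟩ := C.surj m
  have hfin : ∀ g : K, Dl π E α g → π g ≠ 1 →
      g * (d⁻¹ * g * d) * (d⁻¹ * (d⁻¹ * g * d) * d) = 1 → ∃ x ∈ SqFx α, x = z ∨ (x ≠ 1 ∧ ∃ q, α q = q * x) := by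
    intro g hg hg1 hP
    have hgE := Dl.mem D hβ hE hg
    have hgE' : π (d⁻¹ * g * d) ∈ E := by
      rw [map_mul, map_mul, map_inv]; exact hd.2 _ hgE
    have h1 := comm_mem (R.fixF C D hβ hE hgE') hαd (R.sq_one C D (D.sq _ hgE'))
    have h2 : g = (d⁻¹ * g * d * (d⁻¹ * (d⁻¹ * g * d) * d))⁻¹ := by
      rw [mul_assoc] at hP
      exact eq_inv_of_mul_eq_one_left hP
    obtain ⟨x, hx, hx1, hq⟩ := out_end hg (fun h => hg1 (by rw [h, map_one])) (by
      rw [h2]; exact inv_mem h1)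
    exact ⟨x, hx, Or.inr ⟨hx1, hq⟩⟩
  by_cases h0 : Dl π E α z
  · obtain ⟨u, hu⟩ := C.surj (n 0 2)
    have hn02 := hn 0 2 (by decide)
    have hg : Dl π E α (u⁻¹ * α u) := ⟨u, by rw [hu]; exact hn02.2.2.1, rfl⟩
    have hpg : π (u⁻¹ * α u) = x 0 2 := by rw [map_mul, map_inv, hβ, hu, hn02.2.2.2]
    generalize u⁻¹ * α u = g at hg hpg
    have hg1 : π g ≠ 1 := by rw [hpg]; exact h02
    have hP : g * (d⁻¹ * g * d) * (d⁻¹ * (d⁻¹ * g * d) * d) ∈ center K := by
      apply (C.ker _).1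
      simp only [map_mul, map_inv, hpg]
      rw [hd2, hd3', h234]
    rcases R.cases _ hP with h | h
    · exact hfin g hg hg1 h
    · refine hfin (g * z) (Dl.mulz R h0 hg) (by rw [map_mul, R.pz C, mul_one]; exact hg1) ?_
      have e1 : d⁻¹ * (g * z) * d = d⁻¹ * g * d * z := by
        calc d⁻¹ * (g * z) * d = d⁻¹ * g * (z * d) := by group
          _ = d⁻¹ * g * (d * z) := by rw [R.zc]
          _ = d⁻¹ * g * d * z := by group
      have e2 : d⁻¹ * (d⁻¹ * g * d * z) * d = d⁻¹ * (d⁻¹ * g * d) * d * z := by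
        calc d⁻¹ * (d⁻¹ * g * d * z) * d = d⁻¹ * (d⁻¹ * g * d) * (z * d) := by group
          _ = d⁻¹ * (d⁻¹ * g * d) * (d * z) := by rw [R.zc]
          _ = d⁻¹ * (d⁻¹ * g * d) * d * z := by group
      rw [e1, e2]
      generalize d⁻¹ * g * d = g1 at h ⊢
      generalize d⁻¹ * g1 * d = g2 at h ⊢
      calc g * z * (g1 * z) * (g2 * z) = g * (z * g1) * z * g2 * z := by group
        _ = g * (g1 * z) * z * g2 * z := by rw [R.zc]
        _ = g * g1 * (z * z) * g2 * z := by group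
        _ = g * g1 * g2 * z := by rw [R.zz, mul_one]
        _ = 1 := by rw [h, R.zz]
  · -- the unique lifts
    have hex : ∀ i j : Fin 5, ∃ u : K, π u = n i j := fun i j => C.surj _
    choose u hu using hex
    obtain ⟨g, hgdef⟩ : ∃ g : Fin 5 → Fin 5 → K, ∀ i j, (u i j)⁻¹ * α (u i j) = g i j := ⟨_, fun _ _ => rfl⟩
    have hg : ∀ i j, i ≠ j → Dl π E α (g i j) := fun i j hij =>
      ⟨u i j, by rw [hu]; exact (hn i j hij).2.2.1, hgdef i j⟩
    have hpg : ∀ i j, i ≠ j → π (g i j) = x i j := by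
      intro i j hij
      rw [← hgdef, map_mul, map_inv, hβ, hu, (hn i j hij).2.2.2]
    have hF : ∀ f ∈ E.comap π, ∀ g ∈ E.comap π, f * g = g * f := fun f hf g hg => R.comm_F C D hf hg
    have hF2 : ∀ f ∈ E.comap π, f * f = 1 := fun f hf => R.sq_one C D (D.sq _ hf)
    have hgF : ∀ i j, i ≠ j → g i j ∈ E.comap π := fun i j hij => Dl.mem D hβ hE (hg i j hij)
    have hsym : ∀ i j, i ≠ j → g j i = g i j := fun i j hij =>
      Dl.uniq C R h0 (hg j i hij.symm) (hg i j hij) (by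
        rw [hpg j i hij.symm, hpg i j hij, (hn i j hij).2.1])
    have hmD : m⁻¹ * α m ∈ E.comap π := Dl.mem D hβ hE ⟨m, hm, rfl⟩
    have hmg : ∀ i j, i ≠ j → m⁻¹ * g i j * m * (m⁻¹ * α m) = g (i + 1) (j + 1) := by
      intro i j hij
      have hij' : i + 1 ≠ j + 1 := fun h => hij (add_right_cancel h)
      refine Dl.uniq C R h0 (Dl.mul (hg i j hij) hm) (hg _ _ hij') ?_
      rw [hpg _ _ hij', ← hmx i j hij]
      simp only [map_mul, map_inv, hβ, hpg i j hij]
    have hmF : ∀ i j, i ≠ j → m⁻¹ * g i j * m ∈ E.comap π := by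
      intro i j hij
      change π (m⁻¹ * g i j * m) ∈ E
      rw [map_mul, map_mul, map_inv]
      exact hm.2 _ (hgF i j hij)
    have hstep : ∀ i j k l p : Fin 5, i ≠ j → i ≠ k → i ≠ l → i ≠ p →
        g i j * g i k * g i l * g i p ∈ center K →
        g (i + 1) (j + 1) * g (i + 1) (k + 1) * g (i + 1) (l + 1) * g (i + 1) (p + 1) =
          g i j * g i k * g i l * g i p := by
      intro i j k l p hj hk hl hp hc
      rw [← hmg i j hj, ← hmg i k hk, ← hmg i l hl, ← hmg i p hp,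
        star4 hF hF2 hmD (hmF i j hj) (hmF i k hk) (hmF i l hl) (hmF i p hp), mul_assoc, Cov.cen hc m]
      group
    have hP0 : g 0 1 * g 0 2 * g 0 3 * g 0 4 ∈ center K := by
      apply (C.ker _).1
      rw [map_mul, map_mul, map_mul, hpg 0 1 (by decide), hpg 0 2 (by decide), hpg 0 3 (by decide),
        hpg 0 4 (by decide), h01, one_mul, h234]
    have hP1 := hstep 0 1 2 3 4 (by decide) (by decide) (by decide) (by decide) hP0
    have hP2 := hstep 1 2 3 4 0 (by decide) (by decide) (by decide) (by decide) (by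
      have h := hP0; rw [← hP1] at h; exact h)
    have hP3 := hstep 2 3 4 0 1 (by decide) (by decide) (by decide) (by decide) (by
      have h := hP0; rw [← hP1] at h; change g 1 2 * g 1 3 * g 1 4 * g 1 0 ∈ _ at h; rw [← hP2] at h; exact h)
    have hP4 := hstep 3 4 0 1 2 (by decide) (by decide) (by decide) (by decide) (by
      have h := hP0
      rw [← hP1] at h
      change g 1 2 * g 1 3 * g 1 4 * g 1 0 ∈ _ at h
      rw [← hP2] at h
      change g 2 3 * g 2 4 * g 2 0 * g 2 1 ∈ _ at h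
      rw [← hP3] at h
      exact h)
    change g 1 2 * g 1 3 * g 1 4 * g 1 0 = _ at hP1
    change g 2 3 * g 2 4 * g 2 0 * g 2 1 = _ at hP2
    change g 3 4 * g 3 0 * g 3 1 * g 3 2 = _ at hP3
    change g 4 0 * g 4 1 * g 4 2 * g 4 3 = _ at hP4
    rw [hP3, hP2, hP1] at hP4
    rw [hP2, hP1] at hP3
    rw [hP1] at hP2
    rw [hsym 0 1 (by decide)] at hP1
    rw [hsym 0 2 (by decide), hsym 1 2 (by decide)] at hP2
    rw [hsym 0 3 (by decide), hsym 1 3 (by decide), hsym 2 3 (by decide)] at hP3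
    rw [hsym 0 4 (by decide), hsym 1 4 (by decide), hsym 2 4 (by decide), hsym 3 4 (by decide)] at hP4
    have hten := ten_one hF hF2 (hgF 0 1 (by decide)) (hgF 0 2 (by decide)) (hgF 0 3 (by decide))
      (hgF 0 4 (by decide)) (hgF 1 2 (by decide)) (hgF 1 3 (by decide)) (hgF 1 4 (by decide))
      (hgF 2 3 (by decide)) (hgF 2 4 (by decide)) (hgF 3 4 (by decide))
    rw [hP1, hP2, hP3, hP4] at hten
    have hPP := R.cc hP0
    have hg01 : g 0 1 = 1 := Dl.uniq C R h0 (hg 0 1 (by decide)) (Dl.one α) (by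
      rw [hpg 0 1 (by decide), h01, map_one])
    have hg03 : d⁻¹ * g 0 2 * d = g 0 3 := by
      have h1 := Dl.mul (hg 0 2 (by decide)) hd
      have e1 : d⁻¹ * α d = 1 := by rw [hαd, inv_mul_cancel]
      rw [e1, mul_one] at h1
      refine Dl.uniq C R h0 h1 (hg 0 3 (by decide)) ?_
      rw [map_mul, map_mul, map_inv, hpg 0 2 (by decide), hpg 0 3 (by decide), hd2]
    have hg04 : d⁻¹ * g 0 3 * d = g 0 4 := by
      have h1 := Dl.mul (hg 0 3 (by decide)) hd
      have e1 : d⁻¹ * α d = 1 := by rw [hαd, inv_mul_cancel]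
      rw [e1, mul_one] at h1
      refine Dl.uniq C R h0 h1 (hg 0 4 (by decide)) ?_
      rw [map_mul, map_mul, map_inv, hpg 0 3 (by decide), hpg 0 4 (by decide), hd3']
    apply hfin (g 0 2) (hg 0 2 (by decide)) (by rw [hpg 0 2 (by decide)]; exact h02)
    rw [hg03, hg04]
    have hP : g 0 1 * g 0 2 * g 0 3 * g 0 4 = 1 := by
      generalize g 0 1 * g 0 2 * g 0 3 * g 0 4 = P at hten hPP
      calc P = P * (P * P) * (P * P) := by rw [hPP, mul_one, mul_one]
        _ = P * P * P * P * P := by group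
        _ = 1 := hten
    rwa [hg01, one_mul] at hP

/-- the case `2C` -/
theorem outC (C : Cov π) (D : PData X E a b) (R : Pair z) {α : MulAut K} (hα : α * α = 1)
    (hout : ∀ k, α ≠ MulAut.conj k) {β : MulAut X}
    (hβ : ∀ k, π (α k) = β (π k)) (hC : ConfC E β) :
    ∃ x ∈ SqFx α, x = z ∨ (x ≠ 1 ∧ ∃ q, α q = q * x) := by
  obtain ⟨x, n, m, d, hE, hn, hx0, hprod, ⟨hd, hd5, hβd, hdx⟩, hm, hmm, hm0, hm1, hm3⟩ := hC
  obtain ⟨d, rfl, hdd⟩ := R.lift_odd C (n := 5) (by decide) hd5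
  have hαd : α d = d := R.fix_odd C (n := 5) (by decide) hdd (by rw [hβ, hβd])
  obtain ⟨m, rfl⟩ := C.surj m
  have hfin : ∀ g g1 g2 g3 g4 : K, Dl π E α g → π g ≠ 1 → d⁻¹ * g * d = g1 → d⁻¹ * g1 * d = g2 →
      d⁻¹ * g2 * d = g3 → d⁻¹ * g3 * d = g4 → g * g1 * g2 * g3 * g4 = 1 →
      ∃ x ∈ SqFx α, x = z ∨ (x ≠ 1 ∧ ∃ q, α q = q * x) := by
    intro g g1 g2 g3 g4 hg hg0 h1 h2 h3 h4 hP
    have e0 := Dl.mem D hβ hE hg
    have e1 : π g1 ∈ E := by rw [← h1, map_mul, map_mul, map_inv]; exact hd.2 _ e0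
    have e2 : π g2 ∈ E := by rw [← h2, map_mul, map_mul, map_inv]; exact hd.2 _ e1
    have e3 : π g3 ∈ E := by rw [← h3, map_mul, map_mul, map_inv]; exact hd.2 _ e2
    have s1 := comm_mem (R.fixF C D hβ hE e1) hαd (R.sq_one C D (D.sq _ e1))
    have s3 := comm_mem (R.fixF C D hβ hE e3) hαd (R.sq_one C D (D.sq _ e3))
    rw [h2] at s1
    rw [h4] at s3
    have h2 : g = (g1 * g2 * (g3 * g4))⁻¹ := by
      apply eq_inv_of_mul_eq_one_left
      rw [← hP]
      group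
    obtain ⟨x, hx, hx1, hq⟩ := out_end hg (fun h => hg0 (by rw [h, map_one])) (by
      rw [h2]; exact inv_mem (mul_mem s1 s3))
    exact ⟨x, hx, Or.inr ⟨hx1, hq⟩⟩
  have hprod' : x 0 * x 1 * x 2 * x 3 * x 4 = 1 := hprod
  by_cases h0 : Dl π E α z
  · obtain ⟨u, hu⟩ := C.surj (n 0)
    have hn0 := hn 0
    have hg : Dl π E α (u⁻¹ * α u) := ⟨u, by rw [hu]; exact hn0.2.1, rfl⟩
    have hpg : π (u⁻¹ * α u) = x 0 := by rw [map_mul, map_inv, hβ, hu, hn0.2.2]
    generalize u⁻¹ * α u = g at hg hpg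
    have hg1 : π g ≠ 1 := by rw [hpg]; exact hx0
    obtain ⟨g1, h1⟩ : ∃ g1, d⁻¹ * g * d = g1 := ⟨_, rfl⟩
    obtain ⟨g2, h2⟩ : ∃ g2, d⁻¹ * g1 * d = g2 := ⟨_, rfl⟩
    obtain ⟨g3, h3⟩ : ∃ g3, d⁻¹ * g2 * d = g3 := ⟨_, rfl⟩
    obtain ⟨g4, h4⟩ : ∃ g4, d⁻¹ * g3 * d = g4 := ⟨_, rfl⟩
    have p1 : π g1 = x 1 := by rw [← h1, map_mul, map_mul, map_inv, hpg, hdx]; rfl
    have p2 : π g2 = x 2 := by rw [← h2, map_mul, map_mul, map_inv, p1, hdx]; rfl
    have p3 : π g3 = x 3 := by rw [← h3, map_mul, map_mul, map_inv, p2, hdx]; rfl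
    have p4 : π g4 = x 4 := by rw [← h4, map_mul, map_mul, map_inv, p3, hdx]; rfl
    have hP : g * g1 * g2 * g3 * g4 ∈ center K := by
      apply (C.ker _).1
      rw [map_mul, map_mul, map_mul, map_mul, hpg, p1, p2, p3, p4, hprod']
    rcases R.cases _ hP with h | h
    · exact hfin g g1 g2 g3 g4 hg hg1 h1 h2 h3 h4 h
    · have hz : ∀ g g' : K, d⁻¹ * g * d = g' → d⁻¹ * (g * z) * d = g' * z := by
        intro g g' h
        rw [← h]
        calc d⁻¹ * (g * z) * d = d⁻¹ * g * (z * d) := by group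
          _ = d⁻¹ * g * (d * z) := by rw [R.zc]
          _ = d⁻¹ * g * d * z := by group
      refine hfin (g * z) (g1 * z) (g2 * z) (g3 * z) (g4 * z) (Dl.mulz R h0 hg)
        (by rw [map_mul, R.pz C, mul_one]; exact hg1) (hz _ _ h1) (hz _ _ h2) (hz _ _ h3) (hz _ _ h4) ?_
      have e : ∀ p q : K, p * z * (q * z) = p * q := by
        intro p q
        calc p * z * (q * z) = p * (z * q) * z := by group
          _ = p * (q * z) * z := by rw [R.zc]
          _ = p * q * (z * z) := by group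
          _ = p * q := by rw [R.zz, mul_one]
      calc g * z * (g1 * z) * (g2 * z) * (g3 * z) * (g4 * z)
          = (g * z * (g1 * z)) * ((g2 * z) * (g3 * z)) * (g4 * z) := by
            rw [mul_assoc (g * z * (g1 * z))]
        _ = g * g1 * g2 * g3 * g4 * z := by rw [e, e]; group
        _ = 1 := by rw [h, R.zz]
  · have hex : ∀ i : Fin 5, ∃ u : K, π u = n i := fun i => C.surj _
    choose u hu using hex
    obtain ⟨g, hgdef⟩ : ∃ g : Fin 5 → K, ∀ i, (u i)⁻¹ * α (u i) = g i := ⟨_, fun _ => rfl⟩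
    have hg : ∀ i, Dl π E α (g i) := fun i => ⟨u i, by rw [hu]; exact (hn i).2.1, hgdef i⟩
    have hpg : ∀ i, π (g i) = x i := by
      intro i
      rw [← hgdef, map_mul, map_inv, hβ, hu, (hn i).2.2]
    have hF : ∀ f g : K, π f ∈ E → π g ∈ E → f * g = g * f := fun f g hf hg => R.comm_F C D hf hg
    have hgF : ∀ i, π (g i) ∈ E := fun i => Dl.mem D hβ hE (hg i)
    have hg2 : ∀ i, g i * g i = 1 := fun i => R.sq_one C D (D.sq _ (hgF i))
    have hdg : ∀ i, d⁻¹ * g i * d = g (i + 1) := by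
      intro i
      have h1 := Dl.mul (hg i) hd
      have e1 : d⁻¹ * α d = 1 := by rw [hαd, inv_mul_cancel]
      rw [e1, mul_one] at h1
      refine Dl.uniq C R h0 h1 (hg _) ?_
      rw [map_mul, map_mul, map_inv, hpg, hpg, hdx]
    have hm0' : m⁻¹ * α m = g 0 := Dl.uniq C R h0 ⟨m, hm, rfl⟩ (hg 0) (by
      rw [map_mul, map_inv, hβ, hm0, hpg])
    have hm1' : m⁻¹ * g 1 * m * g 0 = g 2 := by
      have h1 := Dl.mul (hg 1) hm
      rw [hm0'] at h1
      refine Dl.uniq C R h0 h1 (hg _) ?_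
      rw [map_mul, map_mul, map_mul, map_inv, hpg, hpg, hpg, hm1]
    have hm3' : m⁻¹ * g 3 * m * g 0 = g 4 := by
      have h1 := Dl.mul (hg 3) hm
      rw [hm0'] at h1
      refine Dl.uniq C R h0 h1 (hg _) ?_
      rw [map_mul, map_mul, map_mul, map_inv, hpg, hpg, hpg, hm3]
    have hPc : g 0 * g 1 * g 2 * g 3 * g 4 ∈ center K := by
      apply (C.ker _).1
      rw [map_mul, map_mul, map_mul, map_mul, hpg, hpg, hpg, hpg, hpg, hprod']
    -- `τ = conj (g₁ g₃) α`
    have hwE : π (g 1 * g 3) ∈ E := by rw [map_mul]; exact mul_mem (hgF 1) (hgF 3)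
    have hαw : α (g 1 * g 3) = g 1 * g 3 := R.fixF C D hβ hE hwE
    have hww : g 1 * g 3 * (g 1 * g 3) = 1 := R.sq_one C D (D.sq _ hwE)
    have hτm : (MulAut.conj (g 1 * g 3) * α) m = m * (g 0 * g 1 * g 2 * g 3 * g 4) := by
      rw [MulAut.mul_apply, MulAut.conj_apply]
      have hαm : α m = m * g 0 := by rw [← hm0']; group
      have hc := fun i j => hF (g i) (g j) (hgF i) (hgF j)
      have e1 : m⁻¹ * g 1 * m = g 2 * g 0 := by
        rw [← hm1', mul_assoc (m⁻¹ * g 1 * m), hg2, mul_one]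
      have e3 : m⁻¹ * g 3 * m = g 4 * g 0 := by
        rw [← hm3', mul_assoc (m⁻¹ * g 3 * m), hg2, mul_one]
      have e4 : m⁻¹ * (g 1 * g 3) * m = g 2 * g 4 := by
        calc m⁻¹ * (g 1 * g 3) * m = (m⁻¹ * g 1 * m) * (m⁻¹ * g 3 * m) := by group
          _ = g 2 * (g 0 * g 4) * g 0 := by rw [e1, e3]; group
          _ = g 2 * (g 4 * g 0) * g 0 := by rw [hc]
          _ = g 2 * g 4 * (g 0 * g 0) := by group
          _ = g 2 * g 4 := by rw [hg2, mul_one]
      have e5 : (g 1 * g 3)⁻¹ = g 1 * g 3 := inv_eq_of_mul_eq_one_left hww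
      rw [hαm, e5]
      calc g 1 * g 3 * (m * g 0) * (g 1 * g 3) = m * (m⁻¹ * (g 1 * g 3) * m) * g 0 * (g 1 * g 3) := by group
        _ = m * (g 2 * (g 4 * g 0) * g 1 * g 3) := by rw [e4]; group
        _ = m * ((g 2 * g 0) * (g 4 * g 1) * g 3) := by rw [hc 4 0]; group
        _ = m * ((g 0 * g 2) * (g 1 * g 4) * g 3) := by rw [hc 2 0, hc 4 1]
        _ = m * (g 0 * (g 2 * g 1) * (g 4 * g 3)) := by group
        _ = m * (g 0 * (g 1 * g 2) * (g 3 * g 4)) := by rw [hc 2 1, hc 4 3]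
        _ = m * (g 0 * g 1 * g 2 * g 3 * g 4) := by group
    have hττ : MulAut.conj (g 1 * g 3) * α * (MulAut.conj (g 1 * g 3) * α) = 1 := by
      have h3 : MulAut.conj (g 1 * g 3) * α * (MulAut.conj (g 1 * g 3) * α) =
          MulAut.conj (g 1 * g 3 * α (g 1 * g 3)) * (α * α) := by
        ext x
        simp only [MulAut.mul_apply, MulAut.conj_apply, map_mul, map_inv, mul_inv_rev, mul_assoc]
      rw [h3, hα, hαw, hww, map_one, one_mul]
    have hfix := R.fix_inv C D hττ (fun l => not_inner_mul hout _ l) (e := m) hmm (by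
      rw [hτm, map_mul, (C.ker _).2 hPc, mul_one])
    rw [hτm] at hfix
    have hP : g 0 * g 1 * g 2 * g 3 * g 4 = 1 := mul_eq_left.1 hfix
    exact hfin (g 0) (g 1) (g 2) (g 3) (g 4) (hg 0) (by rw [hpg]; exact hx0) (hdg 0) (hdg 1) (hdg 2) (hdg 3) hP

/-- **(N6)** -/
theorem outSq (C : Cov π) (D : PData X E a b) (R : Pair z) : OutSq z := by
  intro α hα hout _
  obtain ⟨β, hβ⟩ := C.exists_ind α
  have hββ := ind_sq C hβ hα
  obtain ⟨g, hg⟩ := D.conf β hββ (C.outer_ind hβ hout)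
  obtain ⟨g, rfl⟩ := C.surj g
  have e1 : (MulAut.conj g)⁻¹ = MulAut.conj g⁻¹ := (map_inv _ _).symm
  have e2 : (MulAut.conj (π g))⁻¹ = MulAut.conj (π g)⁻¹ := (map_inv _ _).symm
  have hap : ∀ l, (MulAut.conj g * α * (MulAut.conj g)⁻¹) l = g * α (g⁻¹ * l * g) * g⁻¹ := by
    intro l
    rw [e1]
    change g * α (g⁻¹ * l * g⁻¹⁻¹) * g⁻¹ = _
    rw [inv_inv]
  have hβ' : ∀ l, π ((MulAut.conj g * α * (MulAut.conj g)⁻¹) l) =
      (MulAut.conj (π g) * β * (MulAut.conj (π g))⁻¹) (π l) := by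
    intro l
    rw [hap, e2]
    change _ = π g * β ((π g)⁻¹ * π l * (π g)⁻¹⁻¹) * (π g)⁻¹
    rw [inv_inv, map_mul π, map_mul π, hβ, map_mul π, map_mul π, map_inv π]
  have hα' : MulAut.conj g * α * (MulAut.conj g)⁻¹ * (MulAut.conj g * α * (MulAut.conj g)⁻¹) = 1 := by
    calc MulAut.conj g * α * (MulAut.conj g)⁻¹ * (MulAut.conj g * α * (MulAut.conj g)⁻¹)
        = MulAut.conj g * (α * α) * (MulAut.conj g)⁻¹ := by group
      _ = 1 := by rw [hα]; group
  have hout' : ∀ k, MulAut.conj g * α * (MulAut.conj g)⁻¹ ≠ MulAut.conj k := by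
    intro k hk
    apply hout (g⁻¹ * k * g)
    have h4 : α = (MulAut.conj g)⁻¹ * (MulAut.conj g * α * (MulAut.conj g)⁻¹) * MulAut.conj g := by group
    rw [h4, hk, map_mul, map_mul, map_inv]
  have hres : ∃ x ∈ SqFx (MulAut.conj g * α * (MulAut.conj g)⁻¹), x = z ∨ (x ≠ 1 ∧ ∃ q,
      (MulAut.conj g * α * (MulAut.conj g)⁻¹) q = q * x) := by
    rcases hg with hg | hg
    · exact R.outB C D hβ' hg
    · exact R.outC C D hα' hout' hβ' hg
  obtain ⟨x, hx, h⟩ := hres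
  refine ⟨g⁻¹ * x * g, sqFx_conj hx, ?_⟩
  rcases h with rfl | ⟨hx1, q, hq⟩
  · left
    rw [mul_assoc, R.zc g, inv_mul_cancel_left]
  · right
    refine ⟨?_, g⁻¹ * q * g, ?_⟩
    · intro h
      apply hx1
      calc x = g * (g⁻¹ * x * g) * g⁻¹ := by group
        _ = 1 := by rw [h]; group
    · rw [hap] at hq
      calc α (g⁻¹ * q * g) = g⁻¹ * (g * α (g⁻¹ * q * g) * g⁻¹) * g := by group
        _ = g⁻¹ * (q * x) * g := by rw [hq]
        _ = g⁻¹ * q * g * (g⁻¹ * x * g) := by group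

end Pair

end Cfsg.Agent.OddHalf.D9.M22.CovPair
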