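import Cfsg.Agent.OddHalf.D9.M22.EDataM22
import Cfsg.Agent.OddHalf.D9.M22.CovPair

/-!
# The configurations `ConfB`, `ConfC` for the outer involutions of `M22.2`

`conf` : the field `conf` of `CovPair.PData Spor.M22 E22 a22 b22`. The tables are due to helper322.
-/

set_option autoImplicit false
set_option Elab.async false

namespace Cfsg.Agent.OddHalf.D9.M22.ConfM22

open Cfsg Cfsg.Agent.SporadicA.GolayBase Cfsg.Agent.SporadicA.GolayPerm
open Cfsg.Agent.SporadicStructure.M24El Cfsg.Agent.KFacts.MM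
open Cfsg.Agent.KFacts.MM.El (pm pr weq okl)
open Cfsg.Agent.KFacts.MM.Data (WL zP)
open Cfsg.Agent.OddHalf.D9.M22.Data (aP bP)
open Cfsg.Agent.J4Type.Aut22 (D22)
open Cfsg.Agent.OddHalf.D9.M22 Cfsg.Agent.OddHalf.D9.M22.EDataM22 Cfsg.Agent.OddHalf.D9.M22.CovPair
open Cfsg.Agent.KFacts.MM.InvM22 (isPerm_of_ok)

/-! ### Tables -/

/-- the elements `x i j` for `aP` -/
def xT : List (List ℕ) := [
  [984818244535754528103549039458486304,
   984818244535754528103549039458486304,
   960831283963798152912375878980765728,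
   972560815420533050926679905878345760,
   976934804572108675034832543981668384],
  [984818244535754528103549039458486304,
   984818244535754528103549039458486304,
   960884477435128931241433760505432096,
   976420838754479978627774237199763488,
   973054518210042674313238929715267616],
  [960831283963798152912375878980765728,
   960884477435128931241433760505432096,
   984818244535754528103549039458486304,
   961438956620049001677386430328277024,
   961365507626256404119956257276790816],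
  [972560815420533050926679905878345760,
   976420838754479978627774237199763488,
   961438956620049001677386430328277024,
   984818244535754528103549039458486304,
   984724508489452699215480746259449888],
  [976934804572108675034832543981668384,
   973054518210042674313238929715267616,
   961365507626256404119956257276790816,
   984724508489452699215480746259449888,
   984818244535754528103549039458486304]]

/-- the elements `n i j` for `aP` -/
def nT : List (List ℕ) := [
  [984818244535754528103549039458486304,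
   984818244535754528103549039458486304,
   981515887986994088769278604842469408,
   978318524216658799587490559007787040,
   972606645568131968584696805283956768],
  [984818244535754528103549039458486304,
   984818244535754528103549039458486304,
   975728708050008715525885598301784096,
   962781169961859770917597827557885984,
   976531636853126291160407323722221600],
  [981515887986994088769278604842469408,
   975728708050008715525885598301784096,
   984818244535754528103549039458486304,
   979664649077166684931923499319691296,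
   968708902336673183175954409307867168],
  [978318524216658799587490559007787040,
   962781169961859770917597827557885984,
   979664649077166684931923499319691296,
   984818244535754528103549039458486304,
   959732426763950752223113323844601888],
  [972606645568131968584696805283956768,
   976531636853126291160407323722221600,
   968708902336673183175954409307867168,
   959732426763950752223113323844601888,
   984818244535754528103549039458486304]]

def mB : ℕ := 981557652331371326394331282385078304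
def dB : ℕ := 963387251845851716769057140306020384

/-- the elements `x i` for `bP` -/
def xC : List ℕ := [
  977023451795203591179182037798520864,
  976448692869377735270425038196672544,
  973054518210042674313238929715267616,
  984724508489452699215480746259449888,
  972560815420533050926679905878345760]

/-- the elements `n i` for `bP` -/
def nC : List ℕ := [
  972606645568131968584696805283956768,
  963721886883755259286232606933354528,
  983271302155371035984055114495264800,
  980504394422866046962412236452235296,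
  976531636853126291160407323722221600]

def mC : ℕ := 967933930814660160276170748135048256
def dC : ℕ := 982096318998391814847189819862485024

/-! ### Elements of `M22` and outer automorphisms -/

open Classical in
/-- the packed element of `M22` -/
noncomputable def el22 (P : ℕ) : Spor.M22 := if h : ok22 P = true then ⟨pm P, pm_M22 h⟩ else 1

theorem coe_el22 {P : ℕ} (h : ok22 P = true) : (el22 P : Equiv.Perm GolayPt) = pm P := by
  unfold el22
  rw [dif_pos h]

theorem isPerm22 {P : ℕ} (h : ok22 P = true) : isPerm P = true := isPerm_of_ok (ok_of_ok22 h)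

theorem el22_one : el22 idP = 1 := by
  apply Subtype.ext
  rw [coe_el22 (by decide +kernel), pm_idP]
  rfl

theorem D22_none {A : Equiv.Perm GolayPt} (hA : A ∈ D22) {x : Equiv.Perm GolayPt} (hx : x ∈ Spor.M22) :
    A * x * A⁻¹ ∈ Spor.M22 := by
  rw [Cfsg.Agent.J4Type.Aut22.mem_M22_iff_D22]
  have hxD := Cfsg.Agent.J4Type.Aut22.M22_le_D22 hx
  refine ⟨D22.mul_mem (D22.mul_mem hA hxD) (D22.inv_mem hA), ?_⟩
  obtain ⟨-, h1, h2⟩ := (Cfsg.Agent.SporadicA.MathieuRecog.mem_M22_iff x).1 hx
  show A (x (A⁻¹ none)) = none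
  rcases ((Cfsg.Agent.J4Type.Aut22.mem_D22_iff A).1 hA).2 with ⟨h3, -⟩ | ⟨-, h4⟩
  · have h5 : A⁻¹ none = none := by rw [Equiv.Perm.inv_eq_iff_eq, h3]
    rw [h5, h1, h3]
  · have h5 : A⁻¹ none = some 0 := by rw [Equiv.Perm.inv_eq_iff_eq, h4]
    rw [h5, h2, h4]

/-- conjugation by an element of `D22` as an automorphism of `M22` -/
noncomputable def cj (A : Equiv.Perm GolayPt) (hA : A ∈ D22) : MulAut Spor.M22 where
  toFun x := ⟨A * x * A⁻¹, D22_none hA x.2⟩
  invFun x := ⟨A⁻¹ * x * A, by
    have h := D22_none (D22.inv_mem hA) x.2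
    rwa [inv_inv] at h⟩
  left_inv x := Subtype.ext (by show A⁻¹ * (A * (x : Equiv.Perm GolayPt) * A⁻¹) * A = x; group)
  right_inv x := Subtype.ext (by show A * (A⁻¹ * (x : Equiv.Perm GolayPt) * A) * A⁻¹ = x; group)
  map_mul' x y := Subtype.ext (by
    show A * ((x : Equiv.Perm GolayPt) * y) * A⁻¹ = A * (x : Equiv.Perm GolayPt) * A⁻¹ * (A * y * A⁻¹)
    group)

theorem coe_cj {A : Equiv.Perm GolayPt} (hA : A ∈ D22) (x : Spor.M22) :
    (cj A hA x : Equiv.Perm GolayPt) = A * x * A⁻¹ := rfl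

theorem pm_bP_D22 : pm bP ∈ D22 := by
  rw [Cfsg.Agent.J4Type.Aut22.mem_D22_iff]
  refine ⟨pm_M24 ok_bP, Or.inr ⟨pm_bP_none, ?_⟩⟩
  rw [← pt_0, pm_pt ok_bP (by norm_num), b_0]
  rfl

theorem nm_of_nrm {n : ℕ} (h : nrm n = true) : Nm E22 (el22 n) := by
  have h1 := coe_el22 (ok22_of_nrm h)
  have h2 := nrm_pm h
  refine ⟨fun w hw => ?_, fun w hw => ?_⟩
  · rw [mem_E22]
    show (el22 n : Equiv.Perm GolayPt) * w * (el22 n : Equiv.Perm GolayPt)⁻¹ ∈ E
    rw [h1]
    exact h2.2 _ hw
  · rw [mem_E22]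
    show (el22 n : Equiv.Perm GolayPt)⁻¹ * w * (el22 n : Equiv.Perm GolayPt) ∈ E
    rw [h1]
    exact h2.inv_mem hw

theorem eq_three {P Q R S T U : ℕ} (h1 : isPerm P = true) (h2 : isPerm Q = true) (h3 : isPerm R = true)
    (h4 : isPerm S = true) (h5 : isPerm T = true) (h6 : isPerm U = true) (h : weq [P, Q, R] [S, T, U] = true) :
    pm P * pm Q * pm R = pm S * pm T * pm U := by
  have h7 := El.pr_of_weq (okl_three h1 h2 h3) (okl_three h4 h5 h6) h
  simp only [El.pr_cons, El.pr_nil, mul_one] at h7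
  rw [mul_assoc, mul_assoc]; exact h7

theorem eq_two_three {P Q S T U : ℕ} (h1 : isPerm P = true) (h2 : isPerm Q = true)
    (h4 : isPerm S = true) (h5 : isPerm T = true) (h6 : isPerm U = true) (h : weq [P, Q] [S, T, U] = true) :
    pm P * pm Q = pm S * pm T * pm U := by
  have h7 := El.pr_of_weq (okl_two h1 h2) (okl_three h4 h5 h6) h
  simp only [El.pr_cons, El.pr_nil, mul_one] at h7
  rw [mul_assoc (pm S)]; exact h7

/-- `n⁻¹ A(n) = x` -/
theorem delta_eq {A : ℕ} (hA : ok A = true) (hAD : pm A ∈ D22) {n x : ℕ} (hn : ok22 n = true) (hx : ok22 x = true)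
    (h : weq [A, n] [n, x, A] = true) : (el22 n)⁻¹ * cj (pm A) hAD (el22 n) = el22 x := by
  apply Subtype.ext
  show (el22 n : Equiv.Perm GolayPt)⁻¹ * (pm A * (el22 n : Equiv.Perm GolayPt) * (pm A)⁻¹) = el22 x
  rw [coe_el22 hn, coe_el22 hx, eq_two_three (isPerm_of_ok hA) (isPerm22 hn) (isPerm22 hn) (isPerm22 hx)
    (isPerm_of_ok hA) h]
  group

/-- `m⁻¹ x m (m⁻¹ A(m)) = y` -/
theorem move_eq {A : ℕ} (hA : ok A = true) (hAD : pm A ∈ D22) {m x y : ℕ} (hm : ok22 m = true) (hx : ok22 x = true)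
    (hy : ok22 y = true) (h : weq [x, A, m] [m, y, A] = true) :
    (el22 m)⁻¹ * el22 x * el22 m * ((el22 m)⁻¹ * cj (pm A) hAD (el22 m)) = el22 y := by
  apply Subtype.ext
  show (el22 m : Equiv.Perm GolayPt)⁻¹ * (el22 x : Equiv.Perm GolayPt) * (el22 m : Equiv.Perm GolayPt) *
    ((el22 m : Equiv.Perm GolayPt)⁻¹ * (pm A * (el22 m : Equiv.Perm GolayPt) * (pm A)⁻¹)) = el22 y
  rw [coe_el22 hm, coe_el22 hx, coe_el22 hy]
  have h1 := eq_three (isPerm22 hx) (isPerm_of_ok hA) (isPerm22 hm) (isPerm22 hm) (isPerm22 hy) (isPerm_of_ok hA) h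
  calc (pm m)⁻¹ * pm x * pm m * ((pm m)⁻¹ * (pm A * pm m * (pm A)⁻¹)) =
      (pm m)⁻¹ * (pm x * pm A * pm m) * (pm A)⁻¹ := by group
    _ = (pm m)⁻¹ * (pm m * pm y * pm A) * (pm A)⁻¹ := by rw [h1]
    _ = pm y := by group

theorem conj_eq' {m x y : ℕ} (hm : ok22 m = true) (hx : ok22 x = true)
    (hy : ok22 y = true) (h : weq [x, m] [m, y] = true) :
    (el22 m)⁻¹ * el22 x * el22 m = el22 y := by
  apply Subtype.ext
  show (el22 m : Equiv.Perm GolayPt)⁻¹ * (el22 x : Equiv.Perm GolayPt) * (el22 m : Equiv.Perm GolayPt) = el22 y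
  rw [coe_el22 hm, coe_el22 hx, coe_el22 hy, mul_assoc, eq_two (isPerm22 hx) (isPerm22 hm) (isPerm22 hm)
    (isPerm22 hy) h]
  group

theorem conj_mul_eq {m x y w : ℕ} (hm : ok22 m = true) (hx : ok22 x = true)
    (hy : ok22 y = true) (hw : ok22 w = true) (h : weq [x, m, w] [m, y] = true) :
    (el22 m)⁻¹ * el22 x * el22 m * el22 w = el22 y := by
  apply Subtype.ext
  show (el22 m : Equiv.Perm GolayPt)⁻¹ * (el22 x : Equiv.Perm GolayPt) * (el22 m : Equiv.Perm GolayPt) *
    (el22 w : Equiv.Perm GolayPt) = el22 y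
  rw [coe_el22 hm, coe_el22 hx, coe_el22 hy, coe_el22 hw]
  have h7 := El.pr_of_weq (okl_three (isPerm22 hx) (isPerm22 hm) (isPerm22 hw))
    (okl_two (isPerm22 hm) (isPerm22 hy)) h
  simp only [El.pr_cons, El.pr_nil, mul_one] at h7
  calc (pm m)⁻¹ * pm x * pm m * pm w = (pm m)⁻¹ * (pm x * (pm m * pm w)) := by group
    _ = (pm m)⁻¹ * (pm m * pm y) := by rw [h7]
    _ = pm y := by group

theorem ok22_WL {P : ℕ} (h : WL.any (Nat.beq P) = true) : P ∈ WL := by
  obtain ⟨Q, hQ, h1⟩ := List.any_eq_true.1 h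
  rwa [Nat.eq_of_beq_eq_true h1]

theorem el22_mem {P : ℕ} (h : P ∈ WL) : el22 P ∈ E22 := by
  rw [mem_E22, coe_el22 (ok22_of_WL h)]
  exact pm_mem_E h

theorem el22_ne {P : ℕ} (h : ok22 P = true) (hw : weq [P] [] = false) : el22 P ≠ 1 := by
  intro e
  refine El.pr_ne (okl_one (isPerm22 h)) rfl hw ?_
  rw [El.pr_one, El.pr_nil, ← coe_el22 h, e]
  rfl

/-! ### `ConfB` -/

/-- the packed `x i j` -/
def xP (i j : ℕ) : ℕ := (xT.getD i []).getD j 0
/-- the packed `n i j` -/
def nP (i j : ℕ) : ℕ := (nT.getD i []).getD j 0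

theorem xB_ok : ((List.range 5).all fun i => (List.range 5).all fun j => Nat.beq i j ||
    (WL.any (Nat.beq (xP i j)) && Nat.beq (xP i j) (xP j i) && nrm (nP i j) &&
      weq [aP, nP i j] [nP i j, xP i j, aP] &&
      weq [xP i j, aP, mB] [mB, xP ((i + 1) % 5) ((j + 1) % 5), aP])) = true := by decide +kernel

theorem xB_spec {i j : ℕ} (hi : i < 5) (hj : j < 5) (hij : i ≠ j) : xP i j ∈ WL ∧ xP i j = xP j i ∧
    nrm (nP i j) = true ∧ weq [aP, nP i j] [nP i j, xP i j, aP] = true ∧
    weq [xP i j, aP, mB] [mB, xP ((i + 1) % 5) ((j + 1) % 5), aP] = true := by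
  have h1 := List.all_eq_true.1 (List.all_eq_true.1 xB_ok i (List.mem_range.2 hi)) j (List.mem_range.2 hj)
  rw [Bool.or_eq_true, Nat.beq_eq] at h1
  rcases h1 with h1 | h1
  · exact absurd h1 hij
  simp only [Bool.and_eq_true, Nat.beq_eq] at h1
  exact ⟨ok22_WL h1.1.1.1.1, h1.1.1.1.2, h1.1.1.2, h1.1.2, h1.2⟩

theorem mB_nrm : nrm mB = true := by decide +kernel
theorem dB_nrm : nrm dB = true := by decide +kernel

theorem prod_three {P Q R : ℕ} (hP : ok22 P = true) (hQ : ok22 Q = true) (hR : ok22 R = true)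
    (h : weq [P, Q, R] [] = true) : el22 P * el22 Q * el22 R = 1 := by
  apply Subtype.ext
  show (el22 P : Equiv.Perm GolayPt) * (el22 Q : Equiv.Perm GolayPt) * (el22 R : Equiv.Perm GolayPt) = 1
  rw [coe_el22 hP, coe_el22 hQ, coe_el22 hR]
  have h7 := El.pr_of_weq (okl_three (isPerm22 hP) (isPerm22 hQ) (isPerm22 hR)) rfl h
  simp only [El.pr_cons, El.pr_nil, mul_one] at h7
  rw [mul_assoc]; exact h7

theorem confB : ConfB E22 (cj (pm aP) pm_aP_D22) := by
  have hval : ∀ i : Fin 5, (i + 1 : Fin 5).val = (i.val + 1) % 5 := by decide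
  refine ⟨fun i j => el22 (xP i j), fun i j => el22 (nP i j), el22 mB, el22 dB, ?_, ?_, ⟨nm_of_nrm mB_nrm, ?_⟩,
    ?_, ?_, ?_, nm_of_nrm dB_nrm, ?_, ?_, ?_, ?_⟩
  · intro y hy
    apply Subtype.ext
    rw [coe_cj, aP_comm (mem_E22.1 hy), mul_inv_cancel_right]
  · intro i j hij
    obtain ⟨h1, h2, h3, h4, -⟩ := xB_spec i.2 j.2 (fun e => hij (Fin.ext e))
    refine ⟨el22_mem h1, ?_, nm_of_nrm h3, delta_eq ok_aP pm_aP_D22 (ok22_of_nrm h3) (ok22_of_WL h1) h4⟩
    show el22 (xP i j) = el22 (xP j i)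
    rw [h2]
  · intro i j hij
    obtain ⟨h1, -, -, -, h5⟩ := xB_spec i.2 j.2 (fun e => hij (Fin.ext e))
    have hij' : i + 1 ≠ j + 1 := fun e => hij (add_right_cancel e)
    obtain ⟨h1', -⟩ := xB_spec (i + 1).2 (j + 1).2 (fun e => hij' (Fin.ext e))
    show (el22 mB)⁻¹ * el22 (xP i j) * el22 mB * ((el22 mB)⁻¹ * cj (pm aP) pm_aP_D22 (el22 mB)) =
      el22 (xP (i + 1 : Fin 5) (j + 1 : Fin 5))
    refine move_eq ok_aP pm_aP_D22 (ok22_of_nrm mB_nrm) (ok22_of_WL h1) (ok22_of_WL h1') ?_
    rw [hval i, hval j]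
    exact h5
  · show el22 (xP 0 1) = 1
    rw [show xP 0 1 = idP by decide +kernel, el22_one]
  · exact el22_ne (P := xP 0 2) (by decide +kernel) (by decide +kernel)
  · exact prod_three (P := xP 0 2) (Q := xP 0 3) (R := xP 0 4) (by decide +kernel) (by decide +kernel)
      (by decide +kernel) (by decide +kernel)
  · rw [pow_succ, pow_two]
    exact prod_three (P := dB) (Q := dB) (R := dB) (by decide +kernel) (by decide +kernel)
      (by decide +kernel) (by decide +kernel)
  · apply Subtype.ext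
    rw [coe_cj, coe_el22 (ok22_of_nrm dB_nrm), eq_two (isPerm_of_ok ok_aP) (isPerm22 (ok22_of_nrm dB_nrm))
      (isPerm22 (ok22_of_nrm dB_nrm)) (isPerm_of_ok ok_aP) (by decide +kernel), mul_inv_cancel_right]
  · exact conj_eq' (m := dB) (x := xP 0 2) (y := xP 0 3) (by decide +kernel) (by decide +kernel)
      (by decide +kernel) (by decide +kernel)
  · exact conj_eq' (m := dB) (x := xP 0 3) (y := xP 0 4) (by decide +kernel) (by decide +kernel)
      (by decide +kernel) (by decide +kernel)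

/-! ### `ConfC` -/

theorem xC_ok : ((List.range 5).all fun i => (WL.any (Nat.beq (xC.getD i 0)) && nrm (nC.getD i 0) &&
      weq [bP, nC.getD i 0] [nC.getD i 0, xC.getD i 0, bP] &&
      weq [xC.getD i 0, dC] [dC, xC.getD ((i + 1) % 5) 0])) = true := by decide +kernel

theorem xC_spec {i : ℕ} (hi : i < 5) : xC.getD i 0 ∈ WL ∧ nrm (nC.getD i 0) = true ∧
      weq [bP, nC.getD i 0] [nC.getD i 0, xC.getD i 0, bP] = true ∧
      weq [xC.getD i 0, dC] [dC, xC.getD ((i + 1) % 5) 0] = true := by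
  have h1 := List.all_eq_true.1 xC_ok i (List.mem_range.2 hi)
  simp only [Bool.and_eq_true] at h1
  exact ⟨ok22_WL h1.1.1.1, h1.1.1.2, h1.1.2, h1.2⟩

theorem mC_nrm : nrm mC = true := by decide +kernel
theorem dC_nrm : nrm dC = true := by decide +kernel

theorem five {P Q R S T : ℕ} (hP : ok22 P = true) (hQ : ok22 Q = true) (hR : ok22 R = true) (hS : ok22 S = true)
    (hT : ok22 T = true) (h : weq [P, Q, R, S, T] [] = true) :
    el22 P * el22 Q * el22 R * el22 S * el22 T = 1 := by
  apply Subtype.ext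
  show (el22 P : Equiv.Perm GolayPt) * (el22 Q : Equiv.Perm GolayPt) * (el22 R : Equiv.Perm GolayPt) *
    (el22 S : Equiv.Perm GolayPt) * (el22 T : Equiv.Perm GolayPt) = 1
  rw [coe_el22 hP, coe_el22 hQ, coe_el22 hR, coe_el22 hS, coe_el22 hT]
  have hl : okl [P, Q, R, S, T] = true := by
    unfold El.okl
    simp only [List.all_cons, List.all_nil, isPerm22 hP, isPerm22 hQ, isPerm22 hR, isPerm22 hS, isPerm22 hT,
      Bool.and_self]
  have h7 := El.pr_of_weq hl rfl h
  simp only [El.pr_cons, El.pr_nil, mul_one] at h7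
  rw [← h7]; group

theorem confC : ConfC E22 (cj (pm bP) pm_bP_D22) := by
  have hval : ∀ i : Fin 5, (i + 1 : Fin 5).val = (i.val + 1) % 5 := by decide
  refine ⟨fun i => el22 (xC.getD i 0), fun i => el22 (nC.getD i 0), el22 mC, el22 dC, ?_, ?_, ?_, ?_,
    ⟨nm_of_nrm dC_nrm, ?_, ?_, ?_⟩, nm_of_nrm mC_nrm, ?_, ?_, ?_, ?_⟩
  · intro y hy
    apply Subtype.ext
    rw [coe_cj, bP_comm (mem_E22.1 hy), mul_inv_cancel_right]
  · intro i
    obtain ⟨h1, h2, h3, -⟩ := xC_spec i.2
    exact ⟨el22_mem h1, nm_of_nrm h2, delta_eq ok_bP pm_bP_D22 (ok22_of_nrm h2) (ok22_of_WL h1) h3⟩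
  · exact el22_ne (P := xC.getD 0 0) (by decide +kernel) (by decide +kernel)
  · exact five (P := xC.getD 0 0) (Q := xC.getD 1 0) (R := xC.getD 2 0) (S := xC.getD 3 0) (T := xC.getD 4 0)
      (by decide +kernel) (by decide +kernel) (by decide +kernel) (by decide +kernel) (by decide +kernel)
      (by decide +kernel)
  · have h := five (P := dC) (Q := dC) (R := dC) (S := dC) (T := dC)
      (by decide +kernel) (by decide +kernel) (by decide +kernel) (by decide +kernel) (by decide +kernel)
      (by decide +kernel)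
    rw [← h, show (5 : ℕ) = 1 + 1 + 1 + 1 + 1 from rfl, pow_add, pow_add, pow_add, pow_add, pow_one]
  · apply Subtype.ext
    rw [coe_cj, coe_el22 (ok22_of_nrm dC_nrm), eq_two (isPerm_of_ok ok_bP) (isPerm22 (ok22_of_nrm dC_nrm))
      (isPerm22 (ok22_of_nrm dC_nrm)) (isPerm_of_ok ok_bP) (by decide +kernel), mul_inv_cancel_right]
  · intro i
    obtain ⟨h1, -, -, h4⟩ := xC_spec i.2
    obtain ⟨h1', -⟩ := xC_spec (i + 1).2
    refine conj_eq' (ok22_of_nrm dC_nrm) (ok22_of_WL h1) (ok22_of_WL h1') ?_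
    rw [hval i]
    exact h4
  · apply Subtype.ext
    show (el22 mC : Equiv.Perm GolayPt) * (el22 mC : Equiv.Perm GolayPt) = 1
    rw [coe_el22 (ok22_of_nrm mC_nrm)]
    exact eq_nil (isPerm22 (ok22_of_nrm mC_nrm)) (isPerm22 (ok22_of_nrm mC_nrm)) (by decide +kernel)
  · exact delta_eq (x := xC.getD 0 0) ok_bP pm_bP_D22 (ok22_of_nrm mC_nrm) (by decide +kernel) (by decide +kernel)
  · exact conj_mul_eq (m := mC) (x := xC.getD 1 0) (y := xC.getD 2 0) (w := xC.getD 0 0) (by decide +kernel)
      (by decide +kernel) (by decide +kernel) (by decide +kernel) (by decide +kernel)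
  · exact conj_mul_eq (m := mC) (x := xC.getD 3 0) (y := xC.getD 4 0) (w := xC.getD 0 0) (by decide +kernel)
      (by decide +kernel) (by decide +kernel) (by decide +kernel) (by decide +kernel)

/-! ### All outer involutions -/

/-- the field `conf` of `PData` -/
theorem conf (β : MulAut Spor.M22) (h2 : β * β = 1) (hout : ∀ x, β ≠ MulAut.conj x) :
    ∃ g : Spor.M22, ConfB E22 (MulAut.conj g * β * (MulAut.conj g)⁻¹) ∨
      ConfC E22 (MulAut.conj g * β * (MulAut.conj g)⁻¹) := by
  obtain ⟨h, hh, hβ⟩ := exists_D β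
  have hn := not_mem_of_outer hβ hout
  have hsq : h * h = 1 := by
    refine eq_of_conj (D22.mul_mem hh hh) D22.one_mem fun x => ?_
    have h3 : ((β * β) x : Equiv.Perm GolayPt) = x := by rw [h2]; rfl
    rw [MulAut.mul_apply, hβ, hβ] at h3
    calc h * h * (x : Equiv.Perm GolayPt) * (h * h)⁻¹ = h * (h * x * h⁻¹) * h⁻¹ := by group
      _ = x := h3
      _ = 1 * x * 1⁻¹ := by group
  -- the conjugate of `β` is the conjugation by `A`
  have key : ∀ (A : Equiv.Perm GolayPt) (hA : A ∈ D22) (g : Spor.M22),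
      h = (g : Equiv.Perm GolayPt) * A * (g : Equiv.Perm GolayPt)⁻¹ →
      MulAut.conj g⁻¹ * β * (MulAut.conj g⁻¹)⁻¹ = cj A hA := by
    intro A hA g e
    apply MulEquiv.ext
    intro x
    apply Subtype.ext
    rw [coe_cj]
    have h4 : (MulAut.conj g⁻¹ * β * (MulAut.conj g⁻¹)⁻¹) x = g⁻¹ * β (g * x * g⁻¹) * g := by
      rw [← map_inv, inv_inv, MulAut.mul_apply, MulAut.mul_apply, MulAut.conj_apply, MulAut.conj_apply, inv_inv]
    rw [h4]
    show (g : Equiv.Perm GolayPt)⁻¹ * (β (g * x * g⁻¹) : Equiv.Perm GolayPt) * (g : Equiv.Perm GolayPt) =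
      A * x * A⁻¹
    rw [hβ, e]
    show (g : Equiv.Perm GolayPt)⁻¹ * ((g : Equiv.Perm GolayPt) * A * (g : Equiv.Perm GolayPt)⁻¹ *
      ((g : Equiv.Perm GolayPt) * x * (g : Equiv.Perm GolayPt)⁻¹) *
      ((g : Equiv.Perm GolayPt) * A * (g : Equiv.Perm GolayPt)⁻¹)⁻¹) * (g : Equiv.Perm GolayPt) = A * x * A⁻¹
    group
  obtain ⟨g, hg, e | e⟩ := outer_cases hh hn hsq
  · refine ⟨(⟨g, hg⟩ : Spor.M22)⁻¹, Or.inl ?_⟩
    rw [key _ pm_aP_D22 ⟨g, hg⟩ e]
    exact confB
  · refine ⟨(⟨g, hg⟩ : Spor.M22)⁻¹, Or.inr ?_⟩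
    rw [key _ pm_bP_D22 ⟨g, hg⟩ e]
    exact confC

end Cfsg.Agent.OddHalf.D9.M22.ConfM22
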