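import Mathlib.Data.Nat.Notation

/-!
# Packed permutations for the facts about `M22` and `M22.2` used for the covers of `M22`

The group `M22.2` is the stabiliser in `M24` of the set of the points of indices 23 and 0.
-/

set_option autoImplicit false

namespace Cfsg.Agent.OddHalf.D9.M22.Data

/-- an involution interchanging 23 and 0, with 8 fixed points, commuting with all of `WL` -/
def aP : ℕ := 5989235823820259689967313196876887

/-- an involution interchanging 23 and 0, without fixed points, commuting with all of `WL` -/
def bP : ℕ := 5447382388983081592886053788877911

/-- elements of `M24` conjugating the involution `P1` to `aP`, mapping the moved points of `P1` to 23 -/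
def cA : List ℕ := [
  666698304442815333842525571577873047,
  671683740289467998103476851058236768,
  900929671127128369491856291856467429,
  670507557355440009447890480029632833,
  569268944852052929204146967471773043,
  107914084243533090969633317994182288,
  278378700227790904919366957980274325,
  900954988225571224619251364400699719,
  255732795713921380865899522364627428,
  872967878740555508842617841688069605,
  184582695147872208226783207728890445,
  18350718961188289625920676061328752,
  923471715631182341612730791658866053,
  568216948345703776550834124399986149,
  320718666014440383963810421849872964,
  977556892411248778714807077089594741]

/-- elements of `M24` conjugating the involution `P2` to `bP`, mapping the points to 23 -/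
def cB : List ℕ := [
  444331860060415716664282775182260791,
  148570299619582709433822081766851306,
  652024181292720397022426587778505736,
  555175568032577027681215281547164207,
  268183697429256553997982929511778346,
  632985498441938434908435474639128630,
  375568987539881424218400380075711152,
  501797218534951800357578603446315495,
  395236401338404291370579053180361379,
  134291182864723870180523849129798112,
  380760858565061111505299864890264808,
  130397368837416557417585996105557650,
  5275184003849185918959808197217522,
  837682717206143964244611599108710992,
  275972029741435477090103466546383107,
  234361158629418077159952867022559368,
  810268809026392975738358338068036136,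
  581744215316184835909985405727186540,
  818056793446637891873651072899163777,
  586937084050081671218984504512852322,
  58442621298910745327468524801935633,
  59346820116846675047810529710230770,
  362664003524868940133862933313113317,
  965810851301864897915895762954398180]

/-- an involution of `M22` normalising `WL` -/
def uP : ℕ := 979612761135085349229180013683835968

/-- an involution of `M22` normalising `WL`, `uP * vP` of order 4 -/
def vP : ℕ := 965128854020860192151391391390468128

/-- an element of order 3 commuting with `zP` -/
def d0 : ℕ := 963346899445373020599264805269837344

/-- an element of order 3 commuting with `zP` -/
def d1 : ℕ := 964038917760814939315992205756774496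

/-- an element of order 3 commuting with `zP` -/
def d2 : ℕ := 964046510025216699383369721277746624

/-- words in `d0`, `d1`, `d2` -/
def dW : List (List ℕ) := [
  [],
  [d0],
  [d1],
  [d2],
  [d0, d0],
  [d0, d1],
  [d0, d2],
  [d1, d0],
  [d1, d2],
  [d2, d0],
  [d2, d1],
  [d0, d0, d1],
  [d0, d0, d2],
  [d1, d2, d0],
  [d0, d1, d2, d0],
  [d1, d0, d0, d2],
  [d0, d0, d1, d2, d0]]

end Cfsg.Agent.OddHalf.D9.M22.Data
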