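import Mathlib.Data.Nat.Notation

/-!
# Packed elements of `M22` commuting with `zP`, involutions of `N(WL)`
-/

set_option autoImplicit false

namespace Cfsg.Agent.OddHalf.D9.M22.DataU

/-- elements of `C(zP)` mapping 4 to the moved points of `zP` -/
def R1 : List ℕ := [
  984818244535754528103549039458486304,
  965128854020860192151391391390468128,
  963721886883755259286232606933354528,
  979121071158219704299181131031480352,
  968708902336673183175954409307867168,
  967812279691448225500382947153381408,
  971592882964418941354553515258775584,
  970499966350631336865513127433832480,
  976448692869377735270425038196672544,
  981818691054096003685363657089320992,
  972512676110088067912772961567868960,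
  966182099583441531322624363496310816,
  983548720921252936276249910206105632,
  975346028712660580592452217730074656,
  980224387687010295957922729495201824,
  961365507626256404119956257276790816]

/-- elements of `C(zP)` fixing 4 and mapping 1 to 1, 2, 3, 5, 14, 17 -/
def R2 : List ℕ := [
  984818244535754528103549039458486304,
  984721978136738731986858641841030208,
  984806823288735101514964346924480608,
  984194076295974029493954907895547040,
  984734650921275015040877327156284864,
  984239680340857133004336663034369568]

/-- elements of `C(zP)` fixing 4, 1 and mapping 3 to 3, 5, 14, 17 -/
def R3 : List ℕ := [
  984818244535754528103549039458486304,
  984202951082164080105044112956360736,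
  984724508489452699215480746259449888,
  984235865005994746954145143334668320]

/-- involutions of the normaliser of `WL` -/
def nL : List ℕ := [
  983553010088178266402939871779325984,
  974338656214362718975024378963690560,
  968571400229892424521567095052929056,
  962286864140653867024520594739169312,
  976990105829392847739289005721748544,
  971833682212383564744611475376015392,
  984404951986650291017642929327245344,
  974422238081544939122441376219924512,
  980599603407022916402920467664013344]

end Cfsg.Agent.OddHalf.D9.M22.DataU
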