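import Cfsg.Agent.OddHalf.D9.M22.RowFour
import Cfsg.Agent.OddHalf.D9.M22.EDataM22

/-!
# The row `4.M22` of D9 (`Cut.Rows.m22four`)
-/

set_option autoImplicit false

namespace Cfsg.Agent.OddHalf.D9.M22.FourRow

open Cfsg Subgroup

universe u

/-- the row `m22four` -/
theorem m22four : Cut.Row.{u} (fun K _ => Nat.card ↥(center K) = 4 ∧ Spor.IsoM22 (K ⧸ center K)) :=
  RowFour.row EDataM22.exists_edata

end Cfsg.Agent.OddHalf.D9.M22.FourRow
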