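import Mathlib
import Cfsg.Agent.OddHalf.D9.Kill

/-!
# D9, rows `2.M22` and `4.M22`: the kill, group level

`Fr z K R` : `z` is an involution of `K ∩ R`, `K` and `R` are normal in `C(z)`, `[K, R] = 1`, `R` is a cyclic 2-group,
`|C(z) : K R| ≤ 2`.

* `TwoFacts`, `TwoFacts.isolated` : the facts used for `K ≅ 2.M22`, and `z^G ∩ C(z) = {z}`;
* `FourFacts`, `FourFacts.isolated` : the same for `K ≅ 4.M22`.
-/

set_option autoImplicit false

namespace Cfsg.Agent.OddHalf.D9.M22.GLevel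

open Subgroup Cfsg.Agent.OddHalf.D9.Kill
open scoped commutatorElement

universe u

section OO

variable {G : Type u} [Group G]

/-- The subgroup generated by the elements of odd order of `S`. -/
def OO (S : Subgroup G) : Subgroup G := closure {x | x ∈ S ∧ ∃ n : ℕ, Odd n ∧ x ^ n = 1}

theorem mem_OO {S : Subgroup G} {x : G} (h : x ∈ S) {n : ℕ} (hn : Odd n) (hx : x ^ n = 1) : x ∈ OO S :=
  subset_closure ⟨h, n, hn, hx⟩

theorem OO_mono {S T : Subgroup G} (h : S ≤ T) : OO S ≤ OO T := by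
  apply Subgroup.closure_mono
  rintro x ⟨hx, hn⟩
  exact ⟨h hx, hn⟩

theorem OO_le (S : Subgroup G) : OO S ≤ S := by
  rw [OO, closure_le]
  exact fun x hx => hx.1

theorem OO_conj {f a x : G} (hx : x ∈ OO (Ce f)) : a⁻¹ * x * a ∈ OO (Ce (a⁻¹ * f * a)) := by
  induction hx using closure_induction with
  | mem x hx =>
    obtain ⟨h1, n, hn, h2⟩ := hx
    refine mem_OO ?_ hn ?_
    · have h1' : x * f = f * x := h1
      change a⁻¹ * x * a * (a⁻¹ * f * a) = a⁻¹ * f * a * (a⁻¹ * x * a)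
      calc a⁻¹ * x * a * (a⁻¹ * f * a) = a⁻¹ * (x * f) * a := by group
        _ = a⁻¹ * (f * x) * a := by rw [h1']
        _ = _ := by group
    · have h3 := conj_pow (i := n) (a := a⁻¹) (b := x)
      rw [inv_inv] at h3
      rw [h3, h2]; group
  | one => simp
  | mul x y _ _ hx hy =>
    have : a⁻¹ * (x * y) * a = a⁻¹ * x * a * (a⁻¹ * y * a) := by group
    rw [this]; exact mul_mem hx hy
  | inv x _ hx =>
    have : a⁻¹ * x⁻¹ * a = (a⁻¹ * x * a)⁻¹ := by group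
    rw [this]; exact inv_mem hx

theorem comm_cyc {N : Subgroup G} {ρ : G} (h : ∀ x ∈ N, ∃ i : ℤ, x * ρ * x⁻¹ = ρ ^ i) {x : G}
    (hx : x ∈ ⁅N, N⁆) : x * ρ = ρ * x := by
  have h1 : ⁅N, N⁆ ≤ Ce ρ := by
    rw [commutator_le]
    intro x hx y hy
    obtain ⟨i, hi⟩ := h x hx
    obtain ⟨j, hj⟩ := h y hy
    have h2 : x * y * ρ * (x * y)⁻¹ = ρ ^ (i * j) := by
      calc x * y * ρ * (x * y)⁻¹ = x * (y * ρ * y⁻¹) * x⁻¹ := by group
        _ = (x * ρ * x⁻¹) ^ j := by rw [hj, conj_zpow]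
        _ = _ := by rw [hi, zpow_mul]
    have h3 : y * x * ρ * (y * x)⁻¹ = ρ ^ (i * j) := by
      calc y * x * ρ * (y * x)⁻¹ = y * (x * ρ * x⁻¹) * y⁻¹ := by group
        _ = (y * ρ * y⁻¹) ^ i := by rw [hi, conj_zpow]
        _ = _ := by rw [hj, ← zpow_mul, mul_comm]
    have h4 : ρ = (y * x)⁻¹ * ρ ^ (i * j) * (y * x) := by rw [← h3]; group
    rw [mem_Ce, commutatorElement_def]
    -- `[x,y] = (xy)(yx)⁻¹`
    calc x * y * x⁻¹ * y⁻¹ * ρ = x * y * (y * x)⁻¹ * ρ * (y * x) * (y * x)⁻¹ := by group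
      _ = x * y * ((y * x)⁻¹ * ρ * (y * x)) * (y * x)⁻¹ := by group
      _ = x * y * ((x * y)⁻¹ * ρ * (x * y)) * (y * x)⁻¹ := by
        -- both are `ρ ^ k` with the same `k`
        have h5 : (y * x)⁻¹ * ρ * (y * x) = (x * y)⁻¹ * ρ * (x * y) := by
          obtain ⟨i', hi'⟩ := h x⁻¹ (inv_mem hx)
          obtain ⟨j', hj'⟩ := h y⁻¹ (inv_mem hy)
          rw [inv_inv] at hi' hj'
          calc (y * x)⁻¹ * ρ * (y * x) = x⁻¹ * (y⁻¹ * ρ * y) * x := by group
            _ = (x⁻¹ * ρ * x) ^ j' := by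
              rw [hj']
              have := conj_zpow (i := j') (a := x⁻¹) (b := ρ)
              rw [inv_inv] at this
              exact this.symm
            _ = ρ ^ (i' * j') := by rw [hi', zpow_mul]
            _ = (ρ ^ j') ^ i' := by rw [mul_comm, zpow_mul]
            _ = (y⁻¹ * ρ * y) ^ i' := by rw [hj']
            _ = y⁻¹ * ρ ^ i' * y := by
              have := conj_zpow (i := i') (a := y⁻¹) (b := ρ)
              rw [inv_inv] at this
              exact this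
            _ = y⁻¹ * (x⁻¹ * ρ * x) * y := by rw [hi']
            _ = _ := by group
        rw [h5]
      _ = ρ * (x * y * x⁻¹ * y⁻¹) := by group
  exact h1 hx

end OO

/-- The frame. -/
structure Fr {G : Type u} [Group G] (z : G) (K R : Subgroup G) : Prop where
  zz : z * z = 1
  z1 : z ≠ 1
  zK : z ∈ K
  zR : z ∈ R
  Kz : ∀ k ∈ K, k * z = z * k
  nrm : ∀ h : G, h * z = z * h → ∀ k ∈ K, h * k * h⁻¹ ∈ K
  nrmR : ∀ h : G, h * z = z * h → ∀ r ∈ R, h * r * h⁻¹ ∈ R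
  comm : ∀ r ∈ R, ∀ k ∈ K, r * k = k * r
  cyc : ∃ ρ ∈ R, ∀ r ∈ R, ∃ n : ℤ, r = ρ ^ n
  two : ∀ r ∈ R, ∃ n : ℕ, r ^ 2 ^ n = 1
  inv : ∀ r ∈ R, r * r = 1 → r = 1 ∨ r = z
  idx : ∀ h h' : G, h * z = z * h → h' * z = z * h' → (¬ ∃ k ∈ K, ∃ r ∈ R, h = k * r) →
    (¬ ∃ k ∈ K, ∃ r ∈ R, h' = k * r) → ∃ k ∈ K, ∃ r ∈ R, h * h' = k * r

namespace Fr

variable {G : Type u} [Group G] {z : G} {K R : Subgroup G}

theorem Rz (F : Fr z K R) {r : G} (hr : r ∈ R) : r * z = z * r := F.comm r hr z F.zK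

theorem Rcomm (F : Fr z K R) {r s : G} (hr : r ∈ R) (hs : s ∈ R) : r * s = s * r := by
  obtain ⟨ρ, _, h⟩ := F.cyc
  obtain ⟨m, rfl⟩ := h r hr
  obtain ⟨n, rfl⟩ := h s hs
  rw [← zpow_add, ← zpow_add, add_comm]

/-- the elements of `K R` -/
def KR (K R : Subgroup G) (h : G) : Prop := ∃ k ∈ K, ∃ r ∈ R, h = k * r

theorem KR_of_K {k : G} (hk : k ∈ K) : KR K R k := ⟨k, hk, 1, R.one_mem, (mul_one k).symm⟩

theorem KR.comm_z (F : Fr z K R) {h : G} (hh : KR K R h) : h * z = z * h := by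
  obtain ⟨k, hk, r, hr, rfl⟩ := hh
  rw [mul_assoc, F.Rz hr, ← mul_assoc, F.Kz k hk, mul_assoc]

theorem KR.mul (F : Fr z K R) {h h' : G} (hh : KR K R h) (hh' : KR K R h') : KR K R (h * h') := by
  obtain ⟨k, hk, r, hr, rfl⟩ := hh
  obtain ⟨k', hk', r', hr', rfl⟩ := hh'
  refine ⟨k * k', mul_mem hk hk', r * r', mul_mem hr hr', ?_⟩
  calc k * r * (k' * r') = k * (r * k') * r' := by group
    _ = k * (k' * r) * r' := by rw [F.comm r hr k' hk']
    _ = _ := by group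

theorem KR.inv (F : Fr z K R) {h : G} (hh : KR K R h) : KR K R h⁻¹ := by
  obtain ⟨k, hk, r, hr, rfl⟩ := hh
  refine ⟨k⁻¹, inv_mem hk, r⁻¹, inv_mem hr, ?_⟩
  rw [← F.comm r hr k hk]
  group

theorem sq_KR (F : Fr z K R) {h : G} (hh : h * z = z * h) : KR K R (h * h) := by
  by_cases h1 : KR K R h
  · exact h1.mul F h1
  · exact F.idx h h hh hh h1 h1

/-- the elements of odd order of `C(z)` lie in `K` -/
theorem mem_of_odd (F : Fr z K R) {h : G} (hh : h * z = z * h) {n : ℕ} (hn : Odd n) (h1 : h ^ n = 1) :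
    h ∈ K := by
  -- `h = (h * h) ^ m` for some `m`
  obtain ⟨m, hm⟩ := hn
  have h2 : h = ((h * h) ^ m)⁻¹ := by
    rw [← pow_two, ← pow_mul, eq_inv_iff_mul_eq_one, ← pow_succ']
    rw [← h1, hm]
  have h3 : ∀ j : ℕ, KR K R ((h * h) ^ j) := by
    intro j
    induction j with
    | zero => rw [pow_zero]; exact KR_of_K K.one_mem
    | succ j ih => rw [pow_succ]; exact ih.mul F (F.sq_KR hh)
  obtain ⟨k, hk, r, hr, hkr⟩ : KR K R h := by rw [h2]; exact (h3 m).inv F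
  -- `r ^ n ∈ K`
  have h4 : k ^ (2 * m + 1) * r ^ (2 * m + 1) = 1 := by
    rw [← h1, hm, hkr, Commute.mul_pow]
    exact (F.comm r hr k hk).symm
  have h5 : r ^ (2 * m + 1) ∈ K := by
    rw [mul_eq_one_iff_inv_eq] at h4
    rw [← h4]
    exact inv_mem (pow_mem hk _)
  -- `r` is a power of `r ^ (2m+1)`
  have h6 : r ∈ K := by
    obtain ⟨j, hj⟩ := F.two r hr
    have h7 : Nat.Coprime (2 * m + 1) (2 ^ j) := by
      apply Nat.Coprime.pow_right
      exact Nat.coprime_two_right.mpr ⟨m, rfl⟩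
    have h9 : (r ^ (2 * m + 1)) ^ (Int.gcdA (2 * m + 1 : ℕ) (2 ^ j : ℕ)) = r := by
      rw [← zpow_natCast, ← zpow_mul]
      have hb := Nat.gcd_eq_gcd_ab (2 * m + 1) (2 ^ j)
      rw [h7] at hb
      have : ((2 * m + 1 : ℕ) : ℤ) * Int.gcdA (2 * m + 1 : ℕ) (2 ^ j : ℕ) =
          1 - ((2 ^ j : ℕ) : ℤ) * Nat.gcdB (2 * m + 1) (2 ^ j) := by
        have : Nat.gcdA (2 * m + 1) (2 ^ j) = Int.gcdA (2 * m + 1 : ℕ) (2 ^ j : ℕ) := rfl
        rw [← this]
        push_cast at hb ⊢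
        linarith
      rw [this, zpow_sub, zpow_one, zpow_mul, zpow_natCast, hj]
      simp
    rw [← h9]
    exact zpow_mem h5 _
  rw [hkr]
  exact mul_mem hk h6

theorem OO_le_K (F : Fr z K R) : OO (Ce z) ≤ K := by
  rw [OO, closure_le]
  rintro x ⟨hx, n, hn, h1⟩
  exact F.mem_of_odd hx hn h1

/-- the SWAP for `O²` -/
theorem swap_OO (F : Fr z K R) {a f x : G} (hf : f = a * z * a⁻¹) (hx : x ∈ OO (Ce f)) :
    a⁻¹ * x * a ∈ K := by
  have h1 := OO_conj (a := a) hx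
  have h2 : a⁻¹ * f * a = z := by rw [hf]; group
  rw [h2] at h1
  exact F.OO_le_K h1

/-- the elements of `[C(f), C(f)]` centralize `a R a⁻¹`, `f = a z a⁻¹` -/
theorem comm_conj (F : Fr z K R) {a f x ρ : G} (hf : f = a * z * a⁻¹) (hρ : ρ ∈ R)
    (hx : x ∈ ⁅Ce f, Ce f⁆) : x * (a * ρ * a⁻¹) = a * ρ * a⁻¹ * x := by
  obtain ⟨σ, hσ, h⟩ := F.cyc
  have h1 : x * (a * σ * a⁻¹) = a * σ * a⁻¹ * x := by
    refine comm_cyc ?_ hx
    intro y hy
    have hy' : y * f = f * y := hy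
    have h2 : a⁻¹ * y * a * z = z * (a⁻¹ * y * a) := by
      calc a⁻¹ * y * a * z = a⁻¹ * (y * (a * z * a⁻¹)) * a := by group
        _ = a⁻¹ * (a * z * a⁻¹ * y) * a := by rw [← hf, hy']
        _ = _ := by group
    obtain ⟨i, hi⟩ := h _ (F.nrmR _ h2 σ hσ)
    refine ⟨i, ?_⟩
    rw [conj_zpow, ← hi]
    group
  obtain ⟨n, hn⟩ := h ρ hρ
  rw [hn, ← conj_zpow]
  exact (Commute.zpow_right (show Commute x (a * σ * a⁻¹) from h1) n)

/-- `[s, r] = 1` if `s ∈ C(z) ∩ a R a⁻¹`, `r ∈ R` and `f = a z a⁻¹ ≠ z` lies in `K`. -/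
theorem comm_R (F : Fr z K R) {a f ρ r : G} (hf : f = a * z * a⁻¹) (hfz : f ≠ z) (hfK : f ∈ K)
    (hρ : ρ ∈ R) (hs : a * ρ * a⁻¹ * z = z * (a * ρ * a⁻¹)) (hr : r ∈ R) :
    a * ρ * a⁻¹ * r = r * (a * ρ * a⁻¹) := by
  -- the commutator lies in `R ∩ a R a⁻¹`
  set s := a * ρ * a⁻¹ with hsd
  have h1 : s * r * s⁻¹ ∈ R := F.nrmR s hs r hr
  have h2 : s * r * s⁻¹ * r⁻¹ ∈ R := mul_mem h1 (inv_mem hr)
  -- `r` commutes with `f`
  have h3 : r * f = f * r := F.comm r hr f hfK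
  have h4 : a⁻¹ * r * a * z = z * (a⁻¹ * r * a) := by
    calc a⁻¹ * r * a * z = a⁻¹ * (r * (a * z * a⁻¹)) * a := by group
      _ = a⁻¹ * (a * z * a⁻¹ * r) * a := by rw [← hf, h3]
      _ = _ := by group
  have h5 : a⁻¹ * r * a * ρ⁻¹ * (a⁻¹ * r * a)⁻¹ ∈ R := F.nrmR _ h4 _ (inv_mem hρ)
  have h6 : a⁻¹ * (s * r * s⁻¹ * r⁻¹) * a ∈ R := by
    have : a⁻¹ * (s * r * s⁻¹ * r⁻¹) * a = ρ * (a⁻¹ * r * a * ρ⁻¹ * (a⁻¹ * r * a)⁻¹) := by
      rw [hsd]; group
    rw [this]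
    exact mul_mem hρ h5
  -- an element of `R` whose conjugate by `a⁻¹` is in `R` is trivial
  have h7 : ∀ t : G, t ∈ R → a⁻¹ * t * a ∈ R → t = 1 := by
    intro t ht hta
    by_contra hne
    -- some power is an involution
    obtain ⟨n, hn⟩ := F.two t ht
    have h8 : ∃ m : ℕ, t ^ 2 ^ m ≠ 1 ∧ t ^ 2 ^ m * t ^ 2 ^ m = 1 := by
      induction n with
      | zero =>
        rw [pow_zero, pow_one] at hn
        exact absurd hn hne
      | succ n ih =>
        by_cases h9 : t ^ 2 ^ n = 1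
        · exact ih h9
        · refine ⟨n, h9, ?_⟩
          rw [← pow_add, ← two_mul, ← pow_succ', hn]
    obtain ⟨m, hm1, hm2⟩ := h8
    have h9 : t ^ 2 ^ m = z := (F.inv _ (pow_mem ht _) hm2).resolve_left hm1
    have h10 : (a⁻¹ * t * a) ^ 2 ^ m = a⁻¹ * t ^ 2 ^ m * a := by
      have := conj_pow (i := 2 ^ m) (a := a⁻¹) (b := t)
      rwa [inv_inv] at this
    have h11 : a⁻¹ * z * a = z := by
      rw [h9] at h10
      rcases F.inv _ (by rw [← h10]; exact pow_mem hta _ : a⁻¹ * z * a ∈ R) (by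
        calc a⁻¹ * z * a * (a⁻¹ * z * a) = a⁻¹ * (z * z) * a := by group
          _ = 1 := by rw [F.zz]; group) with h | h
      · exfalso
        apply F.z1
        calc z = a * (a⁻¹ * z * a) * a⁻¹ := by group
          _ = 1 := by rw [h]; group
      · exact h
    apply hfz
    rw [hf]
    nth_rewrite 1 [← h11]
    group
  have h8 := h7 _ h2 h6
  rw [mul_inv_eq_one, mul_inv_eq_iff_eq_mul] at h8
  exact h8

end Fr

/-! ### `2.M22` -/

/-- The facts used for `K ≅ 2.M22`. `C` is one of the two classes of noncentral involutions of `K`. -/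
structure TwoFacts {G : Type u} [Group G] (z : G) (K R : Subgroup G) (C : Set G) : Prop where
  /-- `Z(K) = ⟨z⟩` -/
  cen : ∀ x ∈ K, x ∈ R → x = 1 ∨ x = z
  /-- `z` is not a square in `K` -/
  sqz : ∀ k ∈ K, k * k ≠ z
  /-- an involution outside `C` is the square of an element of `O²(C_K(f))` -/
  four : ∀ f ∈ K, f * f = 1 → f ≠ 1 → f ≠ z → f ∉ C → ∃ y ∈ OO (Ce f), y * y = f
  dis : ∀ f ∈ C, f * z ∉ C
  CK : ∀ f ∈ C, f ∈ K
  Cne : ∀ f ∈ C, f ≠ z
  /-- a triple in `C` -/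
  triple : ∀ f ∈ C, ∃ y ∈ K, y * f = f * y ∧ y * y = 1 ∧ y ≠ 1 ∧ y ≠ f ∧ (∃ k ∈ K, y = k * f * k⁻¹) ∧
    (∃ n ∈ K, n * f = f * n ∧ n * y * n⁻¹ = f * y) ∧
    ∃ d ∈ K, d * f = f * d ∧ d * y = y * d ∧ d * d * d = 1 ∧ d ≠ 1 ∧ d ∈ ⁅Ce f ⊓ K, Ce f ⊓ K⁆
  /-- `z ∈ C_K(f)'` -/
  zder : ∀ f ∈ C, z ∈ ⁅Ce f ⊓ K, Ce f ⊓ K⁆
  /-- `M22` has no element of order 12 -/
  no12 : ∀ f ∈ C, ∀ k ∈ K, (k * k = f ∨ k * k = f * z) → ∀ d ∈ K, d * k = k * d → d * d * d = 1 → d = 1
  /-- an outer involution `w` conjugate to `w z` -/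
  outer : ∀ w : G, w * z = z * w → w * w = 1 → ¬ Fr.KR K R w → ∀ k ∈ K, k * w * k⁻¹ = w * z →
    ∀ d ∈ K, d * w = w * d → d * d * d = 1 → d = 1
  /-- an outer involution `e` -/
  out : ∀ e : G, e * z = z * e → e * e = 1 → ¬ Fr.KR K R e →
    ∃ k ∈ K, k * e * k⁻¹ * e ≠ 1 ∧ k * e * k⁻¹ * e ∈ OO (Ce e ⊓ K)

namespace TwoFacts

variable {G : Type u} [Group G] {z : G} {K R : Subgroup G} {C : Set G}

/-- an involution of `K R` lies in `K` -/
theorem mem_K (F : Fr z K R) (T : TwoFacts z K R C) {w : G} (hw : Fr.KR K R w) (h2 : w * w = 1) : w ∈ K := by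
  obtain ⟨k, hk, r, hr, rfl⟩ := hw
  have h1 : k * k * (r * r) = 1 := by
    rw [← h2]
    calc k * k * (r * r) = k * (k * r) * r := by group
      _ = k * (r * k) * r := by rw [F.comm r hr k hk]
      _ = _ := by group
  have h3 : r * r = (k * k)⁻¹ := (mul_eq_one_iff_inv_eq.mp h1).symm
  rcases T.cen (r * r) (by rw [h3]; exact inv_mem (mul_mem hk hk)) (mul_mem hr hr) with h4 | h4
  · rcases F.inv r hr h4 with rfl | rfl
    · rwa [mul_one]
    · exact mul_mem hk F.zK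
  · exfalso
    apply T.sqz k hk
    rw [h4] at h1
    calc k * k = k * k * z * z⁻¹ := by group
      _ = z⁻¹ := by rw [h1, one_mul]
      _ = z := inv_eq_of_mul_eq_one_left F.zz

theorem conj_sq (F : Fr z K R) (a : G) : a * z * a⁻¹ * (a * z * a⁻¹) = 1 := by
  calc a * z * a⁻¹ * (a * z * a⁻¹) = a * (z * z) * a⁻¹ := by group
    _ = 1 := by rw [F.zz]; group

theorem conj_ne (F : Fr z K R) (a : G) : a * z * a⁻¹ ≠ 1 := by
  intro h
  apply F.z1
  calc z = a⁻¹ * (a * z * a⁻¹) * a := by group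
    _ = 1 := by rw [h]; group

/-- (A) -/
theorem mem_C (F : Fr z K R) (T : TwoFacts z K R C) {f a : G} (hf : f = a * z * a⁻¹) (hfK : f ∈ K)
    (hfz : f ≠ z) : f ∈ C := by
  by_contra hC
  obtain ⟨y, hy, hyy⟩ := T.four f hfK (by rw [hf]; exact conj_sq F a) (by rw [hf]; exact conj_ne F a) hfz hC
  apply T.sqz _ (F.swap_OO hf hy)
  calc a⁻¹ * y * a * (a⁻¹ * y * a) = a⁻¹ * (y * y) * a := by group
    _ = a⁻¹ * (a * z * a⁻¹) * a := by rw [hyy, hf]
    _ = z := by group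

/-- (B) -/
theorem notMem_C (F : Fr z K R) (T : TwoFacts z K R C) {f a : G} (hf : f = a * z * a⁻¹) (hC : f ∈ C) :
    False := by
  have hfK := T.CK f hC
  have hfz := T.Cne f hC
  obtain ⟨y, hyK, hyf, hyy, hy1, hyf', ⟨k0, hk0, hyk⟩, ⟨n, hnK, hnf, hny⟩,
    d, hdK, hdf, hdy, hd3, hd1, hdder⟩ := T.triple f hC
  set w := a⁻¹ * y * a with hwd
  have hcj : ∀ x : G, x * f = f * x → a⁻¹ * x * a * z = z * (a⁻¹ * x * a) := by
    intro x hx
    calc a⁻¹ * x * a * z = a⁻¹ * (x * (a * z * a⁻¹)) * a := by group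
      _ = a⁻¹ * (a * z * a⁻¹ * x) * a := by rw [← hf, hx]
      _ = _ := by group
  have hwz : w * z = z * w := hcj y hyf
  have hww : w * w = 1 := by
    calc w * w = a⁻¹ * (y * y) * a := by rw [hwd]; group
      _ = 1 := by rw [hyy]; group
  have hw1 : w ≠ 1 := by
    intro h
    apply hy1
    calc y = a * w * a⁻¹ := by rw [hwd]; group
      _ = 1 := by rw [h]; group
  have hwz' : w ≠ z := by
    intro h
    apply hyf'
    calc y = a * w * a⁻¹ := by rw [hwd]; group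
      _ = f := by rw [h, hf]
  have hwc : w = a⁻¹ * k0 * a * z * (a⁻¹ * k0 * a)⁻¹ := by
    rw [hwd, hyk, hf]; group
  have hwzc : w * z = (a⁻¹ * n * k0 * a) * z * (a⁻¹ * n * k0 * a)⁻¹ := by
    calc w * z = a⁻¹ * (y * (a * z * a⁻¹)) * a := by rw [hwd]; group
      _ = a⁻¹ * (n * y * n⁻¹) * a := by rw [← hf, hyf, hny]
      _ = _ := by rw [hyk, hf]; group
  -- `w` is outer
  have hout : ¬ Fr.KR K R w := by
    intro h
    have hwK := mem_K F T h hww
    have h1 := mem_C F T hwc hwK hwz'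
    have h2 := mem_C F T hwzc (mul_mem hwK F.zK) (fun h => hw1 (mul_eq_right.mp h))
    exact T.dis _ h1 h2
  -- `R` is central in `C(z)`
  have hcen : ∀ h : G, h * z = z * h → ∀ r ∈ R, h * r = r * h := by
    by_cases hR : ∀ r ∈ R, r = 1 ∨ r = z
    · intro h hh r hr
      rcases hR r hr with rfl | rfl
      · simp
      · exact hh
    · push Not at hR
      obtain ⟨r0, hr0, hr01, hr0z⟩ := hR
      -- an element of `R` of order 4
      have h4 : ∃ ρ ∈ R, ρ * ρ = z := by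
        obtain ⟨m, hm⟩ := F.two r0 hr0
        induction m with
        | zero =>
          rw [pow_zero, pow_one] at hm
          exact absurd hm hr01
        | succ m ih =>
          by_cases h5 : r0 ^ 2 ^ m = 1
          · exact ih h5
          · have h6 : r0 ^ 2 ^ m * r0 ^ 2 ^ m = 1 := by
              rw [← pow_add, ← two_mul, ← pow_succ', hm]
            have h7 := (F.inv _ (pow_mem hr0 _) h6).resolve_left h5
            cases m with
            | zero =>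
              rw [pow_zero, pow_one] at h7
              exact absurd h7 hr0z
            | succ m =>
              refine ⟨r0 ^ 2 ^ m, pow_mem hr0 _, ?_⟩
              rw [← pow_add, ← two_mul, ← pow_succ', h7]
      obtain ⟨ρ, hρ, hρ2⟩ := h4
      set s := a * ρ * a⁻¹ with hsd
      have hss : s * s = f := by
        calc s * s = a * (ρ * ρ) * a⁻¹ := by rw [hsd]; group
          _ = f := by rw [hρ2, hf]
      have hmono : ⁅Ce f ⊓ K, Ce f ⊓ K⁆ ≤ ⁅Ce f, Ce f⁆ := commutator_mono inf_le_left inf_le_left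
      have hsz : s * z = z * s := (F.comm_conj hf hρ (hmono (T.zder f hC))).symm
      have hsd' : d * s = s * d := F.comm_conj hf hρ (hmono hdder)
      have hsR := fun r hr => F.comm_R hf hfz hfK hρ hsz (r := r) hr
      have hsout : ¬ Fr.KR K R s := by
        rintro ⟨k, hk, r, hr, hkr⟩
        have h5 : d * k = k * d := by
          have h6 : d * k * r = k * d * r := by
            calc d * k * r = d * s := by rw [hkr, mul_assoc]
              _ = s * d := hsd'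
              _ = k * (r * d) := by rw [hkr, mul_assoc]
              _ = k * (d * r) := by rw [F.comm r hr d hdK]
              _ = _ := by rw [mul_assoc]
          exact mul_right_cancel h6
        have h6 : k * k * (r * r) = f := by
          rw [← hss, hkr]
          calc k * k * (r * r) = k * (k * r) * r := by group
            _ = k * (r * k) * r := by rw [F.comm r hr k hk]
            _ = _ := by group
        have h7 : r * r = (k * k)⁻¹ * f := by rw [← h6]; group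
        rcases T.cen (r * r) (by rw [h7]; exact mul_mem (inv_mem (mul_mem hk hk)) hfK) (mul_mem hr hr)
          with h8 | h8
        · rw [h8, mul_one] at h6
          exact hd1 (T.no12 f hC k hk (Or.inl h6) d hdK h5 hd3)
        · rw [h8] at h6
          have h9 : k * k = f * z := by
            rw [← h6]
            calc k * k = k * k * (z * z) := by rw [F.zz, mul_one]
              _ = _ := by group
          exact hd1 (T.no12 f hC k hk (Or.inr h9) d hdK h5 hd3)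
      intro h hh r hr
      by_cases h5 : Fr.KR K R h
      · obtain ⟨k, hk, r', hr', rfl⟩ := h5
        rw [mul_assoc, F.Rcomm hr' hr, ← mul_assoc, ← F.comm r hr k hk, mul_assoc]
      · obtain ⟨k, hk, r', hr', h6⟩ := F.idx h s hh hsz h5 hsout
        have h7 : h * s * r = r * (h * s) := by
          rw [h6, mul_assoc, F.Rcomm hr' hr, ← mul_assoc, ← F.comm r hr k hk, mul_assoc]
        have h8 : h * r * s = r * h * s := by
          calc h * r * s = h * (r * s) := by group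
            _ = h * (s * r) := by rw [hsR r hr]
            _ = h * s * r := by group
            _ = r * h * s := by rw [h7]; group
        exact mul_right_cancel h8
  -- an element of `K` mapping `w` to `w z`
  have hK : ∃ k ∈ K, k * w * k⁻¹ = w * z := by
    have hh0 := hcj n hnf
    have h1 : a⁻¹ * n * a * w * (a⁻¹ * n * a)⁻¹ = w * z := by
      calc a⁻¹ * n * a * w * (a⁻¹ * n * a)⁻¹ = a⁻¹ * (n * y * n⁻¹) * a := by rw [hwd]; group
        _ = a⁻¹ * (a * z * a⁻¹ * y) * a := by rw [hny, ← hf]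
        _ = z * w := by rw [hwd]; group
        _ = w * z := hwz.symm
    have key : ∀ h : G, h * w * h⁻¹ = w * z → Fr.KR K R h → ∃ k ∈ K, k * w * k⁻¹ = w * z := by
      rintro h hh ⟨k, hk, r, hr, rfl⟩
      refine ⟨k, hk, ?_⟩
      rw [← hh]
      have h2 := hcen w hwz r hr
      calc k * w * k⁻¹ = k * (w * r) * r⁻¹ * k⁻¹ := by group
        _ = k * (r * w) * r⁻¹ * k⁻¹ := by rw [h2]
        _ = _ := by group
    by_cases h2 : Fr.KR K R (a⁻¹ * n * a)
    · exact key _ h1 h2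
    · refine key (a⁻¹ * n * a * w) ?_ (F.idx _ _ hh0 hwz h2 hout)
      rw [← h1]
      group
  obtain ⟨k, hk, hkw⟩ := hK
  -- `a⁻¹ d a`
  have hd' : a⁻¹ * d * a ∈ K := F.swap_OO hf (mem_OO (n := 3) hdf (by decide) (by
    rw [pow_succ, pow_two]; exact hd3))
  have h1 := T.outer w hwz hww hout k hk hkw _ hd' (by
    calc a⁻¹ * d * a * w = a⁻¹ * (d * y) * a := by rw [hwd]; group
      _ = a⁻¹ * (y * d) * a := by rw [hdy]
      _ = _ := by rw [hwd]; group) (by
    calc a⁻¹ * d * a * (a⁻¹ * d * a) * (a⁻¹ * d * a) = a⁻¹ * (d * d * d) * a := by group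
      _ = 1 := by rw [hd3]; group)
  apply hd1
  calc d = a * (a⁻¹ * d * a) * a⁻¹ := by group
    _ = 1 := by rw [h1]; group

/-- **`2.M22`, group level**: `z^G ∩ C(z) = {z}`. -/
theorem isolated (F : Fr z K R) (T : TwoFacts z K R C) (g : G) (hg : g * z * g⁻¹ * z = z * (g * z * g⁻¹)) :
    g * z * g⁻¹ = z := by
  have hK : ∀ a : G, a * z * a⁻¹ ∈ K → a * z * a⁻¹ = z := by
    intro a ha
    by_contra hne
    exact notMem_C F T rfl (mem_C F T rfl ha hne)
  by_cases hout : Fr.KR K R (g * z * g⁻¹)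
  · exact hK g (mem_K F T hout (conj_sq F g))
  · exfalso
    set e := g * z * g⁻¹ with he
    have hee : e * e = 1 := conj_sq F g
    obtain ⟨k, hk, hc1, hc⟩ := T.out e hg hee hout
    have h1 := F.swap_OO he (OO_mono inf_le_left hc)
    have h2 : k * g * z * (k * g)⁻¹ = k * e * k⁻¹ * e * e := by
      calc k * g * z * (k * g)⁻¹ = k * e * k⁻¹ := by rw [he]; group
        _ = k * e * k⁻¹ * (e * e) := by rw [hee, mul_one]
        _ = _ := by group
    have h3 : (g⁻¹ * (k * g)) * z * (g⁻¹ * (k * g))⁻¹ = g⁻¹ * (k * e * k⁻¹ * e) * g * z := by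
      calc (g⁻¹ * (k * g)) * z * (g⁻¹ * (k * g))⁻¹ = g⁻¹ * (k * g * z * (k * g)⁻¹) * g := by group
        _ = g⁻¹ * (k * e * k⁻¹ * e * e) * g := by rw [h2]
        _ = g⁻¹ * (k * e * k⁻¹ * e * (g * z * g⁻¹)) * g := by rw [← he]
        _ = _ := by group
    have h4 := hK (g⁻¹ * (k * g)) (by rw [h3]; exact mul_mem h1 F.zK)
    rw [h3, mul_eq_right] at h4
    apply hc1
    calc k * e * k⁻¹ * e = g * (g⁻¹ * (k * e * k⁻¹ * e) * g) * g⁻¹ := by group
      _ = 1 := by rw [h4]; group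

end TwoFacts

end Cfsg.Agent.OddHalf.D9.M22.GLevel
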