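import Cfsg.Agent.OddHalf.D9.CovTwo

/-!
# D9: perfect central extensions `π : K → X` with kernel `Z(K)`, a 2-group (helper322)

Facts on `X` and `MulAut X` carried to `K` and `MulAut K`: `outTwo`, `ordThree`.
-/

set_option autoImplicit false

namespace Cfsg.Agent.OddHalf.D9.M22.Lift

open Subgroup
open Cfsg.Agent.OddHalf.D9.CovTwo

universe u v

/-- `π : K → X` onto with kernel `Z(K)`, a 2-group, `K` perfect -/
structure Cov {K : Type u} {X : Type v} [Group K] [Group X] (π : K →* X) : Prop where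
  surj : Function.Surjective π
  ker : ∀ k, π k = 1 ↔ k ∈ center K
  perf : commutator K = ⊤
  two : ∀ c ∈ center K, ∃ n : ℕ, c ^ 2 ^ n = 1

/-- `OrdThree` for the quotient -/
def OrdThreeX (X : Type v) [Group X] : Prop := ∀ t : X, t * t = 1 → t ≠ 1 → ∀ β : MulAut X,
  (∀ y : X, y ^ 3 = 1 → y * t = t * y → β y = y) → (∀ x, β (β x) = t * x * t⁻¹) → False

namespace Cov

variable {K : Type u} {X : Type v} [Group K] [Group X] {π : K →* X}

theorem cen {c : K} (hc : c ∈ center K) (k : K) : c * k = k * c := (mem_center_iff.1 hc k).symm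

theorem eq_mul (C : Cov π) {k l : K} (h : π k = π l) : ∃ c ∈ center K, k = l * c := by
  refine ⟨l⁻¹ * k, (C.ker _).1 ?_, by group⟩
  rw [map_mul, map_inv, h, inv_mul_cancel]

theorem map_center {c : K} (hc : c ∈ center K) (α : MulAut K) : α c ∈ center K := by
  rw [mem_center_iff]
  intro y
  obtain ⟨x, rfl⟩ := α.surjective y
  rw [← map_mul, ← map_mul, ← cen hc]

theorem pi_congr (C : Cov π) (α : MulAut K) {k l : K} (h : π k = π l) : π (α k) = π (α l) := by
  obtain ⟨c, hc, rfl⟩ := C.eq_mul h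
  rw [map_mul, map_mul, (C.ker _).2 (map_center hc α), mul_one]

/-- a perfect group has no nontrivial homomorphism into its centre -/
theorem hom_eq_one (C : Cov π) (f : K → K) (hc : ∀ k, f k ∈ center K) (hf : ∀ k l, f (k * l) = f k * f l)
    (k : K) : f k = 1 := by
  obtain ⟨φ, hφ⟩ : ∃ φ : K →* ↥(center K), ∀ k, (φ k : K) = f k :=
    ⟨MonoidHom.mk' (fun k => ⟨f k, hc k⟩) (fun k l => Subtype.ext (hf k l)), fun _ => rfl⟩
  have h0 : commutator K ≤ φ.ker := by
    rw [commutator_def, commutator_le]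
    intro a _ b _
    rw [MonoidHom.mem_ker, map_commutatorElement, commutatorElement_eq_one_iff_mul_comm]
    apply Subtype.ext
    exact cen (φ a).2 _
  rw [C.perf] at h0
  rw [← hφ, MonoidHom.mem_ker.1 (h0 (mem_top k))]
  rfl

/-- an automorphism trivial on `K/Z(K)` is trivial -/
theorem aut_eq_one (C : Cov π) {α : MulAut K} (h : ∀ k, π (α k) = π k) : α = 1 := by
  have hc : ∀ k, k⁻¹ * α k ∈ center K := fun k => (C.ker _).1 (by
    rw [map_mul, map_inv, h, inv_mul_cancel])
  have h1 := C.hom_eq_one (fun k => k⁻¹ * α k) hc (by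
    intro k l
    rw [map_mul]
    calc (k * l)⁻¹ * (α k * α l) = l⁻¹ * (k⁻¹ * α k * α l) := by group
      _ = l⁻¹ * (α l * (k⁻¹ * α k)) := by rw [cen (hc k)]
      _ = l⁻¹ * α l * (k⁻¹ * α k) := by group
      _ = k⁻¹ * α k * (l⁻¹ * α l) := by rw [cen (hc k)])
  ext k
  have h3 := h1 k
  rw [inv_mul_eq_one] at h3
  exact h3.symm

/-- the induced automorphism of `X` -/
theorem exists_ind (C : Cov π) (α : MulAut K) : ∃ β : MulAut X, ∀ k, π (α k) = β (π k) := by
  let s := Function.surjInv C.surj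
  have hs : ∀ x, π (s x) = x := Function.surjInv_eq C.surj
  refine ⟨{ toFun := fun x => π (α (s x)), invFun := fun x => π (α.symm (s x)),
            left_inv := ?_, right_inv := ?_, map_mul' := ?_ }, ?_⟩
  · intro x
    change π (α.symm (s (π (α (s x))))) = x
    have h := C.pi_congr α.symm (hs (π (α (s x))))
    rw [h, MulEquiv.symm_apply_apply, hs]
  · intro x
    change π (α (s (π (α.symm (s x))))) = x
    have h := C.pi_congr α (hs (π (α.symm (s x))))
    rw [h, MulEquiv.apply_symm_apply, hs]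
  · intro x y
    rw [← map_mul, ← map_mul]
    apply C.pi_congr α
    rw [map_mul, hs, hs, hs]
  · intro k
    change π (α k) = π (α (s (π k)))
    exact C.pi_congr α (hs _).symm

/-- `α` is inner if it is inner on `X` -/
theorem inner_of (C : Cov π) {α : MulAut K} {x : X} (h : ∀ k, π (α k) = x * π k * x⁻¹) :
    ∃ k, α = MulAut.conj k := by
  obtain ⟨k, rfl⟩ := C.surj x
  refine ⟨k, ?_⟩
  have h1 : (MulAut.conj k)⁻¹ * α = 1 := by
    apply C.aut_eq_one
    intro l
    have h2 : ((MulAut.conj k)⁻¹ * α) l = k⁻¹ * α l * k := by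
      rw [← map_inv, MulAut.mul_apply, MulAut.conj_apply, inv_inv]
    rw [h2, map_mul, map_mul, h, map_inv]
    group
  rw [inv_mul_eq_one] at h1
  exact h1.symm

/-- an inner automorphism is inner on `X` -/
theorem ind_conj {α : MulAut K} {β : MulAut X} (C : Cov π) (hβ : ∀ k, π (α k) = β (π k)) {k : K}
    (h : α = MulAut.conj k) : β = MulAut.conj (π k) := by
  ext x
  obtain ⟨l, rfl⟩ := C.surj x
  rw [← hβ, h, MulAut.conj_apply, MulAut.conj_apply, map_mul, map_mul, map_inv]

theorem outer_ind (C : Cov π) {α : MulAut K} {β : MulAut X} (hβ : ∀ k, π (α k) = β (π k))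
    (ho : ∀ k, α ≠ MulAut.conj k) (x : X) : β ≠ MulAut.conj x := by
  rintro rfl
  obtain ⟨k, hk⟩ := C.inner_of (x := x) (fun k => by rw [hβ, MulAut.conj_apply])
  exact ho k hk

theorem outTwo (C : Cov π) (h : OutTwo X) : OutTwo K := by
  intro α β hα hβ
  obtain ⟨α', hα'⟩ := C.exists_ind α
  obtain ⟨β', hβ'⟩ := C.exists_ind β
  obtain ⟨x, hx⟩ := h α' β' (C.outer_ind hα' hα) (C.outer_ind hβ' hβ)
  apply C.inner_of (x := x)
  intro k
  rw [MulAut.mul_apply, hα', hβ', ← MulAut.mul_apply, hx, MulAut.conj_apply]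

/-- lifts of elements of order 3 -/
theorem lift3 (C : Cov π) {x : X} (hx : x ^ 3 = 1) : ∃ y, π y = x ∧ y ^ 3 = 1 := by
  obtain ⟨y, rfl⟩ := C.surj x
  have h1 : y ^ 3 ∈ center K := (C.ker _).1 (by rw [map_pow, hx])
  obtain ⟨n, hn⟩ := C.two _ h1
  refine ⟨y ^ (4 ^ n), ?_, ?_⟩
  · rw [map_pow]
    have h2 : 4 ^ n % 3 = 1 := by
      rw [Nat.pow_mod]
      norm_num
    conv_lhs => rw [← Nat.div_add_mod (4 ^ n) 3, h2, pow_add, pow_mul, hx, one_pow, one_mul, pow_one]
  · rw [← pow_mul, mul_comm, pow_mul, show (4 : ℕ) ^ n = 2 ^ n * 2 ^ n by rw [← mul_pow]; norm_num, pow_mul,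
      hn, one_pow]

theorem comm3 (C : Cov π) {y k : K} (hy : y ^ 3 = 1) (h : π y * π k = π k * π y) : y * k = k * y := by
  have h0 : π (y * k) = π (k * y) := by rw [map_mul, map_mul, h]
  obtain ⟨c, hc, hcy⟩ := C.eq_mul h0
  -- `y k = k y c`
  have h1 : ∀ n : ℕ, y ^ n * k = k * y ^ n * c ^ n := by
    intro n
    induction n with
    | zero => group
    | succ n ih =>
      have h2 : c ^ n * y = y * c ^ n := cen (pow_mem hc n) y
      calc y ^ (n + 1) * k = y * (y ^ n * k) := by rw [pow_succ']; group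
        _ = (y * k) * y ^ n * c ^ n := by rw [ih]; group
        _ = k * y * (c * y ^ n) * c ^ n := by rw [hcy]; group
        _ = k * y * (y ^ n * c) * c ^ n := by rw [cen hc]
        _ = k * y ^ (n + 1) * c ^ (n + 1) := by rw [pow_succ', pow_succ']; group
  have h3 := h1 3
  rw [hy, one_mul, mul_one] at h3
  have h4 : c ^ 3 = 1 := (mul_eq_left.1 h3.symm)
  obtain ⟨n, hn⟩ := C.two c hc
  have h5 : c = 1 := by
    have h6 : orderOf c ∣ 3 := orderOf_dvd_of_pow_eq_one h4
    have h7 : orderOf c ∣ 2 ^ n := orderOf_dvd_of_pow_eq_one hn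
    have h8 : Nat.Coprime 3 (2 ^ n) := Nat.Coprime.pow_right _ (by norm_num)
    exact orderOf_eq_one_iff.1 (Nat.eq_one_of_dvd_coprimes h8 h6 h7)
  rw [hcy, h5, mul_one]

theorem ordThree (C : Cov π) (h : OrdThreeX X) : OrdThree K := by
  intro k hkk hk α hα hα2
  obtain ⟨β, hβ⟩ := C.exists_ind α
  apply h (π k) (by rw [← map_mul]; exact (C.ker _).2 hkk) (fun h1 => hk ((C.ker _).1 h1)) β
  · intro y hy hyk
    obtain ⟨y', rfl, hy'⟩ := C.lift3 hy
    rw [← hβ, hα y' hy' (C.comm3 hy' hyk)]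
  · intro x
    obtain ⟨l, rfl⟩ := C.surj x
    rw [← hβ, ← hβ, hα2, map_mul, map_mul, map_inv]

end Cov

end Cfsg.Agent.OddHalf.D9.M22.Lift
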