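import Cfsg.Agent.OddHalf.D9.M22.UFact
import Cfsg.Agent.OddHalf.D9.M22.ConfM22

/-!
# The facts `CovPair.PData` for `M22` (helper278)

`pdata : PData Spor.M22 E22 a22 b22`.
-/

set_option autoImplicit false
set_option Elab.async false

namespace Cfsg.Agent.OddHalf.D9.M22.PDataM22

open Cfsg Cfsg.Agent.SporadicA.GolayBase Cfsg.Agent.SporadicA.GolayPerm
open Cfsg.Agent.SporadicStructure.M24El Cfsg.Agent.KFacts.MM
open Cfsg.Agent.KFacts.MM.El (pm pr ev val weq okl pts)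
open Cfsg.Agent.KFacts.MM.Data (WL zP kW)
open Cfsg.Agent.OddHalf.D9.M22.DataU (nL)
open Cfsg.Agent.KFacts.MM.InvM22 (isPerm_of_ok)
open Cfsg.Agent.OddHalf.D9.M22 Cfsg.Agent.OddHalf.D9.M22.EDataM22 Cfsg.Agent.OddHalf.D9.M22.UFact
open Cfsg.Agent.OddHalf.D9.M22.CovPair (Nm PData)

theorem nm_of_Nrm {g : Equiv.Perm GolayPt} (h : Nrm g) : Nm E22 (⟨g, h.1⟩ : Spor.M22) :=
  ⟨fun _ hw => h.2 _ hw, fun _ hw => h.inv_mem hw⟩

theorem Nm.mul {X : Type*} [Group X] {E : Subgroup X} {m n : X} (hm : Nm E m) (hn : Nm E n) : Nm E (m * n) := by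
  refine ⟨fun w hw => ?_, fun w hw => ?_⟩
  · have h := hm.1 _ (hn.1 w hw)
    have e : m * (n * w * n⁻¹) * m⁻¹ = m * n * w * (m * n)⁻¹ := by group
    rwa [e] at h
  · have h := hn.2 _ (hm.2 w hw)
    have e : n⁻¹ * (m⁻¹ * w * m) * n = (m * n)⁻¹ * w * (m * n) := by group
    rwa [e] at h

theorem Nm.inv {X : Type*} [Group X] {E : Subgroup X} {m : X} (hm : Nm E m) : Nm E m⁻¹ := by
  refine ⟨fun w hw => ?_, fun w hw => ?_⟩
  · rw [inv_inv]; exact hm.2 w hw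
  · rw [inv_inv]; exact hm.1 w hw

theorem cent (x : Spor.M22) (h : ∀ y ∈ E22, x * y = y * x) : x ∈ E22 := by
  rw [mem_E22]
  apply mem_E_of_comm x.2
  intro w hw
  exact congrArg Subtype.val (h ⟨w, E_le hw⟩ hw)

/-- `z` as an element of `M22` -/
noncomputable def z22 : Spor.M22 := ⟨pm zP, E_le zP_mem⟩

theorem tran_z (x : Spor.M22) (hx : x ∈ E22) (hx1 : x ≠ 1) : ∃ n : Spor.M22, Nm E22 n ∧ n * z22 * n⁻¹ = x := by
  obtain ⟨n, hn, h⟩ := exists_conj_z (mem_E22.1 hx) (fun h => hx1 (Subtype.ext h))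
  exact ⟨⟨n, hn.1⟩, nm_of_Nrm hn, Subtype.ext h⟩

theorem tran (x : Spor.M22) (hx : x ∈ E22) (y : Spor.M22) (hy : y ∈ E22) (hx1 : x ≠ 1) (hy1 : y ≠ 1) :
    ∃ n : Spor.M22, Nm E22 n ∧ n * x * n⁻¹ = y := by
  obtain ⟨m, hm, h1⟩ := tran_z x hx hx1
  obtain ⟨n, hn, h2⟩ := tran_z y hy hy1
  refine ⟨n * m⁻¹, Nm.mul hn (Nm.inv hm), ?_⟩
  rw [← h1, ← h2]
  group

/-! ### The packed elements of `E` -/

theorem coe_ne {P Q : ℕ} (hP : P ∈ WL) (hQ : Q ∈ WL) (h : weq [P] [Q] = false) : pm P ≠ pm Q := by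
  have h1 := El.pr_ne (okl_one (perm_of_WL hP)) (okl_one (perm_of_WL hQ)) h
  rwa [El.pr_one, El.pr_one] at h1

def p1 : ℕ := 961365507626256404119956257276790816
def p2 : ℕ := 972512676110088067912772961567868960
def p3 : ℕ := 960831283963798152912375878980765728

theorem m1 : p1 ∈ WL := by decide +kernel
theorem m2 : p2 ∈ WL := by decide +kernel
theorem m3 : p3 ∈ WL := by decide +kernel
theorem m0 : idP ∈ WL := by decide +kernel

theorem eight : ∃ x ∈ E22, ∃ y ∈ E22, ∃ w ∈ E22, x ≠ 1 ∧ y ≠ 1 ∧ w ≠ 1 ∧ x ≠ y ∧ x ≠ w ∧ y ≠ w ∧ w ≠ x * y := by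
  have one : ∀ {P : ℕ}, P ∈ WL → weq [P] [idP] = false → pm P ≠ 1 := fun hP h => by
    rw [← pm_idP]; exact coe_ne hP m0 h
  refine ⟨⟨pm p1, E_le (pm_mem_E m1)⟩, pm_mem_E m1, ⟨pm p2, E_le (pm_mem_E m2)⟩, pm_mem_E m2,
    ⟨pm p3, E_le (pm_mem_E m3)⟩, pm_mem_E m3, ?_, ?_, ?_, ?_, ?_, ?_, ?_⟩
  · exact fun h => one m1 (by decide +kernel) (congrArg Subtype.val h)
  · exact fun h => one m2 (by decide +kernel) (congrArg Subtype.val h)
  · exact fun h => one m3 (by decide +kernel) (congrArg Subtype.val h)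
  · exact fun h => coe_ne m1 m2 (by decide +kernel) (congrArg Subtype.val h)
  · exact fun h => coe_ne m1 m3 (by decide +kernel) (congrArg Subtype.val h)
  · exact fun h => coe_ne m2 m3 (by decide +kernel) (congrArg Subtype.val h)
  · intro h
    have h1 : pr [p3] = pr [p1, p2] := by
      rw [El.pr_one, El.pr_cons, El.pr_one]
      exact congrArg Subtype.val h
    exact El.pr_ne (okl_one (perm_of_WL m3)) (okl_two (perm_of_WL m1) (perm_of_WL m2)) (by decide +kernel) h1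

/-! ### The lines -/

theorem nL_nrm : (nL.all fun n => nrm n && weq [n, n] []) = true := by decide +kernel

theorem lines : (WL.all fun P => Nat.beq P idP || WL.all fun Q => Nat.beq Q idP || Nat.beq P Q ||
    nL.any fun n => weq [n, P] [Q, n] || weq [n, P] [P, Q, n] || weq [n, Q] [P, Q, n]) = true := by
  decide +kernel

theorem line (x : Spor.M22) (hx : x ∈ E22) (y : Spor.M22) (hy : y ∈ E22) (hx1 : x ≠ 1) (hy1 : y ≠ 1)
    (hxy : x ≠ y) : ∃ n : Spor.M22, n * n = 1 ∧ Nm E22 n ∧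
      (n * x * n⁻¹ = y ∨ n * x * n⁻¹ = x * y ∨ n * y * n⁻¹ = x * y) := by
  obtain ⟨P, hP, hPx⟩ := mem_E.1 (mem_E22.1 hx)
  obtain ⟨Q, hQ, hQy⟩ := mem_E.1 (mem_E22.1 hy)
  have h1 := List.all_eq_true.1 lines P hP
  rw [Bool.or_eq_true] at h1
  rcases h1 with h1 | h1
  · exfalso
    apply hx1
    apply Subtype.ext
    rw [← hPx, Nat.eq_of_beq_eq_true h1, pm_idP]
    rfl
  have h2 := List.all_eq_true.1 h1 Q hQ
  rw [Bool.or_eq_true, Bool.or_eq_true] at h2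
  rcases h2 with (h2 | h2) | h2
  · exfalso
    apply hy1
    apply Subtype.ext
    rw [← hQy, Nat.eq_of_beq_eq_true h2, pm_idP]
    rfl
  · exfalso
    apply hxy
    apply Subtype.ext
    rw [← hPx, ← hQy, Nat.eq_of_beq_eq_true h2]
  obtain ⟨n, hn, h3⟩ := List.any_eq_true.1 h2
  have h4 := List.all_eq_true.1 nL_nrm n hn
  rw [Bool.and_eq_true] at h4
  have hN := nrm_pm h4.1
  have hp : isPerm n = true := isPerm_of_ok (ok_of_ok22 (ok22_of_nrm h4.1))
  have iP := perm_of_WL hP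
  have iQ := perm_of_WL hQ
  refine ⟨⟨pm n, hN.1⟩, Subtype.ext (eq_nil hp hp h4.2), nm_of_Nrm hN, ?_⟩
  rw [Bool.or_eq_true, Bool.or_eq_true] at h3
  rcases h3 with (h3 | h3) | h3
  · left
    apply Subtype.ext
    change pm n * (x : Equiv.Perm GolayPt) * (pm n)⁻¹ = y
    rw [← hPx, ← hQy, eq_two hp iP iQ hp h3, mul_inv_cancel_right]
  · right; left
    apply Subtype.ext
    change pm n * (x : Equiv.Perm GolayPt) * (pm n)⁻¹ = x * y
    have h5 := El.pr_of_weq (okl_two hp iP) (okl_three iP iQ hp) h3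
    rw [El.pr_cons, El.pr_one, El.pr_cons, El.pr_cons, El.pr_one, ← mul_assoc] at h5
    rw [← hPx, ← hQy, h5, mul_inv_cancel_right]
  · right; right
    apply Subtype.ext
    change pm n * (y : Equiv.Perm GolayPt) * (pm n)⁻¹ = x * y
    have h5 := El.pr_of_weq (okl_two hp iQ) (okl_three iP iQ hp) h3
    rw [El.pr_cons, El.pr_one, El.pr_cons, El.pr_cons, El.pr_one, ← mul_assoc] at h5
    rw [← hPx, ← hQy, h5, mul_inv_cancel_right]

/-- **`M22` satisfies `PData`.** -/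
theorem pdata : PData Spor.M22 E22 a22 b22 :=
  { edata with
    cent := cent
    tran := fun x hx y hy hx1 hy1 => tran x hx y hy hx1 hy1
    eight := eight
    line := fun x hx y hy hx1 hy1 hxy => line x hx y hy hx1 hy1 hxy
    fixv := fixv
    fix2 := fix2
    conf := ConfM22.conf }

theorem exists_pdata : ∃ (E : Subgroup Spor.M22) (a b : Spor.M22), PData Spor.M22 E a b := ⟨_, _, _, pdata⟩

end Cfsg.Agent.OddHalf.D9.M22.PDataM22
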