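import Cfsg.Agent.KFacts.MM.InvM22
import Cfsg.Agent.J4Type.Aut22
import Cfsg.Agent.OddHalf.D9.M22.Data

/-!
# Facts about `M22` and `M22.2 = D22` used for the covers of `M22`

`E`: the subgroup `WL` of order 16, with normaliser `2⁴:S₅`.

* `exists_conj_z` : the normaliser of `E` in `M22` is transitive on the involutions of `E`;
* `mem_E_of_comm` : `C(E) = E` in `M22`;
* `aP_*` : the involution `aP` of `D22 - M22` commutes with `E`, and no element of `aP E` commutes with `N(E)`;
* `exists_outer` : every involution of `D22 - M22` is conjugate in `M22` to an involution commuting with `E`;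
* `sq_of_comm` : if `g ∈ D22` commutes with all elements of order three of `M22` commuting with `zP`, `g² = 1`;
* `syl_card` : `⟨E, uP, vP⟩` has at least 128 elements.
-/

set_option autoImplicit false
set_option Elab.async false

namespace Cfsg.Agent.OddHalf.D9.M22

open Cfsg Cfsg.Agent.SporadicA.GolayBase Cfsg.Agent.SporadicA.GolayPerm
open Cfsg.Agent.SporadicStructure.M24El Cfsg.Agent.KFacts.MM
open Cfsg.Agent.KFacts.MM.El (pm pr ev val weq okl pts)
open Cfsg.Agent.KFacts.MM.Data (WL kW zP)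
open Cfsg.Agent.J4Type.Aut22 (D22)
open Cfsg.Agent.KFacts.MM.InvM22 (isPerm_of_ok)

abbrev Pm := Equiv.Perm GolayPt

/-! ### Packed elements -/

theorem pt_23 : pt 23 = (none : GolayPt) := rfl

theorem pt_0 : pt 0 = (some 0 : GolayPt) := by
  unfold pt
  simp

/-- the packed permutation is in `M22` -/
def ok22 (P : ℕ) : Bool := ok P && Nat.beq (papp P 23) 23 && Nat.beq (papp P 0) 0

theorem ok22_iff {P : ℕ} : ok22 P = true ↔ ok P = true ∧ papp P 23 = 23 ∧ papp P 0 = 0 := by
  unfold ok22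
  rw [Bool.and_eq_true, Bool.and_eq_true, Nat.beq_eq, Nat.beq_eq, and_assoc]

theorem pm_pt {P : ℕ} (h : ok P = true) {i : ℕ} (hi : i < 24) : pm P (pt i) = pt (papp P i) := by
  rw [← El.pt_val, El.val_pm (isPerm_of_ok h) hi]

theorem pm_M24 {P : ℕ} (h : ok P = true) : pm P ∈ M24 := InvM22.pm_mem h

theorem pm_M22 {P : ℕ} (h : ok22 P = true) : pm P ∈ Spor.M22 := by
  obtain ⟨h1, h2, h3⟩ := ok22_iff.1 h
  rw [Cfsg.Agent.SporadicA.MathieuRecog.mem_M22_iff]
  refine ⟨pm_M24 h1, ?_, ?_⟩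
  · rw [← pt_23, pm_pt h1 (by norm_num), h2]
  · rw [← pt_0, pm_pt h1 (by norm_num), h3]

theorem okl_two {P Q : ℕ} (hP : isPerm P = true) (hQ : isPerm Q = true) : okl [P, Q] = true := by
  unfold El.okl
  rw [List.all_cons, List.all_cons, List.all_nil, hP, hQ]
  rfl

theorem okl_one {P : ℕ} (hP : isPerm P = true) : okl [P] = true := by
  unfold El.okl
  rw [List.all_cons, List.all_nil, hP]
  rfl

theorem okl_three {P Q R : ℕ} (hP : isPerm P = true) (hQ : isPerm Q = true) (hR : isPerm R = true) :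
    okl [P, Q, R] = true := by
  unfold El.okl
  rw [List.all_cons, List.all_cons, List.all_cons, List.all_nil, hP, hQ, hR]
  rfl

theorem eq_two {P Q R S : ℕ} (hP : isPerm P = true) (hQ : isPerm Q = true) (hR : isPerm R = true)
    (hS : isPerm S = true) (h : weq [P, Q] [R, S] = true) : pm P * pm Q = pm R * pm S := by
  have h1 := El.pr_of_weq (okl_two hP hQ) (okl_two hR hS) h
  rwa [El.pr_cons, El.pr_one, El.pr_cons, El.pr_one] at h1

theorem eq_one {P Q R : ℕ} (hP : isPerm P = true) (hQ : isPerm Q = true) (hR : isPerm R = true)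
    (h : weq [P, Q] [R] = true) : pm P * pm Q = pm R := by
  have h1 := El.pr_of_weq (okl_two hP hQ) (okl_one hR) h
  rwa [El.pr_cons, El.pr_one, El.pr_one] at h1

theorem eq_nil {P Q : ℕ} (hP : isPerm P = true) (hQ : isPerm Q = true)
    (h : weq [P, Q] [] = true) : pm P * pm Q = 1 := by
  have h1 := El.pr_of_weq (okl_two hP hQ) rfl h
  rwa [El.pr_cons, El.pr_one, El.pr_nil] at h1

theorem pm_idP : pm idP = 1 := by
  have h1 := El.pr_of_weq (l := [idP]) (m := []) (by decide +kernel) rfl (by decide +kernel)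
  rwa [El.pr_one, El.pr_nil] at h1

/-! ### The subgroup `E` -/

theorem WL_ok : WL.all ok22 = true := by decide +kernel

theorem WL_mul : (WL.all fun P => WL.all fun Q => WL.any fun R => weq [P, Q] [R]) = true := by
  decide +kernel

theorem WL_comm : (WL.all fun P => WL.all fun Q => weq [P, Q] [Q, P]) = true := by
  decide +kernel

theorem WL_sq : (WL.all fun P => weq [P, P] []) = true := by
  decide +kernel

theorem ok22_of_WL {P : ℕ} (h : P ∈ WL) : ok22 P = true := List.all_eq_true.1 WL_ok P h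

theorem ok_of_ok22 {P : ℕ} (h : ok22 P = true) : ok P = true := (ok22_iff.1 h).1

theorem perm_of_WL {P : ℕ} (h : P ∈ WL) : isPerm P = true := isPerm_of_ok (ok_of_ok22 (ok22_of_WL h))

theorem sq_of_WL {P : ℕ} (h : P ∈ WL) : pm P * pm P = 1 :=
  eq_nil (perm_of_WL h) (perm_of_WL h) (List.all_eq_true.1 WL_sq P h)

/-- the elementary abelian subgroup of order 16 with normaliser `2⁴:S₅` in `M22` -/
def E : Subgroup (Equiv.Perm GolayPt) where
  carrier := {g | ∃ P ∈ WL, pm P = g}
  mul_mem' := by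
    rintro _ _ ⟨P, hP, rfl⟩ ⟨Q, hQ, rfl⟩
    have h1 := List.all_eq_true.1 (List.all_eq_true.1 WL_mul P hP) Q hQ
    obtain ⟨R, hR, h2⟩ := List.any_eq_true.1 h1
    exact ⟨R, hR, (eq_one (perm_of_WL hP) (perm_of_WL hQ) (perm_of_WL hR) h2).symm⟩
  one_mem' := ⟨idP, by decide +kernel, pm_idP⟩
  inv_mem' := by
    rintro _ ⟨P, hP, rfl⟩
    exact ⟨P, hP, (inv_eq_of_mul_eq_one_left (sq_of_WL hP)).symm⟩

theorem mem_E {g : Equiv.Perm GolayPt} : g ∈ E ↔ ∃ P ∈ WL, pm P = g := Iff.rfl

theorem pm_mem_E {P : ℕ} (h : P ∈ WL) : pm P ∈ E := ⟨P, h, rfl⟩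

theorem E_le : E ≤ Spor.M22 := by
  rintro _ ⟨P, hP, rfl⟩
  exact pm_M22 (ok22_of_WL hP)

theorem E_sq {g : Equiv.Perm GolayPt} (h : g ∈ E) : g * g = 1 := by
  obtain ⟨P, hP, rfl⟩ := h
  exact sq_of_WL hP

theorem E_comm {g h : Equiv.Perm GolayPt} (hg : g ∈ E) (hh : h ∈ E) : g * h = h * g := by
  obtain ⟨P, hP, rfl⟩ := hg
  obtain ⟨Q, hQ, rfl⟩ := hh
  exact eq_two (perm_of_WL hP) (perm_of_WL hQ) (perm_of_WL hQ) (perm_of_WL hP)
    (List.all_eq_true.1 (List.all_eq_true.1 WL_comm P hP) Q hQ)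

theorem card_E : Nat.card E = 16 := by
  have h := El.card_of_list (L := WL.map fun P => [P]) (by decide +kernel) (by decide +kernel)
    (E : Set (Equiv.Perm GolayPt)) (by
      intro g
      constructor
      · rintro ⟨P, hP, rfl⟩
        exact ⟨[P], List.mem_map_of_mem hP, El.pr_one P⟩
      · rintro ⟨l, hl, rfl⟩
        obtain ⟨P, hP, rfl⟩ := List.mem_map.1 hl
        exact ⟨P, hP, (El.pr_one P).symm⟩)
  exact h

theorem zP_mem : pm zP ∈ E := pm_mem_E (by decide +kernel)

/-! ### The normaliser of `E` -/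

/-- `g ∈ M22` normalises `E` -/
def Nrm (g : Equiv.Perm GolayPt) : Prop := g ∈ Spor.M22 ∧ ∀ w ∈ E, g * w * g⁻¹ ∈ E

/-- test for `Nrm` -/
def nrm (n : ℕ) : Bool := ok22 n && WL.all fun P => WL.any fun Q => weq [n, P] [Q, n]

theorem nrm_pm {n : ℕ} (h : nrm n = true) : Nrm (pm n) := by
  unfold nrm at h
  rw [Bool.and_eq_true] at h
  refine ⟨pm_M22 h.1, ?_⟩
  rintro _ ⟨P, hP, rfl⟩
  obtain ⟨Q, hQ, h2⟩ := List.any_eq_true.1 (List.all_eq_true.1 h.2 P hP)
  have hn := isPerm_of_ok (ok_of_ok22 h.1)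
  have h3 := eq_two hn (perm_of_WL hP) (perm_of_WL hQ) hn h2
  rw [h3, mul_inv_cancel_right]
  exact pm_mem_E hQ

theorem kW_nrm : kW.all nrm = true := by decide +kernel

theorem Nrm.inv_mem {g : Equiv.Perm GolayPt} (h : Nrm g) {w : Equiv.Perm GolayPt} (hw : w ∈ E) :
    g⁻¹ * w * g ∈ E := by
  -- conjugation by `g` is an injective map of the finite set `E` to itself
  have hfin : (E : Set (Equiv.Perm GolayPt)).Finite := Set.toFinite _
  have hmap : Set.MapsTo (fun x => g * x * g⁻¹) (E : Set (Equiv.Perm GolayPt)) E := fun x hx => h.2 x hx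
  have hinj : Set.InjOn (fun x => g * x * g⁻¹) (E : Set (Equiv.Perm GolayPt)) := by
    intro x _ y _ hxy
    exact mul_left_cancel (mul_right_cancel hxy)
  obtain ⟨x, hx, hxw⟩ := ((hfin.injOn_iff_bijOn_of_mapsTo hmap).1 hinj).surjOn hw
  have : g⁻¹ * w * g = x := by
    rw [← hxw]; group
  rw [this]; exact hx

theorem kW_conj : (WL.all fun P => Nat.beq P idP || kW.any fun n => weq [n, zP] [P, n]) = true := by
  decide +kernel

theorem exists_conj_z {w : Equiv.Perm GolayPt} (hw : w ∈ E) (h1 : w ≠ 1) :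
    ∃ n, Nrm n ∧ n * pm zP * n⁻¹ = w := by
  obtain ⟨P, hP, rfl⟩ := hw
  have h2 := List.all_eq_true.1 kW_conj P hP
  rw [Bool.or_eq_true] at h2
  rcases h2 with h2 | h2
  · exfalso
    apply h1
    rw [Nat.eq_of_beq_eq_true h2, pm_idP]
  · obtain ⟨n, hn, h3⟩ := List.any_eq_true.1 h2
    have h4 := List.all_eq_true.1 kW_nrm n hn
    have h5 : isPerm n = true := by
      unfold nrm at h4
      rw [Bool.and_eq_true] at h4
      exact isPerm_of_ok (ok_of_ok22 h4.1)
    refine ⟨pm n, nrm_pm h4, ?_⟩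
    rw [eq_two h5 (isPerm_of_ok InvM22.ok_z) (perm_of_WL hP) h5 h3, mul_inv_cancel_right]

/-! ### The centraliser of `E` in `M22` -/

/-- the octad `{3, 5, 14, 17} ∪ {4, 13, 16, 22}` -/
def o2 : ℕ := 4415544

theorem o2_mem : fin o2 ∈ octads :=
  (fin_mem_octads_iff (by norm_num [o2])).2 (by decide +kernel)

theorem t1_ok : (pts.all fun j => [3, 5, 14, 17].any (Nat.beq j) || WL.any fun P =>
    (Nat.beq (papp P 3) 3 && !(Nat.beq (papp P j) j)) || (!(Nat.beq (papp P 3) 3) && Nat.beq (papp P j) j)) =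
      true := by decide +kernel

theorem t2_ok : (pts.all fun j => [4, 13, 16, 22].any (Nat.beq j) || WL.any fun P =>
    (Nat.beq (papp P 4) 4 && !(Nat.beq (papp P j) j)) || (!(Nat.beq (papp P 4) 4) && Nat.beq (papp P j) j)) =
      true := by decide +kernel

theorem t3_ok : ([3, 5, 14, 17].all fun i => [4, 13, 16, 22].all fun j => WL.any fun P =>
    Nat.beq (papp P i) 3 && Nat.beq (papp P j) 4) = true := by decide +kernel

theorem t4_ok : (pts.all fun i => !(o2.testBit i) || WL.any fun P => Nat.beq (papp P 3) i ||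
    Nat.beq (papp P 4) i) = true := by decide +kernel

/-- commutation and values -/
theorem val_comm {g : Equiv.Perm GolayPt} {P : ℕ} (hP : isPerm P = true) (h : g * pm P = pm P * g) {i : ℕ}
    (hi : i < 24) : val g (papp P i) = papp P (val g i) := by
  rw [← El.val_pm hP hi, ← El.val_mul, h, El.val_mul, El.val_pm hP (El.val_lt _ _)]

theorem val_fix {g : Equiv.Perm GolayPt} {P : ℕ} (hP : isPerm P = true) (h : g * pm P = pm P * g) {i : ℕ}
    (hi : i < 24) : papp P i = i ↔ papp P (val g i) = val g i := by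
  rw [← val_comm hP h hi]
  constructor
  · intro h1; rw [h1]
  · intro h1; exact El.val_inj (papp_lt hP hi) hi h1

theorem mem_list4 {a b c d j : ℕ} (h : [a, b, c, d].any (Nat.beq j) = true) : j ∈ [a, b, c, d] := by
  obtain ⟨x, hx, h2⟩ := List.any_eq_true.1 h
  rw [Nat.eq_of_beq_eq_true h2]; exact hx

/-- the image of a base point under an element commuting with `E` -/
theorem img_base {g : Equiv.Perm GolayPt} (hc : ∀ w ∈ E, g * w = w * g) {b : ℕ} (hb : b < 24) {l : List ℕ}
    (ht : (pts.all fun j => l.any (Nat.beq j) || WL.any fun P =>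
      (Nat.beq (papp P b) b && !(Nat.beq (papp P j) j)) || (!(Nat.beq (papp P b) b) && Nat.beq (papp P j) j)) =
        true) : val g b ∈ l := by
  have h1 := List.all_eq_true.1 ht _ (El.mem_pts (El.val_lt g b))
  rw [Bool.or_eq_true] at h1
  rcases h1 with h1 | h1
  · obtain ⟨x, hx, h2⟩ := List.any_eq_true.1 h1
    rw [Nat.eq_of_beq_eq_true h2]; exact hx
  · exfalso
    obtain ⟨P, hP, h2⟩ := List.any_eq_true.1 h1
    have h3 := val_fix (perm_of_WL hP) (hc _ (pm_mem_E hP)) hb
    rw [Bool.or_eq_true, Bool.and_eq_true, Bool.and_eq_true, Bool.not_eq_true', Bool.not_eq_true', Nat.beq_eq,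
      Nat.beq_eq] at h2
    rcases h2 with ⟨h4, h5⟩ | ⟨h4, h5⟩
    · rw [h3.1 h4, Nat.beq_refl] at h5
      cases h5
    · rw [h3.2 h5, Nat.beq_refl] at h4
      cases h4

theorem mem_E_of_comm {g : Equiv.Perm GolayPt} (hg : g ∈ Spor.M22) (hc : ∀ w ∈ E, g * w = w * g) : g ∈ E := by
  have h1 := img_base hc (b := 3) (by norm_num) t1_ok
  have h2 := img_base hc (b := 4) (by norm_num) t2_ok
  obtain ⟨P, hP, h3⟩ := List.any_eq_true.1
    (List.all_eq_true.1 (List.all_eq_true.1 t3_ok _ h1) _ h2)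
  rw [Bool.and_eq_true, Nat.beq_eq, Nat.beq_eq] at h3
  have hPE := pm_mem_E hP
  -- `h = P g` fixes the octad pointwise
  set h : Equiv.Perm GolayPt := pm P * g with hh
  have hhc : ∀ w ∈ E, h * w = w * h := by
    intro w hw
    rw [hh, mul_assoc, hc w hw, ← mul_assoc, E_comm hPE hw, mul_assoc]
  have hv3 : val h 3 = 3 := by
    rw [hh, El.val_mul, El.val_pm (perm_of_WL hP) (El.val_lt _ _)]; exact h3.1
  have hv4 : val h 4 = 4 := by
    rw [hh, El.val_mul, El.val_pm (perm_of_WL hP) (El.val_lt _ _)]; exact h3.2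
  have hmem : h ∈ Spor.M22 := Spor.M22.mul_mem (E_le hPE) hg
  have hfix : h ∈ Cfsg.Agent.SporadicA.OctadFix.fixOct (fin o2) := by
    rw [Cfsg.Agent.SporadicA.OctadFix.mem_fixOct]
    refine ⟨((Cfsg.Agent.SporadicA.MathieuRecog.mem_M22_iff _).1 hmem).1, fun x hx => ?_⟩
    rw [mem_fin] at hx
    have hlt := idx_lt x
    have h5 := List.all_eq_true.1 t4_ok _ (El.mem_pts hlt)
    rw [hx, Bool.not_true, Bool.false_or] at h5
    obtain ⟨Q, hQ, h6⟩ := List.any_eq_true.1 h5
    rw [Bool.or_eq_true, Nat.beq_eq, Nat.beq_eq] at h6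
    have h7 : val h (idx x) = idx x := by
      rcases h6 with h6 | h6
      · rw [← h6, val_comm (perm_of_WL hQ) (hhc _ (pm_mem_E hQ)) (by norm_num), hv3]
      · rw [← h6, val_comm (perm_of_WL hQ) (hhc _ (pm_mem_E hQ)) (by norm_num), hv4]
    unfold El.val at h7
    rw [pt_idx] at h7
    exact idx_injective h7
  have hn : (none : GolayPt) ∉ fin o2 := by
    rw [← pt_23, mem_fin, idx_pt (by norm_num)]
    decide +kernel
  have huniq := (Cfsg.Agent.SporadicA.OctadFix.existsUnique_fixOct o2_mem hn hn).unique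
    ⟨hfix, ((Cfsg.Agent.SporadicA.MathieuRecog.mem_M22_iff _).1 hmem).2.1⟩ ⟨one_mem _, rfl⟩
  have h8 : g = (pm P)⁻¹ := by
    rw [eq_comm, inv_eq_iff_mul_eq_one]
    exact huniq
  rw [h8]
  exact E.inv_mem hPE

/-! ### Outer elements -/

open Cfsg.Agent.OddHalf.D9.M22.Data (aP bP cA cB uP vP dW d0 d1 d2)

theorem ok_aP : ok aP = true := by decide +kernel
theorem ok_bP : ok bP = true := by decide +kernel
theorem a_23 : papp aP 23 = 0 := by decide +kernel
theorem a_0 : papp aP 0 = 23 := by decide +kernel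
theorem b_23 : papp bP 23 = 0 := by decide +kernel
theorem b_0 : papp bP 0 = 23 := by decide +kernel

theorem pm_aP_D22 : pm aP ∈ D22 := by
  rw [Cfsg.Agent.J4Type.Aut22.mem_D22_iff]
  refine ⟨pm_M24 ok_aP, Or.inr ⟨?_, ?_⟩⟩
  · rw [← pt_23, pm_pt ok_aP (by norm_num), a_23, pt_0]
  · rw [← pt_0, pm_pt ok_aP (by norm_num), a_0]
    rfl

theorem pm_aP_none : pm aP none = some 0 := by
  rw [← pt_23, pm_pt ok_aP (by norm_num), a_23, pt_0]

theorem pm_bP_none : pm bP none = some 0 := by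
  rw [← pt_23, pm_pt ok_bP (by norm_num), b_23, pt_0]

theorem aP_comm_ok : (WL.all fun P => weq [aP, P] [P, aP]) = true := by decide +kernel
theorem bP_comm_ok : (WL.all fun P => weq [bP, P] [P, bP]) = true := by decide +kernel

theorem aP_comm {w : Equiv.Perm GolayPt} (hw : w ∈ E) : pm aP * w = w * pm aP := by
  obtain ⟨P, hP, rfl⟩ := hw
  exact eq_two (isPerm_of_ok ok_aP) (perm_of_WL hP) (perm_of_WL hP) (isPerm_of_ok ok_aP)
    (List.all_eq_true.1 aP_comm_ok P hP)

theorem bP_comm {w : Equiv.Perm GolayPt} (hw : w ∈ E) : pm bP * w = w * pm bP := by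
  obtain ⟨P, hP, rfl⟩ := hw
  exact eq_two (isPerm_of_ok ok_bP) (perm_of_WL hP) (perm_of_WL hP) (isPerm_of_ok ok_bP)
    (List.all_eq_true.1 bP_comm_ok P hP)

theorem aP_ncomm_ok : (WL.all fun P => kW.any fun n => !(weq [n, P, aP] [P, aP, n])) = true := by
  decide +kernel

/-- no element of `E aP` commutes with the normaliser of `E` -/
theorem exists_ncomm {w : Equiv.Perm GolayPt} (hw : w ∈ E) :
    ∃ n, Nrm n ∧ n * (w * pm aP) ≠ w * pm aP * n := by
  obtain ⟨P, hP, rfl⟩ := hw
  obtain ⟨n, hn, h1⟩ := List.any_eq_true.1 (List.all_eq_true.1 aP_ncomm_ok P hP)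
  have h4 := List.all_eq_true.1 kW_nrm n hn
  have h5 : isPerm n = true := by
    have h4' := h4
    unfold nrm at h4'
    rw [Bool.and_eq_true] at h4'
    exact isPerm_of_ok (ok_of_ok22 h4'.1)
  refine ⟨pm n, nrm_pm h4, ?_⟩
  have h6 := El.pr_ne (okl_three h5 (perm_of_WL hP) (isPerm_of_ok ok_aP))
    (okl_three (perm_of_WL hP) (isPerm_of_ok ok_aP) h5) (by rwa [Bool.not_eq_true'] at h1)
  rwa [El.pr_cons, El.pr_cons, El.pr_one, El.pr_cons, El.pr_cons, El.pr_one, ← mul_assoc (pm P)] at h6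

/-- the row test for the tables `cA`, `cB` -/
def rowT (P A : ℕ) (i : ℕ) (c : ℕ) : Bool := ok c && weq [c, P] [A, c] && Nat.beq (papp c i) 23

theorem cA_ok : (pts.all fun i => Nat.beq (papp J4.M24InvolData.P1 i) i ||
    cA.any (rowT J4.M24InvolData.P1 aP i)) = true := by decide +kernel

theorem cB_ok : (pts.all fun i => cB.any (rowT J4.M24InvolData.P2 bP i)) = true := by decide +kernel

/-- one type of outer involutions -/
theorem outer_aux {P A : ℕ} (hP : ok P = true) (hA : ok A = true) (hA23 : papp A 23 = 0)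
    {a h : Equiv.Perm GolayPt} (ha : a none = some 0) (hh : h ∈ M24)
    (hha : h * a * h⁻¹ = pm P) {c : ℕ} (hc : rowT P A (idx (h none)) c = true) :
    ∃ g ∈ Spor.M22, a = g * pm A * g⁻¹ := by
  unfold rowT at hc
  rw [Bool.and_eq_true, Bool.and_eq_true, Nat.beq_eq] at hc
  obtain ⟨⟨hok, hw⟩, hv⟩ := hc
  have h1 := eq_two (isPerm_of_ok hok) (isPerm_of_ok hP) (isPerm_of_ok hA) (isPerm_of_ok hok) hw
  have h2 : (pm c * h) * a * (pm c * h)⁻¹ = pm A := by
    have e : (pm c * h) * a * (pm c * h)⁻¹ = pm c * (h * a * h⁻¹) * (pm c)⁻¹ := by group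
    rw [e, hha, h1, mul_inv_cancel_right]
  have hn : (pm c * h) none = none := by
    rw [Equiv.Perm.mul_apply, ← pt_idx (h none), pm_pt hok (idx_lt _), hv]
    rfl
  have h0 : (pm c * h) (some 0) = some 0 := by
    have h3 : (pm c * h) * a = pm A * (pm c * h) := by rw [← h2]; group
    have h4 := congrArg (fun f : Equiv.Perm GolayPt => f none) h3
    simp only [Equiv.Perm.mul_apply] at h4
    rw [ha] at h4
    have h5 : pm c (h none) = none := hn
    rw [h5] at h4
    show pm c (h (some 0)) = some 0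
    rw [h4, ← pt_23, pm_pt hA (by norm_num), hA23, pt_0]
  have hM : pm c * h ∈ Spor.M22 := by
    rw [Cfsg.Agent.SporadicA.MathieuRecog.mem_M22_iff]
    exact ⟨M24.mul_mem (pm_M24 hok) hh, hn, h0⟩
  refine ⟨(pm c * h)⁻¹, Spor.M22.inv_mem hM, ?_⟩
  rw [← h2]; group

/-- **Every outer involution is conjugate to `aP` or `bP`**. -/
theorem outer_cases {a : Equiv.Perm GolayPt} (ha : a ∈ D22) (hn : a ∉ Spor.M22) (h2 : a * a = 1) :
    ∃ g ∈ Spor.M22, a = g * pm aP * g⁻¹ ∨ a = g * pm bP * g⁻¹ := by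
  obtain ⟨ha24, hcase⟩ := (Cfsg.Agent.J4Type.Aut22.mem_D22_iff a).1 ha
  have hsw : a none = some 0 ∧ a (some 0) = none := by
    rcases hcase with h | h
    · exact absurd ((Cfsg.Agent.SporadicA.MathieuRecog.mem_M22_iff a).2 ⟨ha24, h⟩) hn
    · exact h
  have h1 : a ≠ 1 := by
    intro e
    rw [e] at hsw
    exact absurd hsw.1 (by simp)
  obtain ⟨g, hg | hg⟩ := J4.M24Invol.invol_conj ⟨a, ha24⟩ (Subtype.ext h2)
    (fun e => h1 (congrArg Subtype.val e))
  · have hg' : (g : Equiv.Perm GolayPt) * a * (g : Equiv.Perm GolayPt)⁻¹ = pm J4.M24InvolData.P1 := by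
      rw [← El.coe_el J4.M24Invol.ok_P1]
      exact congrArg Subtype.val hg
    have hlt := idx_lt ((g : Equiv.Perm GolayPt) none)
    have h3 := List.all_eq_true.1 cA_ok _ (El.mem_pts hlt)
    rw [Bool.or_eq_true] at h3
    rcases h3 with h3 | h3
    · exfalso
      have h4 := Nat.eq_of_beq_eq_true h3
      have h5 : pm J4.M24InvolData.P1 ((g : Equiv.Perm GolayPt) none) = (g : Equiv.Perm GolayPt) none := by
        conv_lhs => rw [← pt_idx ((g : Equiv.Perm GolayPt) none)]
        rw [pm_pt J4.M24Invol.ok_P1 hlt, h4, pt_idx]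
      rw [← hg'] at h5
      have h6 : (g : Equiv.Perm GolayPt) (a ((g : Equiv.Perm GolayPt)⁻¹ ((g : Equiv.Perm GolayPt) none))) =
        (g : Equiv.Perm GolayPt) none := h5
      rw [show (g : Equiv.Perm GolayPt)⁻¹ ((g : Equiv.Perm GolayPt) none) = none from
        (g : Equiv.Perm GolayPt).symm_apply_apply none, hsw.1] at h6
      have h7 := (g : Equiv.Perm GolayPt).injective h6
      cases h7
    · obtain ⟨c, -, hc⟩ := List.any_eq_true.1 h3
      obtain ⟨k, hk, e⟩ := outer_aux J4.M24Invol.ok_P1 ok_aP a_23 hsw.1 g.2 hg' hc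
      exact ⟨k, hk, Or.inl e⟩
  · have hg' : (g : Equiv.Perm GolayPt) * a * (g : Equiv.Perm GolayPt)⁻¹ = pm J4.M24InvolData.P2 := by
      rw [← El.coe_el J4.M24Invol.ok_P2]
      exact congrArg Subtype.val hg
    have hlt := idx_lt ((g : Equiv.Perm GolayPt) none)
    obtain ⟨c, -, hc⟩ := List.any_eq_true.1 (List.all_eq_true.1 cB_ok _ (El.mem_pts hlt))
    obtain ⟨k, hk, e⟩ := outer_aux J4.M24Invol.ok_P2 ok_bP b_23 hsw.1 g.2 hg' hc
    exact ⟨k, hk, Or.inr e⟩

theorem exists_outer {a : Equiv.Perm GolayPt} (ha : a ∈ D22) (hn : a ∉ Spor.M22) (h2 : a * a = 1) :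
    ∃ g ∈ Spor.M22, ∀ w ∈ E, (g⁻¹ * a * g) * w = w * (g⁻¹ * a * g) := by
  obtain ⟨g, hg, h | h⟩ := outer_cases ha hn h2
  · refine ⟨g, hg, fun w hw => ?_⟩
    have e : g⁻¹ * a * g = pm aP := by rw [h]; group
    rw [e]; exact aP_comm hw
  · refine ⟨g, hg, fun w hw => ?_⟩
    have e : g⁻¹ * a * g = pm bP := by rw [h]; group
    rw [e]; exact bP_comm hw

/-! ### Elements of odd order commuting with the involution `zP` -/

theorem d_ok : ([d0, d1, d2].all fun d => ok22 d && weq [d, zP] [zP, d] && weq [d, d, d] []) = true := by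
  decide +kernel

theorem dW_mem : (dW.all fun w => w.all fun d => [d0, d1, d2].any (Nat.beq d)) = true := by decide +kernel

/-- the test for the base point `b` -/
def baseT (b : ℕ) : Bool := pts.all fun j => Nat.beq j 0 || Nat.beq j 23 || dW.any fun w =>
  (Nat.beq (ev w b) b && !(Nat.beq (ev w j) j)) || (Nat.beq (ev w b) j && Nat.beq (ev w j) b)

theorem base_ok : (baseT 1 && baseT 4 && baseT 8) = true := by decide +kernel

theorem cover_ok : (pts.all fun i => Nat.beq i 0 || Nat.beq i 23 || dW.any fun w =>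
    Nat.beq (ev w 1) i || Nat.beq (ev w 4) i || Nat.beq (ev w 8) i) = true := by decide +kernel

theorem dW_okl : dW.all okl = true := by decide +kernel

theorem D22_val {g : Equiv.Perm GolayPt} (hg : g ∈ D22) :
    (val g 23 = 23 ∧ val g 0 = 0) ∨ (val g 23 = 0 ∧ val g 0 = 23) := by
  unfold El.val
  rw [pt_23, pt_0]
  rcases ((Cfsg.Agent.J4Type.Aut22.mem_D22_iff g).1 hg).2 with ⟨h1, h2⟩ | ⟨h1, h2⟩
  · left; rw [h1, h2]; exact ⟨rfl, rfl⟩
  · right; rw [h1, h2]; exact ⟨rfl, rfl⟩

/-- An element of `D22` commuting with the elements of order three of `M22` commuting with `zP` has order at most 2. -/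
theorem sq_of_comm {g : Equiv.Perm GolayPt} (hg : g ∈ D22)
    (hc : ∀ d ∈ Spor.M22, d * d * d = 1 → d * pm zP = pm zP * d → g * d = d * g) : g * g = 1 := by
  have hd : ∀ d ∈ [d0, d1, d2], g * pm d = pm d * g := by
    intro d hd
    have h1 := List.all_eq_true.1 d_ok d hd
    rw [Bool.and_eq_true, Bool.and_eq_true] at h1
    have hp := isPerm_of_ok (ok_of_ok22 h1.1.1)
    refine hc _ (pm_M22 h1.1.1) ?_ ?_
    · have h2 := El.pr_of_weq (okl_three hp hp hp) rfl h1.2
      rwa [El.pr_cons, El.pr_cons, El.pr_one, El.pr_nil, ← mul_assoc] at h2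
    · exact eq_two hp (isPerm_of_ok InvM22.ok_z) (isPerm_of_ok InvM22.ok_z) hp h1.1.2
  have hw : ∀ w ∈ dW, g * pr w = pr w * g := by
    intro w hw
    have h1 := List.all_eq_true.1 dW_mem w hw
    clear hw
    induction w with
    | nil => rw [El.pr_nil, mul_one, one_mul]
    | cons d w ih =>
      rw [List.all_cons, Bool.and_eq_true] at h1
      obtain ⟨x, hx, h2⟩ := List.any_eq_true.1 h1.1
      have h3 := Nat.eq_of_beq_eq_true h2
      rw [El.pr_cons, ← mul_assoc, h3, hd x hx, mul_assoc, ih h1.2, mul_assoc]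
  have hv : ∀ w ∈ dW, ∀ i < 24, val g (ev w i) = ev w (val g i) := by
    intro w hw' i hi
    have ho := List.all_eq_true.1 dW_okl w hw'
    rw [← El.val_pr ho hi, ← El.val_mul, hw w hw', El.val_mul, El.val_pr ho (El.val_lt _ _)]
  have hev : ∀ w ∈ dW, ∀ i < 24, ev w i < 24 := by
    intro w hw' i hi
    rw [← El.val_pr (List.all_eq_true.1 dW_okl w hw') hi]
    exact El.val_lt _ _
  have h23 := D22_val hg
  -- the base points
  have hbase : ∀ b < 24, b ≠ 0 → b ≠ 23 → baseT b = true → val g (val g b) = b := by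
    intro b hb hb0 hb23 ht
    have h1 := List.all_eq_true.1 ht _ (El.mem_pts (El.val_lt g b))
    rw [Bool.or_eq_true, Bool.or_eq_true, Nat.beq_eq, Nat.beq_eq] at h1
    rcases h1 with (h1 | h1) | h1
    · exfalso
      rcases h23 with h | h
      · exact hb0 (El.val_inj hb (by norm_num) (h1.trans h.2.symm))
      · exact hb23 (El.val_inj hb (by norm_num) (h1.trans h.1.symm))
    · exfalso
      rcases h23 with h | h
      · exact hb23 (El.val_inj hb (by norm_num) (h1.trans h.1.symm))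
      · exact hb0 (El.val_inj hb (by norm_num) (h1.trans h.2.symm))
    · obtain ⟨w, hw', h2⟩ := List.any_eq_true.1 h1
      have h3 := hv w hw' b hb
      rw [Bool.or_eq_true, Bool.and_eq_true, Bool.and_eq_true, Bool.not_eq_true', Nat.beq_eq, Nat.beq_eq,
        Nat.beq_eq] at h2
      rcases h2 with ⟨h4, h5⟩ | ⟨h4, h5⟩
      · exfalso
        rw [h4] at h3
        rw [← h3, Nat.beq_refl] at h5
        cases h5
      · rw [h4] at h3
        rw [h3, h5]
  have hb := base_ok
  rw [Bool.and_eq_true, Bool.and_eq_true] at hb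
  have hb1 := hbase 1 (by norm_num) (by norm_num) (by norm_num) hb.1.1
  have hb4 := hbase 4 (by norm_num) (by norm_num) (by norm_num) hb.1.2
  have hb8 := hbase 8 (by norm_num) (by norm_num) (by norm_num) hb.2
  apply El.ext_val
  intro i hi
  rw [El.val_mul, El.val_one hi]
  have h1 := List.all_eq_true.1 cover_ok _ (El.mem_pts hi)
  rw [Bool.or_eq_true, Bool.or_eq_true, Nat.beq_eq, Nat.beq_eq] at h1
  rcases h1 with (rfl | rfl) | h1
  · rcases h23 with h | h
    · rw [h.2, h.2]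
    · rw [h.2, h.1]
  · rcases h23 with h | h
    · rw [h.1, h.1]
    · rw [h.1, h.2]
  · obtain ⟨w, hw', h2⟩ := List.any_eq_true.1 h1
    rw [Bool.or_eq_true, Bool.or_eq_true, Nat.beq_eq, Nat.beq_eq, Nat.beq_eq] at h2
    rcases h2 with (h2 | h2) | h2
    · rw [← h2, hv w hw' _ (by norm_num), hv w hw' _ (El.val_lt _ _), hb1]
    · rw [← h2, hv w hw' _ (by norm_num), hv w hw' _ (El.val_lt _ _), hb4]
    · rw [← h2, hv w hw' _ (by norm_num), hv w hw' _ (El.val_lt _ _), hb8]

/-! ### A Sylow 2-subgroup -/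

theorem uP_nrm : nrm uP = true := by decide +kernel
theorem vP_nrm : nrm vP = true := by decide +kernel

theorem ok22_of_nrm {n : ℕ} (h : nrm n = true) : ok22 n = true := by
  unfold nrm at h
  rw [Bool.and_eq_true] at h
  exact h.1

theorem uP_sq : pm uP * pm uP = 1 :=
  eq_nil (isPerm_of_ok (ok_of_ok22 (ok22_of_nrm uP_nrm))) (isPerm_of_ok (ok_of_ok22 (ok22_of_nrm uP_nrm)))
    (by decide +kernel)

theorem vP_sq : pm vP * pm vP = 1 :=
  eq_nil (isPerm_of_ok (ok_of_ok22 (ok22_of_nrm vP_nrm))) (isPerm_of_ok (ok_of_ok22 (ok22_of_nrm vP_nrm)))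
    (by decide +kernel)

theorem uv_four : pm uP * pm vP * (pm uP * pm vP) * (pm uP * pm vP * (pm uP * pm vP)) = 1 := by
  have h := El.pr_of_weq (l := [uP, vP, uP, vP, uP, vP, uP, vP]) (m := []) (by decide +kernel) rfl
    (by decide +kernel)
  simp only [El.pr_cons, El.pr_nil, mul_one] at h
  rw [← h]; group

/-- coset representatives of `E` in the Sylow subgroup -/
def cosL : List (List ℕ) := [[], [uP], [vP], [uP, vP], [vP, uP], [uP, vP, uP], [vP, uP, vP], [uP, vP, uP, vP]]

def sylL : List (List ℕ) := WL.flatMap fun P => cosL.map fun l => P :: l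

theorem sylL_okl : sylL.all okl = true := by decide +kernel

theorem sylL_dist : El.dist sylL = true := by decide +kernel

/-- the subgroup `E ⟨uP, vP⟩` -/
def P22 : Subgroup (Equiv.Perm GolayPt) := Subgroup.closure ((E : Set (Equiv.Perm GolayPt)) ∪ {pm uP, pm vP})

theorem uP_mem : pm uP ∈ P22 := Subgroup.subset_closure (Or.inr (Or.inl rfl))

theorem vP_mem : pm vP ∈ P22 := Subgroup.subset_closure (Or.inr (Or.inr rfl))

theorem E_le_P22 : E ≤ P22 := fun _ h => Subgroup.subset_closure (Or.inl h)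

theorem P22_le : P22 ≤ Spor.M22 := by
  unfold P22
  rw [Subgroup.closure_le]
  rintro x (hx | rfl | rfl)
  · exact E_le hx
  · exact pm_M22 (ok22_of_nrm uP_nrm)
  · exact pm_M22 (ok22_of_nrm vP_nrm)

theorem syl_card : 128 ≤ Nat.card P22 := by
  have h := El.length_le_card (L := sylL) (List.all_eq_true.1 sylL_okl) sylL_dist
    (P22 : Set (Equiv.Perm GolayPt)) (by
      intro l hl
      unfold sylL at hl
      rw [List.mem_flatMap] at hl
      obtain ⟨P, hP, hl⟩ := hl
      obtain ⟨m, hm, rfl⟩ := List.mem_map.1 hl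
      rw [El.pr_cons]
      refine P22.mul_mem (E_le_P22 (pm_mem_E hP)) ?_
      unfold cosL at hm
      simp only [List.mem_cons, List.not_mem_nil, or_false] at hm
      rcases hm with rfl | rfl | rfl | rfl | rfl | rfl | rfl | rfl
      · rw [El.pr_nil]; exact one_mem _
      · rw [El.pr_one]; exact uP_mem
      · rw [El.pr_one]; exact vP_mem
      · simp only [El.pr_cons, El.pr_nil, mul_one]; exact mul_mem uP_mem vP_mem
      · simp only [El.pr_cons, El.pr_nil, mul_one]; exact mul_mem vP_mem uP_mem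
      · simp only [El.pr_cons, El.pr_nil, mul_one]; exact mul_mem uP_mem (mul_mem vP_mem uP_mem)
      · simp only [El.pr_cons, El.pr_nil, mul_one]; exact mul_mem vP_mem (mul_mem uP_mem vP_mem)
      · simp only [El.pr_cons, El.pr_nil, mul_one]
        exact mul_mem uP_mem (mul_mem vP_mem (mul_mem uP_mem vP_mem)))
  exact h

end Cfsg.Agent.OddHalf.D9.M22
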