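import Cfsg.Agent.OddHalf.D9.M22.RowFour
import Cfsg.Agent.OddHalf.D9.M22.EDataM22

/-!
# D9: the row `4.M22`, closed (helper322)
-/

set_option autoImplicit false

namespace Cfsg.Agent.OddHalf.D9.M22.RowsM22

open Subgroup Cfsg

universe u

/-- the row `m22four` of `Cut.Rows` -/
theorem m22four : Cut.Row.{u} (fun K _ => Nat.card ↥(center K) = 4 ∧ Spor.IsoM22 (K ⧸ center K)) :=
  RowFour.row EDataM22.exists_edata

end Cfsg.Agent.OddHalf.D9.M22.RowsM22
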