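import Mathlib

/-!
# Perfect double covers of a group with one class of involutions (helper278)

`Cv π z` : `π : K → X` is onto with kernel `{1, z}`, `z` a central involution.
`XD X ...` : four commuting involutions `e₁, .., e₄` and involutions `v₁, v₂` of `X`, generating a subgroup of
odd index.

* `nsq` : `z` is not a square;
* `sq_one`, `comm` : involutions lift to involutions, commuting involutions to commuting involutions;
* `not_conj` : a lift `f` of an involution is not conjugate to `f z`;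
* `split_false` : if the lifts satisfy the relations of the subgroup, then `K` is not perfect.
-/

set_option autoImplicit false

namespace Cfsg.Agent.OddHalf.D9.M22.TwoCov

open Subgroup
open scoped Pointwise

universe u v

/-- `π` is onto with kernel `{1, z}` -/
structure Cv {K : Type u} {X : Type v} [Group K] [Group X] (π : K →* X) (z : K) : Prop where
  surj : Function.Surjective π
  ker : ∀ k, π k = 1 ↔ k = 1 ∨ k = z
  zz : z * z = 1
  z1 : z ≠ 1
  zc : ∀ k, k * z = z * k
  perf : commutator K = ⊤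

/-- The facts on `X` about `e₁, .., e₄, v₁, v₂`. -/
structure XD {X : Type v} [Group X] (e1 e2 e3 e4 v1 v2 : X) : Prop where
  ee1 : e1 * e1 = 1
  ee2 : e2 * e2 = 1
  ee3 : e3 * e3 = 1
  ee4 : e4 * e4 = 1
  c12 : e1 * e2 = e2 * e1
  c13 : e1 * e3 = e3 * e1
  c14 : e1 * e4 = e4 * e1
  c23 : e2 * e3 = e3 * e2
  c24 : e2 * e4 = e4 * e2
  c34 : e3 * e4 = e4 * e3
  /-- independence -/
  ind : ∀ i < 2, ∀ j < 2, ∀ k < 2, ∀ l < 2, e1 ^ i * e2 ^ j * e3 ^ k * e4 ^ l = 1 → i = 0 ∧ j = 0 ∧ k = 0 ∧ l = 0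
  vv1 : v1 * v1 = 1
  vv2 : v2 * v2 = 1
  v1e1 : v1 * e1 * v1⁻¹ = e2
  v1e3 : v1 * e3 * v1⁻¹ = e4
  v2e1 : v2 * e1 * v2⁻¹ = e3
  v2e2 : v2 * e2 * v2⁻¹ = e1 * e3 * e4
  v2e4 : v2 * e4 * v2⁻¹ = e1 * e3 * e2
  v4 : (v1 * v2) ^ 4 = 1
  rot : ∀ i < 4, ∀ a < 2, ∀ b < 2, ∀ c < 2, ∀ d < 2, (v1 * v2) ^ i = e1 ^ a * e2 ^ b * e3 ^ c * e4 ^ d → i = 0
  refl : ∀ i < 4, ∀ a < 2, ∀ b < 2, ∀ c < 2, ∀ d < 2, (v1 * v2) ^ i * v1 ≠ e1 ^ a * e2 ^ b * e3 ^ c * e4 ^ d
  odd : Odd (closure ({e1, e2, e3, e4, v1, v2} : Set X)).index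
  one : ∀ x y : X, x * x = 1 → x ≠ 1 → y * y = 1 → y ≠ 1 → ∃ g, g * x * g⁻¹ = y

section

variable {K : Type u} {X : Type v} [Group K] [Group X] {π : K →* X} {z : K}

namespace Cv

theorem zi (C : Cv π z) : z⁻¹ = z := inv_eq_of_mul_eq_one_left C.zz

theorem eq_or (C : Cv π z) {k l : K} (h : π k = π l) : k = l ∨ k = l * z := by
  have h1 : π (l⁻¹ * k) = 1 := by rw [map_mul, map_inv, h, inv_mul_cancel]
  rcases (C.ker _).1 h1 with h2 | h2
  · left; exact (inv_mul_eq_one.1 h2).symm
  · right; rw [← h2]; group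

theorem pz (C : Cv π z) : π z = 1 := (C.ker z).2 (Or.inr rfl)

theorem conj_or (C : Cv π z) {k l : K} (h : π k * π l = π l * π k) : k * l * k⁻¹ = l ∨ k * l * k⁻¹ = l * z := by
  apply C.eq_or
  rw [map_mul, map_mul, map_inv, h, mul_inv_cancel_right]

theorem mulz (C : Cv π z) (k l : K) : k * z * (l * z) = k * l := by
  calc k * z * (l * z) = k * (z * l) * z := by group
    _ = k * (l * z) * z := by rw [← C.zc l]
    _ = k * l * (z * z) := by group
    _ = k * l := by rw [C.zz, mul_one]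

theorem conjz (C : Cv π z) (g k : K) : g * (k * z) * g⁻¹ = g * k * g⁻¹ * z := by
  calc g * (k * z) * g⁻¹ = g * k * (z * g⁻¹) := by group
    _ = g * k * (g⁻¹ * z) := by rw [C.zc]
    _ = _ := by group

theorem ne_mulz (C : Cv π z) (k : K) : k * z ≠ k := fun h => C.z1 (mul_eq_left.1 h)

theorem powz (C : Cv π z) (k : K) (n : ℕ) : (k * z) ^ n = k ^ n * z ^ n := by
  rw [Commute.mul_pow]
  exact C.zc k

theorem z_pow_odd (C : Cv π z) {n : ℕ} (hn : Odd n) : z ^ n = z := by
  obtain ⟨m, rfl⟩ := hn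
  rw [pow_succ, pow_mul, pow_two, C.zz, one_pow, one_mul]

/-- a lift of odd order -/
theorem lift_odd (C : Cv π z) {x : X} {n : ℕ} (hn : Odd n) (hx : x ^ n = 1) : ∃ k, π k = x ∧ k ^ n = 1 := by
  obtain ⟨k, rfl⟩ := C.surj x
  rcases (C.ker (k ^ n)).1 (by rw [map_pow, hx]) with h | h
  · exact ⟨k, rfl, h⟩
  · refine ⟨k * z, by rw [map_mul, C.pz, mul_one], ?_⟩
    rw [C.powz, h, C.z_pow_odd hn, C.zz]

/-- elements of odd order over commuting elements -/
theorem comm_odd (C : Cv π z) {k l : K} {n : ℕ} (hn : Odd n) (hk : k ^ n = 1) (h : π k * π l = π l * π k) :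
    k * l = l * k := by
  rcases C.conj_or h.symm with h1 | h1
  · rw [mul_inv_eq_iff_eq_mul] at h1
    exact h1.symm
  · exfalso
    apply C.z1
    have h2 : (l * k * l⁻¹) ^ n = 1 := by rw [conj_pow, hk]; group
    rw [h1, C.powz, hk, C.z_pow_odd hn, one_mul] at h2
    exact h2

end Cv

variable {e1 e2 e3 e4 v1 v2 : X}

/-- anticommuting lifts -/
theorem anti (C : Cv π z) {x y : K} (hx : x * x = z) (hy : y * y = z) (hxy : x * y * (x * y) = z) :
    y * x = x * y * z := by
  have hxi : x⁻¹ = x * z := by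
    apply inv_eq_of_mul_eq_one_right
    rw [← mul_assoc, hx, C.zz]
  have hyi : y⁻¹ = z * y := by
    apply inv_eq_of_mul_eq_one_left
    rw [mul_assoc, hy, C.zz]
  calc y * x = x⁻¹ * (x * y * (x * y)) * y⁻¹ := by group
    _ = x * z * z * (z * y) := by rw [hxy, hxi, hyi]
    _ = x * (z * z) * (z * y) := by group
    _ = x * (z * y) := by rw [C.zz, mul_one]
    _ = x * (y * z) := by rw [C.zc]
    _ = _ := by group

theorem XD.e_ne (D : XD e1 e2 e3 e4 v1 v2) : e1 ≠ 1 ∧ e2 ≠ 1 ∧ e3 ≠ 1 ∧ e1 * e2 ≠ 1 ∧ e1 * e3 ≠ 1 ∧ e2 * e3 ≠ 1 ∧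
    e1 * e2 * e3 ≠ 1 ∧ e1 * e2 * e3 * e4 ≠ 1 := by
  refine ⟨fun h => ?_, fun h => ?_, fun h => ?_, fun h => ?_, fun h => ?_, fun h => ?_, fun h => ?_, fun h => ?_⟩
  · have := D.ind 1 (by norm_num) 0 (by norm_num) 0 (by norm_num) 0 (by norm_num) (by simpa using h)
    simp at this
  · have := D.ind 0 (by norm_num) 1 (by norm_num) 0 (by norm_num) 0 (by norm_num) (by simpa using h)
    simp at this
  · have := D.ind 0 (by norm_num) 0 (by norm_num) 1 (by norm_num) 0 (by norm_num) (by simpa using h)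
    simp at this
  · have := D.ind 1 (by norm_num) 1 (by norm_num) 0 (by norm_num) 0 (by norm_num) (by simpa using h)
    simp at this
  · have := D.ind 1 (by norm_num) 0 (by norm_num) 1 (by norm_num) 0 (by norm_num) (by simpa using h)
    simp at this
  · have := D.ind 0 (by norm_num) 1 (by norm_num) 1 (by norm_num) 0 (by norm_num) (by simpa using h)
    simp at this
  · have := D.ind 1 (by norm_num) 1 (by norm_num) 1 (by norm_num) 0 (by norm_num) (by simpa using h)
    simp at this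
  · have := D.ind 1 (by norm_num) 1 (by norm_num) 1 (by norm_num) 1 (by norm_num) (by simpa using h)
    simp at this

/-- `z` is not a square -/
theorem nsq (C : Cv π z) (D : XD e1 e2 e3 e4 v1 v2) (k : K) : k * k ≠ z := by
  intro hk
  have hk1 : π k ≠ 1 := by
    intro h
    rcases (C.ker k).1 h with rfl | rfl
    · exact C.z1 (by rw [← hk, one_mul])
    · exact C.z1 (by rw [← hk, C.zz])
  have hkk : π k * π k = 1 := by rw [← map_mul, hk, C.pz]
  have key : ∀ l : K, π l * π l = 1 → π l ≠ 1 → l * l = z := by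
    intro l h1 h2
    obtain ⟨x, hx⟩ := D.one _ _ hkk hk1 h1 h2
    obtain ⟨g, rfl⟩ := C.surj x
    have h3 : g * k * g⁻¹ * (g * k * g⁻¹) = z := by
      calc g * k * g⁻¹ * (g * k * g⁻¹) = g * (k * k) * g⁻¹ := by group
        _ = g * z * g⁻¹ := by rw [hk]
        _ = z := by rw [C.zc, mul_inv_cancel_right]
    rcases C.eq_or (k := l) (l := g * k * g⁻¹) (by rw [map_mul, map_mul, map_inv, hx]) with rfl | rfl
    · exact h3
    · rw [C.mulz, h3]
  obtain ⟨h1, h2, h3, h12, h13, h23, h123, -⟩ := D.e_ne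
  obtain ⟨x, hx⟩ := C.surj e1
  obtain ⟨y, hy⟩ := C.surj e2
  obtain ⟨w, hw⟩ := C.surj e3
  have sq2 : ∀ {a b : X}, a * a = 1 → b * b = 1 → a * b = b * a → a * b * (a * b) = 1 := by
    intro a b ha hb hab
    calc a * b * (a * b) = a * (b * a) * b := by group
      _ = a * (a * b) * b := by rw [hab]
      _ = (a * a) * (b * b) := by group
      _ = 1 := by rw [ha, hb, one_mul]
  have xx : x * x = z := key x (by rw [hx]; exact D.ee1) (by rw [hx]; exact h1)
  have yy : y * y = z := key y (by rw [hy]; exact D.ee2) (by rw [hy]; exact h2)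
  have ww : w * w = z := key w (by rw [hw]; exact D.ee3) (by rw [hw]; exact h3)
  have xy := key (x * y) (by rw [map_mul, hx, hy]; exact sq2 D.ee1 D.ee2 D.c12) (by rw [map_mul, hx, hy]; exact h12)
  have xw := key (x * w) (by rw [map_mul, hx, hw]; exact sq2 D.ee1 D.ee3 D.c13) (by rw [map_mul, hx, hw]; exact h13)
  have yw := key (y * w) (by rw [map_mul, hy, hw]; exact sq2 D.ee2 D.ee3 D.c23) (by rw [map_mul, hy, hw]; exact h23)
  have c123 : e1 * (e2 * e3) = e2 * e3 * e1 := by
    rw [← mul_assoc, D.c12, mul_assoc, D.c13, ← mul_assoc]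
  have xyw := key (x * (y * w)) (by
    rw [map_mul, map_mul, hx, hy, hw]
    exact sq2 D.ee1 (sq2 D.ee2 D.ee3 D.c23) c123) (by
    rw [map_mul, map_mul, hx, hy, hw, ← mul_assoc]; exact h123)
  have a1 := anti C xx yy xy
  have a2 := anti C xx ww xw
  have a3 := anti C xx yw xyw
  apply C.z1
  have h4 : y * w * x = x * (y * w) := by
    calc y * w * x = y * (w * x) := by group
      _ = y * (x * w * z) := by rw [a2]
      _ = y * x * w * z := by group
      _ = x * y * z * w * z := by rw [a1]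
      _ = x * y * z * (w * z) := by group
      _ = x * y * w := C.mulz _ _
      _ = _ := by group
  rw [h4] at a3
  exact (mul_eq_left.1 a3.symm)

theorem sq_one (C : Cv π z) (D : XD e1 e2 e3 e4 v1 v2) {k : K} (h : π k * π k = 1) : k * k = 1 := by
  rcases (C.ker (k * k)).1 (by rw [map_mul, h]) with h1 | h1
  · exact h1
  · exact absurd h1 (nsq C D k)

theorem comm (C : Cv π z) (D : XD e1 e2 e3 e4 v1 v2) {k l : K} (hk : π k * π k = 1) (hl : π l * π l = 1)
    (h : π k * π l = π l * π k) : k * l = l * k := by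
  have h1 := sq_one C D hk
  have h2 := sq_one C D hl
  have h3 : k * l * (k * l) = 1 := by
    apply sq_one C D
    rw [map_mul]
    calc π k * π l * (π k * π l) = π k * (π l * π k) * π l := by group
      _ = π k * (π k * π l) * π l := by rw [h]
      _ = (π k * π k) * (π l * π l) := by group
      _ = 1 := by rw [hk, hl, one_mul]
  calc k * l = k * (k * l * (k * l)) * l := by rw [h3, mul_one]
    _ = (k * k) * (l * k) * (l * l) := by group
    _ = l * k := by rw [h1, h2, one_mul, mul_one]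

/-- `f` is not conjugate to `f z` -/
theorem not_conj (C : Cv π z) (D : XD e1 e2 e3 e4 v1 v2) {f : K} (hf : π f * π f = 1) (hf1 : π f ≠ 1) (k : K) :
    k * f * k⁻¹ ≠ f * z := by
  intro hk
  obtain ⟨-, -, -, -, -, -, -, hc1⟩ := D.e_ne
  -- the central involution
  set c : X := e1 * e2 * e3 * e4 with hc
  have m12 : e1 * e2 * (e3 * e4) = c := by rw [hc]; group
  have s12 : e1 * e2 * (e1 * e2) = 1 := by
    calc e1 * e2 * (e1 * e2) = e1 * (e2 * e1) * e2 := by group
      _ = e1 * (e1 * e2) * e2 := by rw [D.c12]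
      _ = (e1 * e1) * (e2 * e2) := by group
      _ = 1 := by rw [D.ee1, D.ee2, one_mul]
  have s34 : e3 * e4 * (e3 * e4) = 1 := by
    calc e3 * e4 * (e3 * e4) = e3 * (e4 * e3) * e4 := by group
      _ = e3 * (e3 * e4) * e4 := by rw [D.c34]
      _ = (e3 * e3) * (e4 * e4) := by group
      _ = 1 := by rw [D.ee3, D.ee4, one_mul]
  have C12 : Commute e1 e2 := D.c12
  have C13 : Commute e1 e3 := D.c13
  have C14 : Commute e1 e4 := D.c14
  have C23 : Commute e2 e3 := D.c23
  have C24 : Commute e2 e4 := D.c24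
  have C34 : Commute e3 e4 := D.c34
  have c1 : Commute e1 c := (((Commute.refl e1).mul_right C12).mul_right C13).mul_right C14
  have c2 : Commute e2 c := ((C12.symm.mul_right (Commute.refl e2)).mul_right C23).mul_right C24
  have c3 : Commute e3 c := ((C13.symm.mul_right C23.symm).mul_right (Commute.refl e3)).mul_right C34
  have c4 : Commute e4 c := ((C14.symm.mul_right C24.symm).mul_right C34.symm).mul_right (Commute.refl e4)
  have cc : c * c = 1 := by
    rw [← m12]
    calc e1 * e2 * (e3 * e4) * (e1 * e2 * (e3 * e4)) = e1 * e2 * ((e3 * e4) * (e1 * e2)) * (e3 * e4) := by group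
      _ = e1 * e2 * ((e1 * e2) * (e3 * e4)) * (e3 * e4) := by
        rw [((C13.mul_left C23).mul_right (C14.mul_left C24)).eq]
      _ = (e1 * e2 * (e1 * e2)) * (e3 * e4 * (e3 * e4)) := by group
      _ = 1 := by rw [s12, s34, one_mul]
  have conj2 : ∀ v a b : X, v * v = 1 → v * a * v⁻¹ = b → v * b * v⁻¹ = a := by
    intro v a b hv h
    rw [← h]
    calc v * (v * a * v⁻¹) * v⁻¹ = (v * v) * a * (v * v)⁻¹ := by group
      _ = a := by rw [hv]; group
  have v1e2 := conj2 _ _ _ D.vv1 D.v1e1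
  have v1e4 := conj2 _ _ _ D.vv1 D.v1e3
  have v2e3 := conj2 _ _ _ D.vv2 D.v2e1
  have cv1 : v1 * c * v1⁻¹ = c := by
    calc v1 * c * v1⁻¹ = (v1 * e1 * v1⁻¹) * (v1 * e2 * v1⁻¹) * (v1 * e3 * v1⁻¹) * (v1 * e4 * v1⁻¹) := by
          rw [hc]; group
      _ = e2 * e1 * e4 * e3 := by rw [D.v1e1, v1e2, D.v1e3, v1e4]
      _ = e1 * e2 * (e3 * e4) := by rw [← D.c12, mul_assoc (e1 * e2), ← D.c34]
      _ = c := m12
  have cv2 : v2 * c * v2⁻¹ = c := by
    calc v2 * c * v2⁻¹ = (v2 * e1 * v2⁻¹) * (v2 * e2 * v2⁻¹) * (v2 * e3 * v2⁻¹) * (v2 * e4 * v2⁻¹) := by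
          rw [hc]; group
      _ = e3 * (e1 * e3 * e4) * e1 * (e1 * e3 * e2) := by rw [D.v2e1, D.v2e2, v2e3, D.v2e4]
      _ = e3 * e1 * e3 * e4 * (e1 * e1) * e3 * e2 := by group
      _ = e3 * e1 * e3 * (e4 * e3) * e2 := by rw [D.ee1]; group
      _ = e3 * e1 * e3 * (e3 * e4) * e2 := by rw [D.c34]
      _ = e3 * e1 * (e3 * e3) * (e4 * e2) := by group
      _ = (e3 * e1) * (e2 * e4) := by rw [D.ee3, mul_one, ← D.c24]
      _ = (e1 * e3) * (e2 * e4) := by rw [D.c13]
      _ = e1 * (e3 * e2) * e4 := by group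
      _ = e1 * (e2 * e3) * e4 := by rw [D.c23]
      _ = c := by rw [hc]; group
  -- `f` over `c`
  obtain ⟨x, hx⟩ := D.one _ _ hf hf1 cc hc1
  obtain ⟨g, rfl⟩ := C.surj x
  set f' := g * f * g⁻¹ with hf'
  have hpf' : π f' = c := by rw [hf', map_mul, map_mul, map_inv, hx]
  set k' := g * k * g⁻¹ with hk'
  have hk2 : k' * f' * k'⁻¹ = f' * z := by
    calc k' * f' * k'⁻¹ = g * (k * f * k⁻¹) * g⁻¹ := by rw [hk', hf']; group
      _ = g * (f * z) * g⁻¹ := by rw [hk]
      _ = f' * z := C.conjz g f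
  -- the subgroup of the elements whose lifts commute with `f'`
  let A : Subgroup X :=
    { carrier := {y | ∀ l, π l = y → l * f' = f' * l}
      one_mem' := by
        intro l hl
        rcases (C.ker l).1 hl with rfl | rfl
        · simp
        · exact (C.zc f').symm
      mul_mem' := by
        intro y y' hy hy' l hl
        obtain ⟨a, ha⟩ := C.surj y
        obtain ⟨b, hb⟩ := C.surj y'
        have h1 := hy a ha
        have h2 := hy' b hb
        have h3 : a * b * f' = f' * (a * b) := by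
          rw [mul_assoc, h2, ← mul_assoc, h1, mul_assoc]
        rcases C.eq_or (k := l) (l := a * b) (by rw [hl, map_mul, ha, hb]) with rfl | rfl
        · exact h3
        · calc a * b * z * f' = a * b * (z * f') := by group
            _ = a * b * (f' * z) := by rw [C.zc]
            _ = a * b * f' * z := by group
            _ = f' * (a * b) * z := by rw [h3]
            _ = _ := by group
      inv_mem' := by
        intro y hy l hl
        have h1 := hy l⁻¹ (by rw [map_inv, hl, inv_inv])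
        calc l * f' = l * (f' * l⁻¹) * l := by group
          _ = l * (l⁻¹ * f') * l := by rw [h1]
          _ = f' * l := by group }
  have hA : ∀ y, y ∈ A ↔ ∀ l, π l = y → l * f' = f' * l := fun _ => Iff.rfl
  have hinv : ∀ y : X, y * y = 1 → y * c = c * y → y ∈ A := by
    intro y hy hyc l hl
    exact comm C D (by rw [hl]; exact hy) (by rw [hpf']; exact cc) (by rw [hl, hpf']; exact hyc)
  have hcl : closure ({e1, e2, e3, e4, v1, v2} : Set X) ≤ A := by
    rw [closure_le]
    intro y hy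
    simp only [Set.mem_insert_iff, Set.mem_singleton_iff] at hy
    rcases hy with rfl | rfl | rfl | rfl | rfl | rfl
    · exact hinv _ D.ee1 c1.eq
    · exact hinv _ D.ee2 c2.eq
    · exact hinv _ D.ee3 c3.eq
    · exact hinv _ D.ee4 c4.eq
    · exact hinv _ D.vv1 (mul_inv_eq_iff_eq_mul.1 cv1)
    · exact hinv _ D.vv2 (mul_inv_eq_iff_eq_mul.1 cv2)
  have hAodd : Odd A.index := Odd.of_dvd_nat D.odd (Subgroup.index_dvd_of_le hcl)
  set B : Subgroup X := centralizer ({c} : Set X) with hB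
  have hAB : A ≤ B := by
    intro y hy
    rw [hB, mem_centralizer_singleton_iff]
    obtain ⟨l, rfl⟩ := C.surj y
    have h1 := hy l rfl
    rw [← hpf', ← map_mul, ← map_mul, h1]
  have hkB : π k' ∈ B := by
    rw [hB, mem_centralizer_singleton_iff, ← hpf']
    have h1 : k' * f' = f' * z * k' := mul_inv_eq_iff_eq_mul.1 hk2
    rw [← map_mul, h1, map_mul, map_mul, C.pz, mul_one]
  have hkA : π k' ∉ A := by
    intro h
    have h1 := h k' rfl
    rw [← mul_inv_eq_iff_eq_mul, hk2] at h1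
    exact C.ne_mulz _ h1
  -- the index is 2
  have h2 : A.relIndex B = 2 := by
    rw [relIndex_eq_two_iff]
    refine ⟨π k', hkB, fun b hb => ?_⟩
    obtain ⟨l, rfl⟩ := C.surj b
    have hbc : π l * π f' = π f' * π l := by
      rw [hB, mem_centralizer_singleton_iff] at hb
      rw [hpf', hb]
    have hcase := C.conj_or hbc
    have hmem : ∀ m : K, m * f' * m⁻¹ = f' → π m ∈ A := by
      intro m hm n hn
      have hm' : m * f' = f' * m := mul_inv_eq_iff_eq_mul.1 hm
      rcases C.eq_or (k := n) (l := m) hn with rfl | rfl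
      · exact hm'
      · calc m * z * f' = m * (z * f') := by group
          _ = m * (f' * z) := by rw [C.zc]
          _ = m * f' * z := by group
          _ = f' * m * z := by rw [hm']
          _ = _ := by group
    have hnmem : ∀ m : K, m * f' * m⁻¹ = f' * z → π m ∉ A := by
      intro m hm h
      have h1 := h m rfl
      rw [← mul_inv_eq_iff_eq_mul, hm] at h1
      exact C.ne_mulz _ h1
    have hprod : ∀ y, l * f' * l⁻¹ = y → (l * k') * f' * (l * k')⁻¹ = y * z := by
      intro y hy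
      calc (l * k') * f' * (l * k')⁻¹ = l * (k' * f' * k'⁻¹) * l⁻¹ := by group
        _ = l * (f' * z) * l⁻¹ := by rw [hk2]
        _ = l * f' * l⁻¹ * z := C.conjz l f'
        _ = y * z := by rw [hy]
    rw [← map_mul]
    rcases hcase with h3 | h3
    · right
      exact ⟨hmem l h3, hnmem _ (hprod _ h3)⟩
    · left
      refine ⟨hmem _ ?_, hnmem l h3⟩
      rw [hprod _ h3, mul_assoc, C.zz, mul_one]
  have h3 := Subgroup.relIndex_mul_index hAB
  rw [h2] at h3
  rw [← h3] at hAodd
  exact (Nat.not_odd_iff_even.mpr (even_two_mul _)) hAodd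

end

end Cfsg.Agent.OddHalf.D9.M22.TwoCov
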