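import Cfsg.Agent.OddHalf.D9.M22.RowTwo
import Cfsg.Agent.OddHalf.D9.M22.PDataM22

/-!
# D9: the row `2.M22`, closed
-/

set_option autoImplicit false

namespace Cfsg.Agent.OddHalf.D9.M22.TwoRow

open Subgroup Cfsg

universe u

/-- the row `m22` of `Cut.Rows` -/
theorem m22 : Cut.Row.{u} (fun K _ => Cut.Two (fun X _ => Spor.IsoM22 X) K) :=
  RowTwo.row PDataM22.exists_pdata

end Cfsg.Agent.OddHalf.D9.M22.TwoRow
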