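import Mathlib
import Cfsg.Agent.OddHalf.D9.M22.TwoCov

/-!
# Perfect double covers: the splitting argument (helper278)

`split_false` : in a perfect double cover the lifts of `e₁, .., e₄, v₁, v₂` do not satisfy the relations of the group
generated by `e₁, .., e₄, v₁, v₂`.
-/

set_option autoImplicit false

namespace Cfsg.Agent.OddHalf.D9.M22.TwoSplit

open Subgroup TwoCov
open scoped Pointwise

universe u v

/-- the transfer argument -/
theorem transfer_false {K : Type u} [Group K] [Finite K] (hperf : commutator K = ⊤) {P L : Subgroup K} {r : K}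
    (hc : ∀ k, r * k = k * r) (hodd : Odd P.index) (hrP : r ∈ P) (hrL : r ∉ L) (hrr : r * r ∈ L)
    (hcov : ∀ p ∈ P, p ∈ L ∨ p * r ∈ L) : False := by
  classical
  have key : ∀ p ∈ P, p ∉ L → ∀ q ∈ P, (p * q ∈ L ↔ q ∉ L) := by
    intro p hp hpL q hq
    have hpr : p * r ∈ L := (hcov p hp).resolve_left hpL
    constructor
    · intro h1 h2
      exact hpL ((L.mul_mem_cancel_right h2).1 h1)
    · intro h1
      have hqr : q * r ∈ L := (hcov q hq).resolve_left h1
      have h2 := L.mul_mem hpr hqr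
      have h3 : p * r * (q * r) = p * q * (r * r) := by
        calc p * r * (q * r) = p * (r * q) * r := by group
          _ = p * (q * r) * r := by rw [hc]
          _ = p * q * (r * r) := by group
      rw [h3] at h2
      exact (L.mul_mem_cancel_right hrr).1 h2
  obtain ⟨φ, hφ⟩ : ∃ φ : ↥P →* ℤˣ, ∀ p, φ p = if (p : K) ∈ L then 1 else -1 := by
    refine ⟨MonoidHom.mk' (fun p => if (p : K) ∈ L then 1 else -1) ?_, fun _ => rfl⟩
    intro p q
    rw [Subgroup.coe_mul]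
    by_cases hp : (p : K) ∈ L
    · by_cases hq : (q : K) ∈ L
      · rw [if_pos hp, if_pos hq, if_pos (L.mul_mem hp hq), mul_one]
      · rw [if_pos hp, if_neg hq, if_neg (fun h => hq ((L.mul_mem_cancel_left hp).1 h)), one_mul]
    · by_cases hq : (q : K) ∈ L
      · rw [if_neg hp, if_pos hq, if_neg (fun h => hp ((L.mul_mem_cancel_right hq).1 h)), mul_one]
      · rw [if_neg hp, if_neg hq, if_pos ((key p p.2 hp q q.2).2 hq)]
        rfl
  have h1 : commutator K ≤ φ.transfer.ker := Abelianization.commutator_subset_ker _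
  rw [hperf] at h1
  have h2 : φ.transfer r = 1 := h1 (mem_top r)
  have hkey : ∀ (k : ℕ) (g₀ : K), g₀⁻¹ * r ^ k * g₀ ∈ P → g₀⁻¹ * r ^ k * g₀ = r ^ k := by
    intro k g₀ _
    have h3 : r ^ k * g₀ = g₀ * r ^ k := (Commute.pow_left (hc g₀) k).eq
    rw [mul_assoc, h3, inv_mul_cancel_left]
  rw [MonoidHom.transfer_eq_pow φ r hkey] at h2
  have h3 : φ ⟨r ^ P.index, MonoidHom.transfer_eq_pow_aux r hkey⟩ = φ ⟨r, hrP⟩ ^ P.index := by
    rw [← map_pow]
    rfl
  rw [h3, hφ, if_neg hrL, hodd.neg_one_pow] at h2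
  exact absurd h2 (by decide)

/-- elements of a group generated by two involutions -/
theorem mem_dihedral {G : Type*} [Group G] {a b : G} (ha : a * a = 1) (hb : b * b = 1)
    {n : ℕ} (hn : 0 < n) (hab : (a * b) ^ n = 1) {x : G} (hx : x ∈ closure ({a, b} : Set G)) :
    ∃ i : ℕ, x = (a * b) ^ i ∨ x = (a * b) ^ i * a := by
  have hai : a⁻¹ = a := inv_eq_of_mul_eq_one_left ha
  have hbi : b⁻¹ = b := inv_eq_of_mul_eq_one_left hb
  have h2 : b * a = (a * b) ^ (n - 1) := by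
    have h3 : (a * b) * (a * b) ^ (n - 1) = 1 := by
      rw [← pow_succ', Nat.sub_add_cancel hn, hab]
    have h4 : (a * b)⁻¹ = b * a := by rw [mul_inv_rev, hai, hbi]
    rw [← h4]
    exact inv_eq_of_mul_eq_one_right h3
  induction hx using closure_induction'' with
  | one => exact ⟨0, Or.inl (pow_zero _).symm⟩
  | mem x hx =>
    rcases hx with rfl | rfl
    · exact ⟨0, Or.inr (by simp)⟩
    · refine ⟨n - 1, Or.inr ?_⟩
      rw [← h2, mul_assoc, ha, mul_one]
  | inv_mem x hx =>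
    rcases hx with rfl | rfl
    · exact ⟨0, Or.inr (by rw [hai]; simp)⟩
    · refine ⟨n - 1, Or.inr ?_⟩
      rw [hbi, ← h2, mul_assoc, ha, mul_one]
  | mul x y _ _ hx hy =>
    obtain ⟨i, hi⟩ := hx
    obtain ⟨j, hj⟩ := hy
    have h5 : ∀ j : ℕ, a * (a * b) ^ j = ((a * b) ^ (n - 1)) ^ j * a := by
      intro j
      rw [← h2]
      induction j with
      | zero => simp
      | succ j ih =>
        calc a * (a * b) ^ (j + 1) = a * (a * b) ^ j * (a * b) := by rw [pow_succ]; group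
          _ = (b * a) ^ j * a * (a * b) := by rw [ih]
          _ = (b * a) ^ j * (a * a) * b := by group
          _ = (b * a) ^ j * b := by rw [ha, mul_one]
          _ = (b * a) ^ j * b * (a * a) := by rw [ha, mul_one]
          _ = (b * a) ^ (j + 1) * a := by rw [pow_succ (b * a)]; simp only [mul_assoc]
    rcases hi with rfl | rfl
    · rcases hj with rfl | rfl
      · exact ⟨i + j, Or.inl (pow_add _ _ _).symm⟩
      · exact ⟨i + j, Or.inr (by rw [pow_add, mul_assoc])⟩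
    · rcases hj with rfl | rfl
      · refine ⟨i + (n - 1) * j, Or.inr ?_⟩
        rw [mul_assoc, h5, ← pow_mul, pow_add, mul_assoc]
      · refine ⟨i + (n - 1) * j, Or.inl ?_⟩
        calc (a * b) ^ i * a * ((a * b) ^ j * a) = (a * b) ^ i * (a * (a * b) ^ j) * a := by group
          _ = (a * b) ^ i * (((a * b) ^ (n - 1)) ^ j * a) * a := by rw [h5]
          _ = (a * b) ^ i * ((a * b) ^ (n - 1)) ^ j * (a * a) := by group
          _ = (a * b) ^ (i + (n - 1) * j) := by rw [ha, mul_one, ← pow_mul, pow_add]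

section Four

variable {G : Type*} [Group G] {a1 a2 a3 a4 : G}

/-- products of powers of commuting elements -/
theorem four_mul (h12 : Commute a1 a2) (h13 : Commute a1 a3) (h14 : Commute a1 a4) (h23 : Commute a2 a3)
    (h24 : Commute a2 a4) (h34 : Commute a3 a4) (i j k l i' j' k' l' : ℕ) :
    a1 ^ i * a2 ^ j * a3 ^ k * a4 ^ l * (a1 ^ i' * a2 ^ j' * a3 ^ k' * a4 ^ l') =
      a1 ^ (i + i') * a2 ^ (j + j') * a3 ^ (k + k') * a4 ^ (l + l') := by
  have e14 : a4 ^ l * a1 ^ i' = a1 ^ i' * a4 ^ l := (h14.symm.pow_pow l i').eq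
  have e24 : a4 ^ l * a2 ^ j' = a2 ^ j' * a4 ^ l := (h24.symm.pow_pow l j').eq
  have e34 : a4 ^ l * a3 ^ k' = a3 ^ k' * a4 ^ l := (h34.symm.pow_pow l k').eq
  have e13 : a3 ^ k * a1 ^ i' = a1 ^ i' * a3 ^ k := (h13.symm.pow_pow k i').eq
  have e23 : a3 ^ k * a2 ^ j' = a2 ^ j' * a3 ^ k := (h23.symm.pow_pow k j').eq
  have e12 : a2 ^ j * a1 ^ i' = a1 ^ i' * a2 ^ j := (h12.symm.pow_pow j i').eq
  rw [pow_add, pow_add, pow_add, pow_add]
  calc a1 ^ i * a2 ^ j * a3 ^ k * a4 ^ l * (a1 ^ i' * a2 ^ j' * a3 ^ k' * a4 ^ l')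
      = a1 ^ i * a2 ^ j * a3 ^ k * (a4 ^ l * a1 ^ i') * a2 ^ j' * a3 ^ k' * a4 ^ l' := by group
    _ = a1 ^ i * a2 ^ j * (a3 ^ k * a1 ^ i') * (a4 ^ l * a2 ^ j') * a3 ^ k' * a4 ^ l' := by rw [e14]; group
    _ = a1 ^ i * (a2 ^ j * a1 ^ i') * (a3 ^ k * a2 ^ j') * (a4 ^ l * a3 ^ k') * a4 ^ l' := by
      rw [e13, e24]; group
    _ = _ := by rw [e12, e23, e34]; group

theorem pow_mod_two {a : G} (h : a * a = 1) (n : ℕ) : a ^ n = a ^ (n % 2) := by
  conv_lhs => rw [← Nat.div_add_mod n 2, pow_add, pow_mul, pow_two, h, one_pow, one_mul]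

/-- the subgroup generated by four commuting involutions -/
theorem mem_four (h12 : Commute a1 a2) (h13 : Commute a1 a3) (h14 : Commute a1 a4) (h23 : Commute a2 a3)
    (h24 : Commute a2 a4) (h34 : Commute a3 a4) (q1 : a1 * a1 = 1) (q2 : a2 * a2 = 1) (q3 : a3 * a3 = 1)
    (q4 : a4 * a4 = 1) {x : G} (hx : x ∈ closure ({a1, a2, a3, a4} : Set G)) :
    ∃ i < 2, ∃ j < 2, ∃ k < 2, ∃ l < 2, x = a1 ^ i * a2 ^ j * a3 ^ k * a4 ^ l := by
  have key : ∃ i j k l : ℕ, x = a1 ^ i * a2 ^ j * a3 ^ k * a4 ^ l := by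
    have hinv : ∀ {a : G}, a * a = 1 → a⁻¹ = a := fun h => inv_eq_of_mul_eq_one_left h
    induction hx using closure_induction'' with
    | one => exact ⟨0, 0, 0, 0, by simp⟩
    | mem x hx =>
      simp only [Set.mem_insert_iff, Set.mem_singleton_iff] at hx
      rcases hx with rfl | rfl | rfl | rfl
      · exact ⟨1, 0, 0, 0, by simp⟩
      · exact ⟨0, 1, 0, 0, by simp⟩
      · exact ⟨0, 0, 1, 0, by simp⟩
      · exact ⟨0, 0, 0, 1, by simp⟩
    | inv_mem x hx =>
      simp only [Set.mem_insert_iff, Set.mem_singleton_iff] at hx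
      rcases hx with rfl | rfl | rfl | rfl
      · exact ⟨1, 0, 0, 0, by simp [hinv q1]⟩
      · exact ⟨0, 1, 0, 0, by simp [hinv q2]⟩
      · exact ⟨0, 0, 1, 0, by simp [hinv q3]⟩
      · exact ⟨0, 0, 0, 1, by simp [hinv q4]⟩
    | mul x y _ _ hx hy =>
      obtain ⟨i, j, k, l, rfl⟩ := hx
      obtain ⟨i', j', k', l', rfl⟩ := hy
      exact ⟨_, _, _, _, four_mul h12 h13 h14 h23 h24 h34 _ _ _ _ _ _ _ _⟩
  obtain ⟨i, j, k, l, rfl⟩ := key
  refine ⟨i % 2, Nat.mod_lt _ (by norm_num), j % 2, Nat.mod_lt _ (by norm_num), k % 2, Nat.mod_lt _ (by norm_num),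
    l % 2, Nat.mod_lt _ (by norm_num), ?_⟩
  rw [← pow_mod_two q1, ← pow_mod_two q2, ← pow_mod_two q3, ← pow_mod_two q4]

end Four

variable {K : Type u} {X : Type v} [Group K] [Group X] {π : K →* X} {z : K} {e1 e2 e3 e4 v1 v2 : X}

/-- **The splitting argument.** -/
theorem split_false [Finite K] (C : Cv π z) (D : XD e1 e2 e3 e4 v1 v2) {a1 a2 a3 a4 u1 u2 : K}
    (p1 : π a1 = e1) (p2 : π a2 = e2) (p3 : π a3 = e3) (p4 : π a4 = e4) (q1 : π u1 = v1) (q2 : π u2 = v2)
    (r1 : u1 * a1 * u1⁻¹ = a2) (r2 : u1 * a3 * u1⁻¹ = a4) (r3 : u2 * a1 * u2⁻¹ = a3)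
    (r4 : u2 * a2 * u2⁻¹ = a1 * a3 * a4) (r5 : u2 * a4 * u2⁻¹ = a1 * a3 * a2) : False := by
  have s1 : a1 * a1 = 1 := sq_one C D (by rw [p1]; exact D.ee1)
  have s2 : a2 * a2 = 1 := sq_one C D (by rw [p2]; exact D.ee2)
  have s3 : a3 * a3 = 1 := sq_one C D (by rw [p3]; exact D.ee3)
  have s4 : a4 * a4 = 1 := sq_one C D (by rw [p4]; exact D.ee4)
  have t1 : u1 * u1 = 1 := sq_one C D (by rw [q1]; exact D.vv1)
  have t2 : u2 * u2 = 1 := sq_one C D (by rw [q2]; exact D.vv2)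
  have h12 : Commute a1 a2 := comm C D (by rw [p1]; exact D.ee1) (by rw [p2]; exact D.ee2) (by rw [p1, p2]; exact D.c12)
  have h13 : Commute a1 a3 := comm C D (by rw [p1]; exact D.ee1) (by rw [p3]; exact D.ee3) (by rw [p1, p3]; exact D.c13)
  have h14 : Commute a1 a4 := comm C D (by rw [p1]; exact D.ee1) (by rw [p4]; exact D.ee4) (by rw [p1, p4]; exact D.c14)
  have h23 : Commute a2 a3 := comm C D (by rw [p2]; exact D.ee2) (by rw [p3]; exact D.ee3) (by rw [p2, p3]; exact D.c23)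
  have h24 : Commute a2 a4 := comm C D (by rw [p2]; exact D.ee2) (by rw [p4]; exact D.ee4) (by rw [p2, p4]; exact D.c24)
  have h34 : Commute a3 a4 := comm C D (by rw [p3]; exact D.ee3) (by rw [p4]; exact D.ee4) (by rw [p3, p4]; exact D.c34)
  have t4 : (u1 * u2) ^ 4 = 1 := by
    have h1 : (u1 * u2) ^ 4 = (u1 * u2) ^ 2 * (u1 * u2) ^ 2 := by rw [← pow_add]
    rw [h1]
    apply sq_one C D
    rw [← map_mul, ← pow_add, map_pow, map_mul, q1, q2]
    exact D.v4
  set F : Subgroup K := closure ({a1, a2, a3, a4} : Set K) with hF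
  have f1 : a1 ∈ F := subset_closure (by simp)
  have f2 : a2 ∈ F := subset_closure (by simp)
  have f3 : a3 ∈ F := subset_closure (by simp)
  have f4 : a4 ∈ F := subset_closure (by simp)
  have hFm : ∀ x ∈ F, ∃ i < 2, ∃ j < 2, ∃ k < 2, ∃ l < 2, x = a1 ^ i * a2 ^ j * a3 ^ k * a4 ^ l :=
    fun x hx => mem_four h12 h13 h14 h23 h24 h34 s1 s2 s3 s4 hx
  have conj2 : ∀ v a b : K, v * v = 1 → v * a * v⁻¹ = b → v * b * v⁻¹ = a := by
    intro v a b hv h
    rw [← h]
    calc v * (v * a * v⁻¹) * v⁻¹ = (v * v) * a * (v * v)⁻¹ := by group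
      _ = a := by rw [hv]; group
  -- `u ∈ {u₁, u₂}` normalizes `F`
  have hnorm : ∀ u : K, u * u = 1 → u * a1 * u⁻¹ ∈ F → u * a2 * u⁻¹ ∈ F → u * a3 * u⁻¹ ∈ F → u * a4 * u⁻¹ ∈ F →
      u ∈ normalizer (F : Set K) := by
    intro u hu g1 g2 g3 g4
    have h1 : ∀ x ∈ F, u * x * u⁻¹ ∈ F := by
      intro x hx
      have h2 : F ≤ F.comap (MulAut.conj u).toMonoidHom := by
        rw [hF, closure_le, ← hF]
        intro y hy
        simp only [Set.mem_insert_iff, Set.mem_singleton_iff] at hy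
        rcases hy with rfl | rfl | rfl | rfl
        · exact g1
        · exact g2
        · exact g3
        · exact g4
      exact h2 hx
    rw [mem_normalizer_iff]
    intro x
    refine ⟨h1 x, fun hx => ?_⟩
    have h2 := h1 _ hx
    have h3 : u * (u * x * u⁻¹) * u⁻¹ = (u * u) * x * (u * u)⁻¹ := by group
    rw [h3, hu] at h2
    simpa using h2
  have n1 : u1 ∈ normalizer (F : Set K) := by
    refine hnorm u1 t1 ?_ ?_ ?_ ?_
    · rw [r1]; exact f2
    · rw [conj2 _ _ _ t1 r1]; exact f1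
    · rw [r2]; exact f4
    · rw [conj2 _ _ _ t1 r2]; exact f3
  have n2 : u2 ∈ normalizer (F : Set K) := by
    refine hnorm u2 t2 ?_ ?_ ?_ ?_
    · rw [r3]; exact f3
    · rw [r4]; exact mul_mem (mul_mem f1 f3) f4
    · rw [conj2 _ _ _ t2 r3]; exact f1
    · rw [r5]; exact mul_mem (mul_mem f1 f3) f2
  set Q : Subgroup K := closure ({u1, u2} : Set K) with hQ
  have hQn : Q ≤ normalizer (F : Set K) := by
    rw [hQ, closure_le]
    rintro x (rfl | rfl)
    · exact n1
    · exact n2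
  have hsup : ∀ x, x ∈ F ⊔ Q ↔ ∃ f ∈ F, ∃ q ∈ Q, x = f * q := by
    intro x
    rw [← SetLike.mem_coe, coe_mul_of_right_le_normalizer_left F Q hQn, Set.mem_mul]
    constructor
    · rintro ⟨f, hf, q, hq, rfl⟩
      exact ⟨f, hf, q, hq, rfl⟩
    · rintro ⟨f, hf, q, hq, rfl⟩
      exact ⟨f, hf, q, hq, rfl⟩
  have pF : ∀ i j k l : ℕ, π (a1 ^ i * a2 ^ j * a3 ^ k * a4 ^ l) = e1 ^ i * e2 ^ j * e3 ^ k * e4 ^ l := by
    intro i j k l
    rw [map_mul, map_mul, map_mul, map_pow, map_pow, map_pow, map_pow, p1, p2, p3, p4]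
  -- `z ∉ L`
  have hz : z ∉ F ⊔ Q := by
    intro h
    obtain ⟨f, hf, q, hq, hzfq⟩ := (hsup z).1 h
    have hfq : π f * π q = 1 := by rw [← map_mul, ← hzfq, C.pz]
    have hqi : π q⁻¹ = π f := by rw [map_inv]; exact (mul_eq_one_iff_eq_inv.1 hfq).symm
    obtain ⟨i, hi, j, hj, k, hk, l, hl, hfe⟩ := hFm f hf
    obtain ⟨n, hn⟩ := mem_dihedral t1 t2 (by norm_num) t4 (inv_mem hq)
    have hmod : (u1 * u2) ^ n = (u1 * u2) ^ (n % 4) := by
      conv_lhs => rw [← Nat.div_add_mod n 4, pow_add, pow_mul, t4, one_pow, one_mul]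
    have hlt : n % 4 < 4 := Nat.mod_lt _ (by norm_num)
    rw [hmod] at hn
    have hq1 : q = 1 := by
      rcases hn with hn | hn
      · have h1 := D.rot (n % 4) hlt i hi j hj k hk l hl (by
          rw [← pF, ← hfe, ← hqi, hn, map_pow, map_mul, q1, q2])
        rw [h1, pow_zero] at hn
        exact inv_eq_one.1 hn
      · exfalso
        apply D.refl (n % 4) hlt i hi j hj k hk l hl
        rw [← pF, ← hfe, ← hqi, hn, map_mul, map_pow, map_mul, q1, q2]
    rw [hq1, mul_one] at hzfq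
    have h1 := D.ind i hi j hj k hk l hl (by rw [← pF, ← hfe, ← hzfq, C.pz])
    obtain ⟨rfl, rfl, rfl, rfl⟩ := h1
    apply C.z1
    rw [hzfq, hfe]
    simp
  -- transfer
  have hmap : (F ⊔ Q).map π = closure ({e1, e2, e3, e4, v1, v2} : Set X) := by
    rw [Subgroup.map_sup, hF, hQ, MonoidHom.map_closure, MonoidHom.map_closure, ← Subgroup.closure_union]
    congr 1
    rw [Set.image_insert_eq, Set.image_insert_eq, Set.image_insert_eq, Set.image_singleton, Set.image_insert_eq,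
      Set.image_singleton, p1, p2, p3, p4, q1, q2]
    ext x
    simp only [Set.mem_union, Set.mem_insert_iff, Set.mem_singleton_iff]
    tauto
  refine transfer_false C.perf (P := (closure ({e1, e2, e3, e4, v1, v2} : Set X)).comap π) (L := F ⊔ Q) (r := z)
    (fun k => (C.zc k).symm) ?_ ?_ hz ?_ ?_
  · rw [Subgroup.index_comap_of_surjective _ C.surj]
    exact D.odd
  · rw [mem_comap, C.pz]
    exact one_mem _
  · rw [C.zz]
    exact one_mem _
  · intro p hp
    rw [mem_comap, ← hmap] at hp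
    obtain ⟨l, hl, hlp⟩ := hp
    rcases C.eq_or (k := p) (l := l) hlp.symm with rfl | rfl
    · exact Or.inl hl
    · right
      rw [mul_assoc, C.zz, mul_one]
      exact hl

end Cfsg.Agent.OddHalf.D9.M22.TwoSplit
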