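import Cfsg.Agent.OddHalf.D9.M22.EDataM22
import Cfsg.Agent.OddHalf.D9.M22.DataU

/-!
# `C(zP)` maps `aP` to `aP` or `aP zP` (fact (U) for `2.M22`) (helper278)

* `map_a` : every `g ∈ C(zP)` in `M22` conjugates `aP` to `aP` or `aP zP`;
* `odd_comm` : the elements of odd order of `C(zP)` commute with `aP`;
* `autD` : the automorphism of `M22` induced by an element of `D22`;
* `fixv`, `fix2`, `line`, `tran`, `eight`, `cent` : the fields of `CovPair.PData`.
-/

set_option autoImplicit false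
set_option Elab.async false

namespace Cfsg.Agent.OddHalf.D9.M22.UFact

open Cfsg Cfsg.Agent.SporadicA.GolayBase Cfsg.Agent.SporadicA.GolayPerm
open Cfsg.Agent.SporadicStructure.M24El Cfsg.Agent.KFacts.MM
open Cfsg.Agent.KFacts.MM.El (pm pr ev val weq okl pts)
open Cfsg.Agent.KFacts.MM.Data (WL zP kW)
open Cfsg.Agent.OddHalf.D9.M22.Data (aP bP)
open Cfsg.Agent.OddHalf.D9.M22.DataU (R1 R2 R3 nL)
open Cfsg.Agent.J4Type.Aut22 (D22)
open Cfsg.Agent.KFacts.MM.InvM22 (isPerm_of_ok)
open Cfsg.Agent.OddHalf.D9.M22 Cfsg.Agent.OddHalf.D9.M22.EDataM22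
open Cfsg.Agent.SporadicA.M24Frames (Adm smul_mem_octads O0 O0_mem eq_of_eq_on)
open scoped Pointwise

theorem okl_four {P Q R S : ℕ} (hP : isPerm P = true) (hQ : isPerm Q = true) (hR : isPerm R = true)
    (hS : isPerm S = true) : okl [P, Q, R, S] = true := by
  unfold El.okl
  rw [List.all_cons, List.all_cons, List.all_cons, List.all_cons, List.all_nil, hP, hQ, hR, hS]
  rfl

theorem eq_of_val {a : Fin 7 → GolayPt} (ha : Adm a) {g h : Equiv.Perm GolayPt} (hg : g ∈ M24)
    (hh : h ∈ M24) (H : ∀ i, val g (idx (a i)) = val h (idx (a i))) : g = h := by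
  apply eq_of_eq_on ha hg hh
  intro i
  have h1 := H i
  unfold El.val at h1
  rw [pt_idx] at h1
  exact idx_injective h1

theorem M22_le24 {g : Equiv.Perm GolayPt} (h : g ∈ Spor.M22) : g ∈ M24 :=
  ((SporadicA.MathieuRecog.mem_M22_iff _).1 h).1

theorem val23 {g : Equiv.Perm GolayPt} (h : g ∈ Spor.M22) : val g 23 = 23 := by
  have h1 := ((SporadicA.MathieuRecog.mem_M22_iff _).1 h).2.1
  show idx (g none) = 23
  rw [h1]
  rfl

theorem val0 {g : Equiv.Perm GolayPt} (h : g ∈ Spor.M22) : val g 0 = 0 := by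
  have h1 := ((SporadicA.MathieuRecog.mem_M22_iff _).1 h).2.2
  show idx (g (some 0)) = 0
  rw [h1]
  rfl

theorem isPerm_z : isPerm zP = true := isPerm_of_ok InvM22.ok_z
theorem isPerm_a : isPerm aP = true := isPerm_of_ok ok_aP

/-! ### `g ∈ C(zP)` -/

/-- `g ∈ M22` commutes with `zP` -/
def Cz (g : Equiv.Perm GolayPt) : Prop := g ∈ Spor.M22 ∧ g * pm zP = pm zP * g

/-- `g` maps `aP` to `aP` or `aP zP` -/
def Good (g : Equiv.Perm GolayPt) : Prop := g * pm aP = pm aP * g ∨ g * pm aP = pm aP * pm zP * g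

theorem Cz.mul {g h : Equiv.Perm GolayPt} (hg : Cz g) (hh : Cz h) : Cz (g * h) :=
  ⟨Spor.M22.mul_mem hg.1 hh.1, by rw [mul_assoc, hh.2, ← mul_assoc, hg.2, mul_assoc]⟩

theorem Cz.inv {g : Equiv.Perm GolayPt} (hg : Cz g) : Cz g⁻¹ :=
  ⟨Spor.M22.inv_mem hg.1, by rw [inv_mul_eq_iff_eq_mul, ← mul_assoc, hg.2, mul_inv_cancel_right]⟩

theorem az_comm : pm aP * pm zP = pm zP * pm aP := aP_comm zP_mem

theorem z_sq : pm zP * pm zP = 1 := InvM22.pm_sq

/-- `Good` is closed under `h g` -/
theorem Good.mul {g h : Equiv.Perm GolayPt} (hg : Good g) (hh : Good h) (hgz : Cz g) : Good (g * h) := by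
  rcases hh with hh | hh <;> rcases hg with hg | hg
  · left; rw [mul_assoc, hh, ← mul_assoc, hg, mul_assoc]
  · right; rw [mul_assoc, hh, ← mul_assoc, hg, mul_assoc]
  · right
    calc g * h * pm aP = g * (h * pm aP) := mul_assoc _ _ _
      _ = g * pm aP * pm zP * h := by rw [hh]; group
      _ = pm aP * (g * pm zP) * h := by rw [hg]; group
      _ = pm aP * pm zP * (g * h) := by rw [hgz.2]; group
  · left
    calc g * h * pm aP = g * (h * pm aP) := mul_assoc _ _ _
      _ = g * pm aP * pm zP * h := by rw [hh]; group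
      _ = pm aP * pm zP * (g * pm zP) * h := by rw [hg]; group
      _ = pm aP * (pm zP * pm zP) * (g * h) := by rw [hgz.2]; group
      _ = pm aP * (g * h) := by rw [z_sq]; group

/-- the test for the tables -/
def tst (P : ℕ) : Bool := ok22 P && weq [P, zP] [zP, P] && (weq [P, aP] [aP, P] || weq [P, aP] [aP, zP, P])

theorem of_tst {P : ℕ} (h : tst P = true) : isPerm P = true ∧ Cz (pm P) ∧ Good (pm P) := by
  unfold tst at h
  rw [Bool.and_eq_true, Bool.and_eq_true, Bool.or_eq_true] at h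
  obtain ⟨⟨h1, h2⟩, h3⟩ := h
  have hp := isPerm_of_ok (ok_of_ok22 h1)
  refine ⟨hp, ⟨pm_M22 h1, eq_two hp isPerm_z isPerm_z hp h2⟩, ?_⟩
  rcases h3 with h3 | h3
  · left; exact eq_two hp isPerm_a isPerm_a hp h3
  · right
    have h4 := El.pr_of_weq (okl_two hp isPerm_a) (okl_three isPerm_a isPerm_z hp) h3
    rwa [El.pr_cons, El.pr_one, El.pr_cons, El.pr_cons, El.pr_one, ← mul_assoc] at h4

theorem R1_tst : R1.all tst = true := by decide +kernel
theorem R2_tst : (R2.all fun P => tst P && Nat.beq (papp P 4) 4) = true := by decide +kernel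
theorem R3_tst : (R3.all fun P => tst P && Nat.beq (papp P 4) 4 && Nat.beq (papp P 1) 1) = true := by
  decide +kernel

/-- the moved points -/
theorem cov1 : (pts.all fun j => Nat.beq (papp zP j) j || R1.any fun P => Nat.beq (papp P 4) j) = true := by
  decide +kernel

/-- the fixed points -/
theorem cov2 : (pts.all fun j => !(Nat.beq (papp zP j) j) || Nat.beq j 23 || Nat.beq j 0 ||
    R2.any fun P => Nat.beq (papp P 1) j) = true := by decide +kernel

theorem cov3 : (pts.all fun j => !(Nat.beq (papp zP j) j) || Nat.beq j 23 || Nat.beq j 0 || Nat.beq j 1 ||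
    Nat.beq j 2 || R3.any fun P => Nat.beq (papp P 3) j) = true := by decide +kernel

/-- the octads through 23, 0, 4, 22 and 1 or 3 -/
def o1 : ℕ := 12656663
def o3 : ℕ := 12599513

theorem o1_mem : fin o1 ∈ octads :=
  (fin_mem_octads_iff (by norm_num [o1])).2 (by decide +kernel)
theorem o3_mem : fin o3 ∈ octads :=
  (fin_mem_octads_iff (by norm_num [o3])).2 (by decide +kernel)

/-- an element fixing five points of an octad maps the octad to itself -/
theorem oct_map {g : Equiv.Perm GolayPt} (hg : g ∈ M24) {m : ℕ} (hm : fin m ∈ octads) (l : List ℕ)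
    (hl : l.Nodup ∧ l.length = 5 ∧ ∀ i ∈ l, i < 24 ∧ m.testBit i = true) (hf : ∀ i ∈ l, val g i = i)
    {i : ℕ} (hi : i < 24) (him : m.testBit i = true) : m.testBit (val g i) = true := by
  obtain ⟨hnd, hlen, hlm⟩ := hl
  have hmem : ∀ j < 24, m.testBit j = true → pt j ∈ fin m := fun j hj h => by
    rw [mem_fin, idx_pt hj]; exact h
  have hfix : ∀ j ∈ l, g (pt j) = pt j := fun j hj => by
    have h1 := hf j hj
    rw [← El.pt_val, h1]
  have hsub : (l.map pt).toFinset ⊆ g • fin m ∩ fin m := by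
    intro q hq
    rw [List.mem_toFinset, List.mem_map] at hq
    obtain ⟨j, hj, rfl⟩ := hq
    rw [Finset.mem_inter]
    refine ⟨?_, hmem j (hlm j hj).1 (hlm j hj).2⟩
    have h2 := Finset.smul_mem_smul_finset (a := g) (hmem j (hlm j hj).1 (hlm j hj).2)
    have h3 : g • pt j = pt j := hfix j hj
    rwa [h3] at h2
  have hcard : (l.map pt).toFinset.card = 5 := by
    rw [List.toFinset_card_of_nodup, List.length_map, hlen]
    rw [List.nodup_map_iff_inj_on hnd]
    intro x hx y hy hxy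
    have h4 := congrArg idx hxy
    rwa [idx_pt (hlm x hx).1, idx_pt (hlm y hy).1] at h4
  have heq : g • fin m = fin m := by
    apply octad_unique (smul_mem_octads hg hm) hm
    rw [← hcard]
    exact Finset.card_le_card hsub
  have h5 := Finset.smul_mem_smul_finset (a := g) (hmem i hi him)
  rw [heq, mem_fin] at h5
  exact h5

theorem c1 : (pts.all fun j => !(o1.testBit j) || !(Nat.beq (papp zP j) j) || Nat.beq j 23 || Nat.beq j 0 ||
    Nat.beq j 1 || Nat.beq j 2) = true := by decide +kernel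

theorem c3 : (pts.all fun j => !(o3.testBit j) || !(Nat.beq (papp zP j) j) || Nat.beq j 23 || Nat.beq j 0 ||
    Nat.beq j 3 || Nat.beq j 14) = true := by decide +kernel

theorem z4 : papp zP 4 = 22 := by decide +kernel

/-- the frame -/
def fr : Fin 7 → GolayPt := ![none, some 0, some 1, some 2, some 3, some 14, some 4]

theorem adm_fr : Adm fr := ⟨by decide, O0, O0_mem, by decide, by decide⟩

theorem Cz.fixz {g : Equiv.Perm GolayPt} (hg : Cz g) {i : ℕ} (hi : i < 24) :
    papp zP i = i ↔ papp zP (val g i) = val g i := val_fix isPerm_z hg.2 hi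

theorem Cz.v23 {g : Equiv.Perm GolayPt} (hg : Cz g) : val g 23 = 23 :=
  val23 hg.1

theorem Cz.v0 {g : Equiv.Perm GolayPt} (hg : Cz g) : val g 0 = 0 := val0 hg.1

theorem Cz.v22 {g : Equiv.Perm GolayPt} (hg : Cz g) (h4 : val g 4 = 4) : val g 22 = 22 := by
  have h := val_comm isPerm_z hg.2 (i := 4) (by norm_num)
  rwa [h4, z4] at h

/-- `g` fixing 4 and 1 fixes 2 -/
theorem Cz.v2 {g : Equiv.Perm GolayPt} (hg : Cz g) (h4 : val g 4 = 4) (h1 : val g 1 = 1) : val g 2 = 2 := by
  have hM := M22_le24 hg.1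
  have h2 := oct_map hM o1_mem [23, 0, 4, 22, 1] (by decide +kernel) (by
    intro i hi
    simp only [List.mem_cons, List.not_mem_nil, or_false] at hi
    rcases hi with rfl | rfl | rfl | rfl | rfl
    · exact hg.v23
    · exact hg.v0
    · exact h4
    · exact hg.v22 h4
    · exact h1) (i := 2) (by norm_num) (by decide +kernel)
  have h3 := (hg.fixz (i := 2) (by norm_num)).1 (by decide +kernel)
  have h5 := List.all_eq_true.1 c1 _ (El.mem_pts (El.val_lt g 2))
  rw [h2, h3, Nat.beq_refl] at h5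
  simp only [Bool.not_true, Bool.false_or, Bool.or_eq_true, Nat.beq_eq] at h5
  rcases h5 with ((h5 | h5) | h5) | h5
  · exact absurd (El.val_inj (by norm_num) (by norm_num) (h5.trans hg.v23.symm)) (by norm_num)
  · exact absurd (El.val_inj (by norm_num) (by norm_num) (h5.trans hg.v0.symm)) (by norm_num)
  · exact absurd (El.val_inj (by norm_num) (by norm_num) (h5.trans h1.symm)) (by norm_num)
  · exact h5

theorem Cz.v14 {g : Equiv.Perm GolayPt} (hg : Cz g) (h4 : val g 4 = 4) (h1 : val g 3 = 3) : val g 14 = 14 := by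
  have hM := M22_le24 hg.1
  have h2 := oct_map hM o3_mem [23, 0, 4, 22, 3] (by decide +kernel) (by
    intro i hi
    simp only [List.mem_cons, List.not_mem_nil, or_false] at hi
    rcases hi with rfl | rfl | rfl | rfl | rfl
    · exact hg.v23
    · exact hg.v0
    · exact h4
    · exact hg.v22 h4
    · exact h1) (i := 14) (by norm_num) (by decide +kernel)
  have h3 := (hg.fixz (i := 14) (by norm_num)).1 (by decide +kernel)
  have h5 := List.all_eq_true.1 c3 _ (El.mem_pts (El.val_lt g 14))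
  rw [h2, h3, Nat.beq_refl] at h5
  simp only [Bool.not_true, Bool.false_or, Bool.or_eq_true, Nat.beq_eq] at h5
  rcases h5 with ((h5 | h5) | h5) | h5
  · exact absurd (El.val_inj (by norm_num) (by norm_num) (h5.trans hg.v23.symm)) (by norm_num)
  · exact absurd (El.val_inj (by norm_num) (by norm_num) (h5.trans hg.v0.symm)) (by norm_num)
  · exact absurd (El.val_inj (by norm_num) (by norm_num) (h5.trans h1.symm)) (by norm_num)
  · exact h5

/-- an element of `C(zP)` fixing 4, 1, 3 is trivial -/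
theorem Cz.eq_one {g : Equiv.Perm GolayPt} (hg : Cz g) (h4 : val g 4 = 4) (h1 : val g 1 = 1)
    (h3 : val g 3 = 3) : g = 1 := by
  apply eq_of_val adm_fr (M22_le24 hg.1) M24.one_mem
  have key : ∀ i < 24, val g i = i → val g i = val 1 i := fun i hi h => by rw [h, El.val_one hi]
  intro i
  fin_cases i
  · exact key 23 (by norm_num) hg.v23
  · exact key 0 (by norm_num) hg.v0
  · exact key 1 (by norm_num) h1
  · exact key 2 (by norm_num) (hg.v2 h4 h1)
  · exact key 3 (by norm_num) h3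
  · exact key 14 (by norm_num) (hg.v14 h4 h3)
  · exact key 4 (by norm_num) h4

theorem val_inv_mul {P : ℕ} {g : Equiv.Perm GolayPt} (hP : isPerm P = true) {i j : ℕ} (hi : i < 24) (_ : j < 24)
    (h : papp P i = val g j) : val ((pm P)⁻¹ * g) j = i := by
  apply El.val_inj (g := pm P) (El.val_lt _ _) hi
  rw [← El.val_mul, mul_inv_cancel_left, El.val_pm hP hi, h]

theorem good_one : Good 1 := Or.inl (by rw [one_mul, mul_one])

/-- **`C(zP)` maps `aP` to `aP` or `aP zP`.** -/
theorem map_a {g : Equiv.Perm GolayPt} (hg : Cz g) : Good g := by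
  -- step 3
  have s3 : ∀ g, Cz g → val g 4 = 4 → val g 1 = 1 → Good g := by
    intro g hg h4 h1
    have h3 := (hg.fixz (i := 3) (by norm_num)).1 (by decide +kernel)
    have h5 := List.all_eq_true.1 cov3 _ (El.mem_pts (El.val_lt g 3))
    rw [h3, Nat.beq_refl] at h5
    simp only [Bool.not_true, Bool.false_or, Bool.or_eq_true, Nat.beq_eq] at h5
    rcases h5 with (((h5 | h5) | h5) | h5) | h5
    · exact absurd (El.val_inj (by norm_num) (by norm_num) (h5.trans hg.v23.symm)) (by norm_num)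
    · exact absurd (El.val_inj (by norm_num) (by norm_num) (h5.trans hg.v0.symm)) (by norm_num)
    · exact absurd (El.val_inj (by norm_num) (by norm_num) (h5.trans h1.symm)) (by norm_num)
    · exact absurd (El.val_inj (by norm_num) (by norm_num) (h5.trans (hg.v2 h4 h1).symm)) (by norm_num)
    · obtain ⟨P, hP, h6⟩ := List.any_eq_true.1 h5
      have h7 := List.all_eq_true.1 R3_tst P hP
      rw [Bool.and_eq_true, Bool.and_eq_true, Nat.beq_eq, Nat.beq_eq] at h7
      obtain ⟨⟨h7, h8⟩, h9⟩ := h7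
      obtain ⟨hp, hc, hgood⟩ := of_tst h7
      have h10 : (pm P)⁻¹ * g = 1 := by
        apply (hc.inv.mul hg).eq_one
        · exact val_inv_mul hp (by norm_num) (by norm_num) (h8.trans h4.symm)
        · exact val_inv_mul hp (by norm_num) (by norm_num) (h9.trans h1.symm)
        · exact val_inv_mul hp (by norm_num) (by norm_num) (Nat.eq_of_beq_eq_true h6)
      rw [inv_mul_eq_one] at h10
      rw [← h10]
      exact hgood
  -- step 2
  have s2 : ∀ g, Cz g → val g 4 = 4 → Good g := by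
    intro g hg h4
    have h3 := (hg.fixz (i := 1) (by norm_num)).1 (by decide +kernel)
    have h5 := List.all_eq_true.1 cov2 _ (El.mem_pts (El.val_lt g 1))
    rw [h3, Nat.beq_refl] at h5
    simp only [Bool.not_true, Bool.false_or, Bool.or_eq_true, Nat.beq_eq] at h5
    rcases h5 with (h5 | h5) | h5
    · exact absurd (El.val_inj (by norm_num) (by norm_num) (h5.trans hg.v23.symm)) (by norm_num)
    · exact absurd (El.val_inj (by norm_num) (by norm_num) (h5.trans hg.v0.symm)) (by norm_num)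
    · obtain ⟨P, hP, h6⟩ := List.any_eq_true.1 h5
      have h7 := List.all_eq_true.1 R2_tst P hP
      rw [Bool.and_eq_true, Nat.beq_eq] at h7
      obtain ⟨hp, hc, hgood⟩ := of_tst h7.1
      have h10 := s3 _ (hc.inv.mul hg) (val_inv_mul hp (by norm_num) (by norm_num) (h7.2.trans h4.symm))
        (val_inv_mul hp (by norm_num) (by norm_num) (Nat.eq_of_beq_eq_true h6))
      have h11 := hgood.mul h10 hc
      rwa [mul_inv_cancel_left] at h11
  -- step 1
  have h3 : ¬ papp zP (val g 4) = val g 4 := fun h => by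
    have h4 := (hg.fixz (i := 4) (by norm_num)).2 h
    exact absurd h4 (by decide +kernel)
  have h5 := List.all_eq_true.1 cov1 _ (El.mem_pts (El.val_lt g 4))
  rw [Bool.or_eq_true, Nat.beq_eq] at h5
  rcases h5 with h5 | h5
  · exact absurd h5 h3
  · obtain ⟨P, hP, h6⟩ := List.any_eq_true.1 h5
    obtain ⟨hp, hc, hgood⟩ := of_tst (List.all_eq_true.1 R1_tst P hP)
    have h10 := s2 _ (hc.inv.mul hg) (val_inv_mul hp (by norm_num) (by norm_num) (Nat.eq_of_beq_eq_true h6))
    have h11 := hgood.mul h10 hc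
    rwa [mul_inv_cancel_left] at h11

/-- the elements of odd order of `C(zP)` commute with `aP` -/
theorem odd_comm {g : Equiv.Perm GolayPt} (hg : Cz g) (ho : Odd (orderOf g)) : g * pm aP = pm aP * g := by
  rcases map_a hg with h | h
  · exact h
  · exfalso
    have h1 : ∀ n : ℕ, g ^ n * pm aP = pm aP * pm zP ^ n * g ^ n := by
      intro n
      induction n with
      | zero => simp
      | succ n ih =>
        have h2 : g * pm zP ^ n = pm zP ^ n * g := by
          have : Commute g (pm zP) := hg.2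
          exact this.pow_right n
        calc g ^ (n + 1) * pm aP = g * (g ^ n * pm aP) := by rw [pow_succ', mul_assoc]
          _ = g * pm aP * pm zP ^ n * g ^ n := by rw [ih]; group
          _ = pm aP * pm zP * (g * pm zP ^ n) * g ^ n := by rw [h]; group
          _ = pm aP * pm zP ^ (n + 1) * g ^ (n + 1) := by rw [h2, pow_succ', pow_succ']; group
    obtain ⟨m, hm⟩ := ho
    have h2 := h1 (orderOf g)
    rw [pow_orderOf_eq_one, one_mul, mul_one, hm, pow_succ, pow_mul, pow_two, z_sq, one_pow, one_mul,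
      left_eq_mul] at h2
    exact InvM22.pm_ne h2

/-! ### Automorphisms -/

theorem D22_conj_mem {g x : Equiv.Perm GolayPt} (hg : g ∈ D22) (hx : x ∈ Spor.M22) : g * x * g⁻¹ ∈ Spor.M22 := by
  have h1 : g * x * g⁻¹ ∈ D22 :=
    D22.mul_mem (D22.mul_mem hg (Cfsg.Agent.J4Type.Aut22.M22_le_D22 hx)) (D22.inv_mem hg)
  rw [Cfsg.Agent.J4Type.Aut22.mem_M22_iff_D22]
  refine ⟨h1, ?_⟩
  obtain ⟨-, hx0, hx1⟩ := (Cfsg.Agent.SporadicA.MathieuRecog.mem_M22_iff x).1 hx
  rcases ((Cfsg.Agent.J4Type.Aut22.mem_D22_iff g).1 hg).2 with h | h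
  · have h2 : g⁻¹ none = none := by rw [Equiv.Perm.inv_eq_iff_eq, h.1]
    rw [Equiv.Perm.mul_apply, Equiv.Perm.mul_apply, h2, hx0, h.1]
  · have h2 : g⁻¹ none = some 0 := by rw [Equiv.Perm.inv_eq_iff_eq, h.2]
    rw [Equiv.Perm.mul_apply, Equiv.Perm.mul_apply, h2, hx1, h.2]

/-- the automorphism of `M22` induced by an element of `D22` -/
def autD (g : Equiv.Perm GolayPt) (hg : g ∈ D22) : MulAut Spor.M22 where
  toFun x := ⟨g * x * g⁻¹, D22_conj_mem hg x.2⟩
  invFun x := ⟨g⁻¹ * x * g, by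
    have := D22_conj_mem (D22.inv_mem hg) x.2
    rwa [inv_inv] at this⟩
  left_inv x := Subtype.ext (by
    change g⁻¹ * (g * x * g⁻¹) * g = x
    group)
  right_inv x := Subtype.ext (by
    change g * (g⁻¹ * x * g) * g⁻¹ = x
    group)
  map_mul' x y := Subtype.ext (by
    change g * (x * y) * g⁻¹ = g * x * g⁻¹ * (g * y * g⁻¹)
    group)

theorem autD_apply {g : Equiv.Perm GolayPt} (hg : g ∈ D22) (x : Spor.M22) :
    (autD g hg x : Equiv.Perm GolayPt) = g * x * g⁻¹ := rfl

theorem autD_sq {g : Equiv.Perm GolayPt} (hg : g ∈ D22) (h2 : g * g = 1) : autD g hg * autD g hg = 1 := by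
  apply MulEquiv.ext
  intro x
  apply Subtype.ext
  change g * (g * (x : Equiv.Perm GolayPt) * g⁻¹) * g⁻¹ = x
  calc g * (g * (x : Equiv.Perm GolayPt) * g⁻¹) * g⁻¹ = (g * g) * x * (g * g)⁻¹ := by group
    _ = x := by rw [h2]; group

theorem autD_outer {g : Equiv.Perm GolayPt} (hg : g ∈ D22) (hn : g ∉ Spor.M22) (x : Spor.M22) :
    autD g hg ≠ MulAut.conj x := by
  intro h
  apply hn
  have h1 : g = x := by
    refine eq_of_conj hg (Cfsg.Agent.J4Type.Aut22.M22_le_D22 x.2) fun y => ?_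
    have h2 := congrArg (fun f : MulAut Spor.M22 => (f y : Equiv.Perm GolayPt)) h
    exact h2
  rw [h1]
  exact x.2

theorem a_sq : pm aP * pm aP = 1 := eq_nil isPerm_a isPerm_a (by decide +kernel)

theorem a_not_mem : pm aP ∉ Spor.M22 := by
  intro h
  have h1 := ((Cfsg.Agent.SporadicA.MathieuRecog.mem_M22_iff _).1 h).2.1
  rw [pm_aP_none] at h1
  cases h1

theorem exists_conj_all (v : Spor.M22) (hv : v * v = 1) (hv1 : v ≠ 1) :
    ∃ g ∈ Spor.M22, (v : Equiv.Perm GolayPt) = g * pm zP * g⁻¹ :=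
  InvM22.inv22 v v.2 (congrArg Subtype.val hv) (fun h => hv1 (Subtype.ext h))

/-- the field `fixv` -/
theorem fixv (v : Spor.M22) (hv : v * v = 1) (hv1 : v ≠ 1) : ∃ β : MulAut Spor.M22, β * β = 1 ∧
    (∀ x, β ≠ MulAut.conj x) ∧ β v = v ∧ ∀ x, Odd (orderOf x) → x * v = v * x → β x = x := by
  obtain ⟨g, hg, e⟩ := exists_conj_all v hv hv1
  have hgD := Cfsg.Agent.J4Type.Aut22.M22_le_D22 hg
  have haD : g * pm aP * g⁻¹ ∈ D22 := D22.mul_mem (D22.mul_mem hgD pm_aP_D22) (D22.inv_mem hgD)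
  have key : ∀ x : Equiv.Perm GolayPt, (g⁻¹ * x * g) * pm aP = pm aP * (g⁻¹ * x * g) →
      g * pm aP * g⁻¹ * x * (g * pm aP * g⁻¹)⁻¹ = x := by
    intro x hx
    calc g * pm aP * g⁻¹ * x * (g * pm aP * g⁻¹)⁻¹ = g * (pm aP * (g⁻¹ * x * g)) * (pm aP)⁻¹ * g⁻¹ := by group
      _ = g * ((g⁻¹ * x * g) * pm aP) * (pm aP)⁻¹ * g⁻¹ := by rw [hx]
      _ = x := by group
  refine ⟨autD _ haD, autD_sq haD ?_, autD_outer haD ?_, ?_, ?_⟩
  · calc g * pm aP * g⁻¹ * (g * pm aP * g⁻¹) = g * (pm aP * pm aP) * g⁻¹ := by group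
      _ = 1 := by rw [a_sq]; group
  · intro h
    apply a_not_mem
    have h1 := Spor.M22.mul_mem (Spor.M22.mul_mem (Spor.M22.inv_mem hg) h) hg
    have h2 : g⁻¹ * (g * pm aP * g⁻¹) * g = pm aP := by group
    rwa [h2] at h1
  · apply Subtype.ext
    rw [autD_apply]
    apply key
    have h1 : g⁻¹ * (v : Equiv.Perm GolayPt) * g = pm zP := by rw [e]; group
    rw [h1, az_comm]
  · intro x hx hxv
    apply Subtype.ext
    rw [autD_apply]
    apply key
    apply odd_comm
    · refine ⟨Spor.M22.mul_mem (Spor.M22.mul_mem (Spor.M22.inv_mem hg) x.2) hg, ?_⟩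
      have h1 : (x : Equiv.Perm GolayPt) * (g * pm zP * g⁻¹) = g * pm zP * g⁻¹ * x := by
        rw [← e]; exact congrArg Subtype.val hxv
      calc g⁻¹ * (x : Equiv.Perm GolayPt) * g * pm zP = g⁻¹ * (x * (g * pm zP * g⁻¹)) * g := by group
        _ = g⁻¹ * (g * pm zP * g⁻¹ * x) * g := by rw [h1]
        _ = pm zP * (g⁻¹ * x * g) := by group
    · have h2 : orderOf (g⁻¹ * (x : Equiv.Perm GolayPt) * g⁻¹⁻¹) = orderOf (x : Equiv.Perm GolayPt) :=
        (MulAut.conj g⁻¹).orderOf_eq _
      rw [inv_inv] at h2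
      rw [h2, Subgroup.orderOf_coe]
      exact hx

/-- the field `fix2` -/
theorem fix2 (v : Spor.M22) (hv : v * v = 1) (hv1 : v ≠ 1) (β : MulAut Spor.M22) (_ : β v = v)
    (hβ : ∀ x, Odd (orderOf x) → x * v = v * x → β x = x) : β * β = 1 := by
  obtain ⟨h, hh, hβh⟩ := exists_D β
  obtain ⟨g, hg, e⟩ := exists_conj_all v hv hv1
  have hgD := Cfsg.Agent.J4Type.Aut22.M22_le_D22 hg
  have hsq : (g⁻¹ * h * g) * (g⁻¹ * h * g) = 1 := by
    apply sq_of_comm
    · exact D22.mul_mem (D22.mul_mem (D22.inv_mem hgD) hh) hgD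
    · intro d hd hd3 hdz
      have hy : g * d * g⁻¹ ∈ Spor.M22 := Spor.M22.mul_mem (Spor.M22.mul_mem hg hd) (Spor.M22.inv_mem hg)
      have h3 : β ⟨g * d * g⁻¹, hy⟩ = ⟨g * d * g⁻¹, hy⟩ := by
        apply hβ
        · have h4 : orderOf (⟨g * d * g⁻¹, hy⟩ : Spor.M22) ∣ 3 := by
            apply orderOf_dvd_of_pow_eq_one
            apply Subtype.ext
            show (g * d * g⁻¹) ^ 3 = 1
            calc (g * d * g⁻¹) ^ 3 = g * (d * d * d) * g⁻¹ := by rw [pow_succ, pow_two]; group
              _ = 1 := by rw [hd3]; group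
          exact Odd.of_dvd_nat (by decide) h4
        · apply Subtype.ext
          show g * d * g⁻¹ * v = v * (g * d * g⁻¹)
          rw [e]
          calc g * d * g⁻¹ * (g * pm zP * g⁻¹) = g * (d * pm zP) * g⁻¹ := by group
            _ = g * (pm zP * d) * g⁻¹ := by rw [hdz]
            _ = g * pm zP * g⁻¹ * (g * d * g⁻¹) := by group
      have h4 := congrArg Subtype.val h3
      rw [hβh] at h4
      have h5 : h * (g * d * g⁻¹) * h⁻¹ = g * d * g⁻¹ := h4
      have h6 : h * (g * d * g⁻¹) = g * d * g⁻¹ * h := by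
        calc h * (g * d * g⁻¹) = h * (g * d * g⁻¹) * h⁻¹ * h := by group
          _ = g * d * g⁻¹ * h := by rw [h5]
      calc g⁻¹ * h * g * d = g⁻¹ * (h * (g * d * g⁻¹)) * g := by group
        _ = g⁻¹ * (g * d * g⁻¹ * h) * g := by rw [h6]
        _ = d * (g⁻¹ * h * g) := by group
  have hh2 : h * h = 1 := by
    calc h * h = g * ((g⁻¹ * h * g) * (g⁻¹ * h * g)) * g⁻¹ := by group
      _ = 1 := by rw [hsq]; group
  apply MulEquiv.ext
  intro x
  apply Subtype.ext
  rw [MulAut.mul_apply, hβh, hβh]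
  calc h * (h * (x : Equiv.Perm GolayPt) * h⁻¹) * h⁻¹ = (h * h) * x * (h * h)⁻¹ := by group
    _ = x := by rw [hh2]; group

end Cfsg.Agent.OddHalf.D9.M22.UFact
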